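import Cfsg.Agent.Lib.Helper35.Fi23a.Data

set_option Elab.async false

namespace Cfsg.Agent.Lib.Helper35.Fi23a

open Cfsg.Agent.Lib.Helper35

theorem s0c0 : allBelow (fun k => fs0 (Nat.add (Nat.succ 0) k)) 1273 = true := by decide +kernel
theorem s0u0 : ∀ v, 1 ≤ v → v ≤ 1273 → fs0 v = true := slots_step fs0 0 1273 1273 (slots_zero fs0) s0c0 rfl
theorem s0c1 : allBelow (fun k => fs0 (Nat.add (Nat.succ 1273) k)) 1368 = true := by decide +kernel
theorem s0u1 : ∀ v, 1 ≤ v → v ≤ 2641 → fs0 v = true := slots_step fs0 1273 1368 2641 s0u0 s0c1 rfl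
theorem s0c2 : allBelow (fun k => fs0 (Nat.add (Nat.succ 2641) k)) 1497 = true := by decide +kernel
theorem s0u2 : ∀ v, 1 ≤ v → v ≤ 4138 → fs0 v = true := slots_step fs0 2641 1497 4138 s0u1 s0c2 rfl
theorem s0c3 : allBelow (fun k => fs0 (Nat.add (Nat.succ 4138) k)) 1571 = true := by decide +kernel
theorem s0u3 : ∀ v, 1 ≤ v → v ≤ 5709 → fs0 v = true := slots_step fs0 4138 1571 5709 s0u2 s0c3 rfl
theorem s0c4 : allBelow (fun k => fs0 (Nat.add (Nat.succ 5709) k)) 1602 = true := by decide +kernel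
theorem s0u4 : ∀ v, 1 ≤ v → v ≤ 7311 → fs0 v = true := slots_step fs0 5709 1602 7311 s0u3 s0c4 rfl
theorem s0c5 : allBelow (fun k => fs0 (Nat.add (Nat.succ 7311) k)) 1478 = true := by decide +kernel
theorem s0u5 : ∀ v, 1 ≤ v → v ≤ 8789 → fs0 v = true := slots_step fs0 7311 1478 8789 s0u4 s0c5 rfl
theorem s0c6 : allBelow (fun k => fs0 (Nat.add (Nat.succ 8789) k)) 1879 = true := by decide +kernel
theorem s0u6 : ∀ v, 1 ≤ v → v ≤ 10668 → fs0 v = true := slots_step fs0 8789 1879 10668 s0u5 s0c6 rfl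
theorem s0c7 : allBelow (fun k => fs0 (Nat.add (Nat.succ 10668) k)) 1674 = true := by decide +kernel
theorem s0u7 : ∀ v, 1 ≤ v → v ≤ 12342 → fs0 v = true := slots_step fs0 10668 1674 12342 s0u6 s0c7 rfl
theorem s0c8 : allBelow (fun k => fs0 (Nat.add (Nat.succ 12342) k)) 1835 = true := by decide +kernel
theorem s0u8 : ∀ v, 1 ≤ v → v ≤ 14177 → fs0 v = true := slots_step fs0 12342 1835 14177 s0u7 s0c8 rfl
theorem s0c9 : allBelow (fun k => fs0 (Nat.add (Nat.succ 14177) k)) 1573 = true := by decide +kernel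
theorem s0u9 : ∀ v, 1 ≤ v → v ≤ 15750 → fs0 v = true := slots_step fs0 14177 1573 15750 s0u8 s0c9 rfl
theorem s0c10 : allBelow (fun k => fs0 (Nat.add (Nat.succ 15750) k)) 2063 = true := by decide +kernel
theorem s0u10 : ∀ v, 1 ≤ v → v ≤ 17813 → fs0 v = true := slots_step fs0 15750 2063 17813 s0u9 s0c10 rfl
theorem s0c11 : allBelow (fun k => fs0 (Nat.add (Nat.succ 17813) k)) 1624 = true := by decide +kernel
theorem s0u11 : ∀ v, 1 ≤ v → v ≤ 19437 → fs0 v = true := slots_step fs0 17813 1624 19437 s0u10 s0c11 rfl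
theorem s0c12 : allBelow (fun k => fs0 (Nat.add (Nat.succ 19437) k)) 1989 = true := by decide +kernel
theorem s0u12 : ∀ v, 1 ≤ v → v ≤ 21426 → fs0 v = true := slots_step fs0 19437 1989 21426 s0u11 s0c12 rfl
theorem s0c13 : allBelow (fun k => fs0 (Nat.add (Nat.succ 21426) k)) 1446 = true := by decide +kernel
theorem s0u13 : ∀ v, 1 ≤ v → v ≤ 22872 → fs0 v = true := slots_step fs0 21426 1446 22872 s0u12 s0c13 rfl
theorem s0c14 : allBelow (fun k => fs0 (Nat.add (Nat.succ 22872) k)) 1715 = true := by decide +kernel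
theorem s0u14 : ∀ v, 1 ≤ v → v ≤ 24587 → fs0 v = true := slots_step fs0 22872 1715 24587 s0u13 s0c14 rfl
theorem s0c15 : allBelow (fun k => fs0 (Nat.add (Nat.succ 24587) k)) 1389 = true := by decide +kernel
theorem s0u15 : ∀ v, 1 ≤ v → v ≤ 25976 → fs0 v = true := slots_step fs0 24587 1389 25976 s0u14 s0c15 rfl
theorem s0c16 : allBelow (fun k => fs0 (Nat.add (Nat.succ 25976) k)) 1312 = true := by decide +kernel
theorem s0u16 : ∀ v, 1 ≤ v → v ≤ 27288 → fs0 v = true := slots_step fs0 25976 1312 27288 s0u15 s0c16 rfl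
theorem s0c17 : allBelow (fun k => fs0 (Nat.add (Nat.succ 27288) k)) 1240 = true := by decide +kernel
theorem s0u17 : ∀ v, 1 ≤ v → v ≤ 28528 → fs0 v = true := slots_step fs0 27288 1240 28528 s0u16 s0c17 rfl
theorem s0c18 : allBelow (fun k => fs0 (Nat.add (Nat.succ 28528) k)) 1278 = true := by decide +kernel
theorem s0u18 : ∀ v, 1 ≤ v → v ≤ 29806 → fs0 v = true := slots_step fs0 28528 1278 29806 s0u17 s0c18 rfl
theorem s0c19 : allBelow (fun k => fs0 (Nat.add (Nat.succ 29806) k)) 1271 = true := by decide +kernel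
theorem s0u19 : ∀ v, 1 ≤ v → v ≤ 31077 → fs0 v = true := slots_step fs0 29806 1271 31077 s0u18 s0c19 rfl
theorem s0c20 : allBelow (fun k => fs0 (Nat.add (Nat.succ 31077) k)) 1254 = true := by decide +kernel
theorem s0u20 : ∀ v, 1 ≤ v → v ≤ 32331 → fs0 v = true := slots_step fs0 31077 1254 32331 s0u19 s0c20 rfl
theorem s0c21 : allBelow (fun k => fs0 (Nat.add (Nat.succ 32331) k)) 1270 = true := by decide +kernel
theorem s0u21 : ∀ v, 1 ≤ v → v ≤ 33601 → fs0 v = true := slots_step fs0 32331 1270 33601 s0u20 s0c21 rfl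
theorem s0c22 : allBelow (fun k => fs0 (Nat.add (Nat.succ 33601) k)) 1278 = true := by decide +kernel
theorem s0u22 : ∀ v, 1 ≤ v → v ≤ 34879 → fs0 v = true := slots_step fs0 33601 1278 34879 s0u21 s0c22 rfl
theorem s0c23 : allBelow (fun k => fs0 (Nat.add (Nat.succ 34879) k)) 1277 = true := by decide +kernel
theorem s0u23 : ∀ v, 1 ≤ v → v ≤ 36156 → fs0 v = true := slots_step fs0 34879 1277 36156 s0u22 s0c23 rfl
theorem s0c24 : allBelow (fun k => fs0 (Nat.add (Nat.succ 36156) k)) 1332 = true := by decide +kernel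
theorem s0u24 : ∀ v, 1 ≤ v → v ≤ 37488 → fs0 v = true := slots_step fs0 36156 1332 37488 s0u23 s0c24 rfl
theorem s0c25 : allBelow (fun k => fs0 (Nat.add (Nat.succ 37488) k)) 1394 = true := by decide +kernel
theorem s0u25 : ∀ v, 1 ≤ v → v ≤ 38882 → fs0 v = true := slots_step fs0 37488 1394 38882 s0u24 s0c25 rfl
theorem s0c26 : allBelow (fun k => fs0 (Nat.add (Nat.succ 38882) k)) 1415 = true := by decide +kernel
theorem s0u26 : ∀ v, 1 ≤ v → v ≤ 40297 → fs0 v = true := slots_step fs0 38882 1415 40297 s0u25 s0c26 rfl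
theorem s0c27 : allBelow (fun k => fs0 (Nat.add (Nat.succ 40297) k)) 1309 = true := by decide +kernel
theorem s0u27 : ∀ v, 1 ≤ v → v ≤ 41606 → fs0 v = true := slots_step fs0 40297 1309 41606 s0u26 s0c27 rfl
theorem s0c28 : allBelow (fun k => fs0 (Nat.add (Nat.succ 41606) k)) 1216 = true := by decide +kernel
theorem s0u28 : ∀ v, 1 ≤ v → v ≤ 42822 → fs0 v = true := slots_step fs0 41606 1216 42822 s0u27 s0c28 rfl
theorem s0c29 : allBelow (fun k => fs0 (Nat.add (Nat.succ 42822) k)) 310 = true := by decide +kernel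
theorem s0u29 : ∀ v, 1 ≤ v → v ≤ 43132 → fs0 v = true := slots_step fs0 42822 310 43132 s0u28 s0c29 rfl
theorem s1c0 : allBelow (fun k => fs1 (Nat.add (Nat.succ 0) k)) 1282 = true := by decide +kernel
theorem s1u0 : ∀ v, 1 ≤ v → v ≤ 1282 → fs1 v = true := slots_step fs1 0 1282 1282 (slots_zero fs1) s1c0 rfl
theorem s1c1 : allBelow (fun k => fs1 (Nat.add (Nat.succ 1282) k)) 1359 = true := by decide +kernel
theorem s1u1 : ∀ v, 1 ≤ v → v ≤ 2641 → fs1 v = true := slots_step fs1 1282 1359 2641 s1u0 s1c1 rfl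
theorem s1c2 : allBelow (fun k => fs1 (Nat.add (Nat.succ 2641) k)) 1486 = true := by decide +kernel
theorem s1u2 : ∀ v, 1 ≤ v → v ≤ 4127 → fs1 v = true := slots_step fs1 2641 1486 4127 s1u1 s1c2 rfl
theorem s1c3 : allBelow (fun k => fs1 (Nat.add (Nat.succ 4127) k)) 1574 = true := by decide +kernel
theorem s1u3 : ∀ v, 1 ≤ v → v ≤ 5701 → fs1 v = true := slots_step fs1 4127 1574 5701 s1u2 s1c3 rfl
theorem s1c4 : allBelow (fun k => fs1 (Nat.add (Nat.succ 5701) k)) 1585 = true := by decide +kernel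
theorem s1u4 : ∀ v, 1 ≤ v → v ≤ 7286 → fs1 v = true := slots_step fs1 5701 1585 7286 s1u3 s1c4 rfl
theorem s1c5 : allBelow (fun k => fs1 (Nat.add (Nat.succ 7286) k)) 1540 = true := by decide +kernel
theorem s1u5 : ∀ v, 1 ≤ v → v ≤ 8826 → fs1 v = true := slots_step fs1 7286 1540 8826 s1u4 s1c5 rfl
theorem s1c6 : allBelow (fun k => fs1 (Nat.add (Nat.succ 8826) k)) 1860 = true := by decide +kernel
theorem s1u6 : ∀ v, 1 ≤ v → v ≤ 10686 → fs1 v = true := slots_step fs1 8826 1860 10686 s1u5 s1c6 rfl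
theorem s1c7 : allBelow (fun k => fs1 (Nat.add (Nat.succ 10686) k)) 1698 = true := by decide +kernel
theorem s1u7 : ∀ v, 1 ≤ v → v ≤ 12384 → fs1 v = true := slots_step fs1 10686 1698 12384 s1u6 s1c7 rfl
theorem s1c8 : allBelow (fun k => fs1 (Nat.add (Nat.succ 12384) k)) 1867 = true := by decide +kernel
theorem s1u8 : ∀ v, 1 ≤ v → v ≤ 14251 → fs1 v = true := slots_step fs1 12384 1867 14251 s1u7 s1c8 rfl
theorem s1c9 : allBelow (fun k => fs1 (Nat.add (Nat.succ 14251) k)) 1641 = true := by decide +kernel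
theorem s1u9 : ∀ v, 1 ≤ v → v ≤ 15892 → fs1 v = true := slots_step fs1 14251 1641 15892 s1u8 s1c9 rfl
theorem s1c10 : allBelow (fun k => fs1 (Nat.add (Nat.succ 15892) k)) 1995 = true := by decide +kernel
theorem s1u10 : ∀ v, 1 ≤ v → v ≤ 17887 → fs1 v = true := slots_step fs1 15892 1995 17887 s1u9 s1c10 rfl
theorem s1c11 : allBelow (fun k => fs1 (Nat.add (Nat.succ 17887) k)) 1670 = true := by decide +kernel
theorem s1u11 : ∀ v, 1 ≤ v → v ≤ 19557 → fs1 v = true := slots_step fs1 17887 1670 19557 s1u10 s1c11 rfl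
theorem s1c12 : allBelow (fun k => fs1 (Nat.add (Nat.succ 19557) k)) 2048 = true := by decide +kernel
theorem s1u12 : ∀ v, 1 ≤ v → v ≤ 21605 → fs1 v = true := slots_step fs1 19557 2048 21605 s1u11 s1c12 rfl
theorem s1c13 : allBelow (fun k => fs1 (Nat.add (Nat.succ 21605) k)) 1573 = true := by decide +kernel
theorem s1u13 : ∀ v, 1 ≤ v → v ≤ 23178 → fs1 v = true := slots_step fs1 21605 1573 23178 s1u12 s1c13 rfl
theorem s1c14 : allBelow (fun k => fs1 (Nat.add (Nat.succ 23178) k)) 1739 = true := by decide +kernel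
theorem s1u14 : ∀ v, 1 ≤ v → v ≤ 24917 → fs1 v = true := slots_step fs1 23178 1739 24917 s1u13 s1c14 rfl
theorem s1c15 : allBelow (fun k => fs1 (Nat.add (Nat.succ 24917) k)) 1290 = true := by decide +kernel
theorem s1u15 : ∀ v, 1 ≤ v → v ≤ 26207 → fs1 v = true := slots_step fs1 24917 1290 26207 s1u14 s1c15 rfl
theorem s1c16 : allBelow (fun k => fs1 (Nat.add (Nat.succ 26207) k)) 1290 = true := by decide +kernel
theorem s1u16 : ∀ v, 1 ≤ v → v ≤ 27497 → fs1 v = true := slots_step fs1 26207 1290 27497 s1u15 s1c16 rfl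
theorem s1c17 : allBelow (fun k => fs1 (Nat.add (Nat.succ 27497) k)) 1241 = true := by decide +kernel
theorem s1u17 : ∀ v, 1 ≤ v → v ≤ 28738 → fs1 v = true := slots_step fs1 27497 1241 28738 s1u16 s1c17 rfl
theorem s1c18 : allBelow (fun k => fs1 (Nat.add (Nat.succ 28738) k)) 1251 = true := by decide +kernel
theorem s1u18 : ∀ v, 1 ≤ v → v ≤ 29989 → fs1 v = true := slots_step fs1 28738 1251 29989 s1u17 s1c18 rfl
theorem s1c19 : allBelow (fun k => fs1 (Nat.add (Nat.succ 29989) k)) 1300 = true := by decide +kernel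
theorem s1u19 : ∀ v, 1 ≤ v → v ≤ 31289 → fs1 v = true := slots_step fs1 29989 1300 31289 s1u18 s1c19 rfl
theorem s1c20 : allBelow (fun k => fs1 (Nat.add (Nat.succ 31289) k)) 1241 = true := by decide +kernel
theorem s1u20 : ∀ v, 1 ≤ v → v ≤ 32530 → fs1 v = true := slots_step fs1 31289 1241 32530 s1u19 s1c20 rfl
theorem s1c21 : allBelow (fun k => fs1 (Nat.add (Nat.succ 32530) k)) 1237 = true := by decide +kernel
theorem s1u21 : ∀ v, 1 ≤ v → v ≤ 33767 → fs1 v = true := slots_step fs1 32530 1237 33767 s1u20 s1c21 rfl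
theorem s1c22 : allBelow (fun k => fs1 (Nat.add (Nat.succ 33767) k)) 1238 = true := by decide +kernel
theorem s1u22 : ∀ v, 1 ≤ v → v ≤ 35005 → fs1 v = true := slots_step fs1 33767 1238 35005 s1u21 s1c22 rfl
theorem s1c23 : allBelow (fun k => fs1 (Nat.add (Nat.succ 35005) k)) 1298 = true := by decide +kernel
theorem s1u23 : ∀ v, 1 ≤ v → v ≤ 36303 → fs1 v = true := slots_step fs1 35005 1298 36303 s1u22 s1c23 rfl
theorem s1c24 : allBelow (fun k => fs1 (Nat.add (Nat.succ 36303) k)) 1397 = true := by decide +kernel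
theorem s1u24 : ∀ v, 1 ≤ v → v ≤ 37700 → fs1 v = true := slots_step fs1 36303 1397 37700 s1u23 s1c24 rfl
theorem s1c25 : allBelow (fun k => fs1 (Nat.add (Nat.succ 37700) k)) 1375 = true := by decide +kernel
theorem s1u25 : ∀ v, 1 ≤ v → v ≤ 39075 → fs1 v = true := slots_step fs1 37700 1375 39075 s1u24 s1c25 rfl
theorem s1c26 : allBelow (fun k => fs1 (Nat.add (Nat.succ 39075) k)) 1287 = true := by decide +kernel
theorem s1u26 : ∀ v, 1 ≤ v → v ≤ 40362 → fs1 v = true := slots_step fs1 39075 1287 40362 s1u25 s1c26 rfl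
theorem s1c27 : allBelow (fun k => fs1 (Nat.add (Nat.succ 40362) k)) 1205 = true := by decide +kernel
theorem s1u27 : ∀ v, 1 ≤ v → v ≤ 41567 → fs1 v = true := slots_step fs1 40362 1205 41567 s1u26 s1c27 rfl
theorem s1c28 : allBelow (fun k => fs1 (Nat.add (Nat.succ 41567) k)) 1228 = true := by decide +kernel
theorem s1u28 : ∀ v, 1 ≤ v → v ≤ 42795 → fs1 v = true := slots_step fs1 41567 1228 42795 s1u27 s1c28 rfl
theorem s1c29 : allBelow (fun k => fs1 (Nat.add (Nat.succ 42795) k)) 337 = true := by decide +kernel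
theorem s1u29 : ∀ v, 1 ≤ v → v ≤ 43132 → fs1 v = true := slots_step fs1 42795 337 43132 s1u28 s1c29 rfl
theorem s2c0 : allBelow (fun k => fs2 (Nat.add (Nat.succ 0) k)) 1295 = true := by decide +kernel
theorem s2u0 : ∀ v, 1 ≤ v → v ≤ 1295 → fs2 v = true := slots_step fs2 0 1295 1295 (slots_zero fs2) s2c0 rfl
theorem s2c1 : allBelow (fun k => fs2 (Nat.add (Nat.succ 1295) k)) 1373 = true := by decide +kernel
theorem s2u1 : ∀ v, 1 ≤ v → v ≤ 2668 → fs2 v = true := slots_step fs2 1295 1373 2668 s2u0 s2c1 rfl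
theorem s2c2 : allBelow (fun k => fs2 (Nat.add (Nat.succ 2668) k)) 1471 = true := by decide +kernel
theorem s2u2 : ∀ v, 1 ≤ v → v ≤ 4139 → fs2 v = true := slots_step fs2 2668 1471 4139 s2u1 s2c2 rfl
theorem s2c3 : allBelow (fun k => fs2 (Nat.add (Nat.succ 4139) k)) 1560 = true := by decide +kernel
theorem s2u3 : ∀ v, 1 ≤ v → v ≤ 5699 → fs2 v = true := slots_step fs2 4139 1560 5699 s2u2 s2c3 rfl
theorem s2c4 : allBelow (fun k => fs2 (Nat.add (Nat.succ 5699) k)) 1559 = true := by decide +kernel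
theorem s2u4 : ∀ v, 1 ≤ v → v ≤ 7258 → fs2 v = true := slots_step fs2 5699 1559 7258 s2u3 s2c4 rfl
theorem s2c5 : allBelow (fun k => fs2 (Nat.add (Nat.succ 7258) k)) 1540 = true := by decide +kernel
theorem s2u5 : ∀ v, 1 ≤ v → v ≤ 8798 → fs2 v = true := slots_step fs2 7258 1540 8798 s2u4 s2c5 rfl
theorem s2c6 : allBelow (fun k => fs2 (Nat.add (Nat.succ 8798) k)) 1804 = true := by decide +kernel
theorem s2u6 : ∀ v, 1 ≤ v → v ≤ 10602 → fs2 v = true := slots_step fs2 8798 1804 10602 s2u5 s2c6 rfl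
theorem s2c7 : allBelow (fun k => fs2 (Nat.add (Nat.succ 10602) k)) 1616 = true := by decide +kernel
theorem s2u7 : ∀ v, 1 ≤ v → v ≤ 12218 → fs2 v = true := slots_step fs2 10602 1616 12218 s2u6 s2c7 rfl
theorem s2c8 : allBelow (fun k => fs2 (Nat.add (Nat.succ 12218) k)) 1817 = true := by decide +kernel
theorem s2u8 : ∀ v, 1 ≤ v → v ≤ 14035 → fs2 v = true := slots_step fs2 12218 1817 14035 s2u7 s2c8 rfl
theorem s2c9 : allBelow (fun k => fs2 (Nat.add (Nat.succ 14035) k)) 1596 = true := by decide +kernel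
theorem s2u9 : ∀ v, 1 ≤ v → v ≤ 15631 → fs2 v = true := slots_step fs2 14035 1596 15631 s2u8 s2c9 rfl
theorem s2c10 : allBelow (fun k => fs2 (Nat.add (Nat.succ 15631) k)) 2039 = true := by decide +kernel
theorem s2u10 : ∀ v, 1 ≤ v → v ≤ 17670 → fs2 v = true := slots_step fs2 15631 2039 17670 s2u9 s2c10 rfl
theorem s2c11 : allBelow (fun k => fs2 (Nat.add (Nat.succ 17670) k)) 1606 = true := by decide +kernel
theorem s2u11 : ∀ v, 1 ≤ v → v ≤ 19276 → fs2 v = true := slots_step fs2 17670 1606 19276 s2u10 s2c11 rfl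
theorem s2c12 : allBelow (fun k => fs2 (Nat.add (Nat.succ 19276) k)) 1872 = true := by decide +kernel
theorem s2u12 : ∀ v, 1 ≤ v → v ≤ 21148 → fs2 v = true := slots_step fs2 19276 1872 21148 s2u11 s2c12 rfl
theorem s2c13 : allBelow (fun k => fs2 (Nat.add (Nat.succ 21148) k)) 1619 = true := by decide +kernel
theorem s2u13 : ∀ v, 1 ≤ v → v ≤ 22767 → fs2 v = true := slots_step fs2 21148 1619 22767 s2u12 s2c13 rfl
theorem s2c14 : allBelow (fun k => fs2 (Nat.add (Nat.succ 22767) k)) 1727 = true := by decide +kernel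
theorem s2u14 : ∀ v, 1 ≤ v → v ≤ 24494 → fs2 v = true := slots_step fs2 22767 1727 24494 s2u13 s2c14 rfl
theorem s2c15 : allBelow (fun k => fs2 (Nat.add (Nat.succ 24494) k)) 1393 = true := by decide +kernel
theorem s2u15 : ∀ v, 1 ≤ v → v ≤ 25887 → fs2 v = true := slots_step fs2 24494 1393 25887 s2u14 s2c15 rfl
theorem s2c16 : allBelow (fun k => fs2 (Nat.add (Nat.succ 25887) k)) 1283 = true := by decide +kernel
theorem s2u16 : ∀ v, 1 ≤ v → v ≤ 27170 → fs2 v = true := slots_step fs2 25887 1283 27170 s2u15 s2c16 rfl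
theorem s2c17 : allBelow (fun k => fs2 (Nat.add (Nat.succ 27170) k)) 1221 = true := by decide +kernel
theorem s2u17 : ∀ v, 1 ≤ v → v ≤ 28391 → fs2 v = true := slots_step fs2 27170 1221 28391 s2u16 s2c17 rfl
theorem s2c18 : allBelow (fun k => fs2 (Nat.add (Nat.succ 28391) k)) 1270 = true := by decide +kernel
theorem s2u18 : ∀ v, 1 ≤ v → v ≤ 29661 → fs2 v = true := slots_step fs2 28391 1270 29661 s2u17 s2c18 rfl
theorem s2c19 : allBelow (fun k => fs2 (Nat.add (Nat.succ 29661) k)) 1221 = true := by decide +kernel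
theorem s2u19 : ∀ v, 1 ≤ v → v ≤ 30882 → fs2 v = true := slots_step fs2 29661 1221 30882 s2u18 s2c19 rfl
theorem s2c20 : allBelow (fun k => fs2 (Nat.add (Nat.succ 30882) k)) 1215 = true := by decide +kernel
theorem s2u20 : ∀ v, 1 ≤ v → v ≤ 32097 → fs2 v = true := slots_step fs2 30882 1215 32097 s2u19 s2c20 rfl
theorem s2c21 : allBelow (fun k => fs2 (Nat.add (Nat.succ 32097) k)) 1283 = true := by decide +kernel
theorem s2u21 : ∀ v, 1 ≤ v → v ≤ 33380 → fs2 v = true := slots_step fs2 32097 1283 33380 s2u20 s2c21 rfl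
theorem s2c22 : allBelow (fun k => fs2 (Nat.add (Nat.succ 33380) k)) 1297 = true := by decide +kernel
theorem s2u22 : ∀ v, 1 ≤ v → v ≤ 34677 → fs2 v = true := slots_step fs2 33380 1297 34677 s2u21 s2c22 rfl
theorem s2c23 : allBelow (fun k => fs2 (Nat.add (Nat.succ 34677) k)) 1333 = true := by decide +kernel
theorem s2u23 : ∀ v, 1 ≤ v → v ≤ 36010 → fs2 v = true := slots_step fs2 34677 1333 36010 s2u22 s2c23 rfl
theorem s2c24 : allBelow (fun k => fs2 (Nat.add (Nat.succ 36010) k)) 1393 = true := by decide +kernel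
theorem s2u24 : ∀ v, 1 ≤ v → v ≤ 37403 → fs2 v = true := slots_step fs2 36010 1393 37403 s2u23 s2c24 rfl
theorem s2c25 : allBelow (fun k => fs2 (Nat.add (Nat.succ 37403) k)) 1317 = true := by decide +kernel
theorem s2u25 : ∀ v, 1 ≤ v → v ≤ 38720 → fs2 v = true := slots_step fs2 37403 1317 38720 s2u24 s2c25 rfl
theorem s2c26 : allBelow (fun k => fs2 (Nat.add (Nat.succ 38720) k)) 1226 = true := by decide +kernel
theorem s2u26 : ∀ v, 1 ≤ v → v ≤ 39946 → fs2 v = true := slots_step fs2 38720 1226 39946 s2u25 s2c26 rfl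
theorem s2c27 : allBelow (fun k => fs2 (Nat.add (Nat.succ 39946) k)) 1181 = true := by decide +kernel
theorem s2u27 : ∀ v, 1 ≤ v → v ≤ 41127 → fs2 v = true := slots_step fs2 39946 1181 41127 s2u26 s2c27 rfl
theorem s2c28 : allBelow (fun k => fs2 (Nat.add (Nat.succ 41127) k)) 1309 = true := by decide +kernel
theorem s2u28 : ∀ v, 1 ≤ v → v ≤ 42436 → fs2 v = true := slots_step fs2 41127 1309 42436 s2u27 s2c28 rfl
theorem s2c29 : allBelow (fun k => fs2 (Nat.add (Nat.succ 42436) k)) 696 = true := by decide +kernel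
theorem s2u29 : ∀ v, 1 ≤ v → v ≤ 43132 → fs2 v = true := slots_step fs2 42436 696 43132 s2u28 s2c29 rfl
theorem s3c0 : allBelow (fun k => fs3 (Nat.add (Nat.succ 0) k)) 1311 = true := by decide +kernel
theorem s3u0 : ∀ v, 1 ≤ v → v ≤ 1311 → fs3 v = true := slots_step fs3 0 1311 1311 (slots_zero fs3) s3c0 rfl
theorem s3c1 : allBelow (fun k => fs3 (Nat.add (Nat.succ 1311) k)) 1368 = true := by decide +kernel
theorem s3u1 : ∀ v, 1 ≤ v → v ≤ 2679 → fs3 v = true := slots_step fs3 1311 1368 2679 s3u0 s3c1 rfl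
theorem s3c2 : allBelow (fun k => fs3 (Nat.add (Nat.succ 2679) k)) 1450 = true := by decide +kernel
theorem s3u2 : ∀ v, 1 ≤ v → v ≤ 4129 → fs3 v = true := slots_step fs3 2679 1450 4129 s3u1 s3c2 rfl
theorem s3c3 : allBelow (fun k => fs3 (Nat.add (Nat.succ 4129) k)) 1532 = true := by decide +kernel
theorem s3u3 : ∀ v, 1 ≤ v → v ≤ 5661 → fs3 v = true := slots_step fs3 4129 1532 5661 s3u2 s3c3 rfl
theorem s3c4 : allBelow (fun k => fs3 (Nat.add (Nat.succ 5661) k)) 1474 = true := by decide +kernel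
theorem s3u4 : ∀ v, 1 ≤ v → v ≤ 7135 → fs3 v = true := slots_step fs3 5661 1474 7135 s3u3 s3c4 rfl
theorem s3c5 : allBelow (fun k => fs3 (Nat.add (Nat.succ 7135) k)) 1559 = true := by decide +kernel
theorem s3u5 : ∀ v, 1 ≤ v → v ≤ 8694 → fs3 v = true := slots_step fs3 7135 1559 8694 s3u4 s3c5 rfl
theorem s3c6 : allBelow (fun k => fs3 (Nat.add (Nat.succ 8694) k)) 1779 = true := by decide +kernel
theorem s3u6 : ∀ v, 1 ≤ v → v ≤ 10473 → fs3 v = true := slots_step fs3 8694 1779 10473 s3u5 s3c6 rfl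
theorem s3c7 : allBelow (fun k => fs3 (Nat.add (Nat.succ 10473) k)) 1478 = true := by decide +kernel
theorem s3u7 : ∀ v, 1 ≤ v → v ≤ 11951 → fs3 v = true := slots_step fs3 10473 1478 11951 s3u6 s3c7 rfl
theorem s3c8 : allBelow (fun k => fs3 (Nat.add (Nat.succ 11951) k)) 1873 = true := by decide +kernel
theorem s3u8 : ∀ v, 1 ≤ v → v ≤ 13824 → fs3 v = true := slots_step fs3 11951 1873 13824 s3u7 s3c8 rfl
theorem s3c9 : allBelow (fun k => fs3 (Nat.add (Nat.succ 13824) k)) 1516 = true := by decide +kernel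
theorem s3u9 : ∀ v, 1 ≤ v → v ≤ 15340 → fs3 v = true := slots_step fs3 13824 1516 15340 s3u8 s3c9 rfl
theorem s3c10 : allBelow (fun k => fs3 (Nat.add (Nat.succ 15340) k)) 1876 = true := by decide +kernel
theorem s3u10 : ∀ v, 1 ≤ v → v ≤ 17216 → fs3 v = true := slots_step fs3 15340 1876 17216 s3u9 s3c10 rfl
theorem s3c11 : allBelow (fun k => fs3 (Nat.add (Nat.succ 17216) k)) 1588 = true := by decide +kernel
theorem s3u11 : ∀ v, 1 ≤ v → v ≤ 18804 → fs3 v = true := slots_step fs3 17216 1588 18804 s3u10 s3c11 rfl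
theorem s3c12 : allBelow (fun k => fs3 (Nat.add (Nat.succ 18804) k)) 1536 = true := by decide +kernel
theorem s3u12 : ∀ v, 1 ≤ v → v ≤ 20340 → fs3 v = true := slots_step fs3 18804 1536 20340 s3u11 s3c12 rfl
theorem s3c13 : allBelow (fun k => fs3 (Nat.add (Nat.succ 20340) k)) 1823 = true := by decide +kernel
theorem s3u13 : ∀ v, 1 ≤ v → v ≤ 22163 → fs3 v = true := slots_step fs3 20340 1823 22163 s3u12 s3c13 rfl
theorem s3c14 : allBelow (fun k => fs3 (Nat.add (Nat.succ 22163) k)) 1608 = true := by decide +kernel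
theorem s3u14 : ∀ v, 1 ≤ v → v ≤ 23771 → fs3 v = true := slots_step fs3 22163 1608 23771 s3u13 s3c14 rfl
theorem s3c15 : allBelow (fun k => fs3 (Nat.add (Nat.succ 23771) k)) 1542 = true := by decide +kernel
theorem s3u15 : ∀ v, 1 ≤ v → v ≤ 25313 → fs3 v = true := slots_step fs3 23771 1542 25313 s3u14 s3c15 rfl
theorem s3c16 : allBelow (fun k => fs3 (Nat.add (Nat.succ 25313) k)) 1247 = true := by decide +kernel
theorem s3u16 : ∀ v, 1 ≤ v → v ≤ 26560 → fs3 v = true := slots_step fs3 25313 1247 26560 s3u15 s3c16 rfl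
theorem s3c17 : allBelow (fun k => fs3 (Nat.add (Nat.succ 26560) k)) 1270 = true := by decide +kernel
theorem s3u17 : ∀ v, 1 ≤ v → v ≤ 27830 → fs3 v = true := slots_step fs3 26560 1270 27830 s3u16 s3c17 rfl
theorem s3c18 : allBelow (fun k => fs3 (Nat.add (Nat.succ 27830) k)) 1213 = true := by decide +kernel
theorem s3u18 : ∀ v, 1 ≤ v → v ≤ 29043 → fs3 v = true := slots_step fs3 27830 1213 29043 s3u17 s3c18 rfl
theorem s3c19 : allBelow (fun k => fs3 (Nat.add (Nat.succ 29043) k)) 1218 = true := by decide +kernel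
theorem s3u19 : ∀ v, 1 ≤ v → v ≤ 30261 → fs3 v = true := slots_step fs3 29043 1218 30261 s3u18 s3c19 rfl
theorem s3c20 : allBelow (fun k => fs3 (Nat.add (Nat.succ 30261) k)) 1290 = true := by decide +kernel
theorem s3u20 : ∀ v, 1 ≤ v → v ≤ 31551 → fs3 v = true := slots_step fs3 30261 1290 31551 s3u19 s3c20 rfl
theorem s3c21 : allBelow (fun k => fs3 (Nat.add (Nat.succ 31551) k)) 1305 = true := by decide +kernel
theorem s3u21 : ∀ v, 1 ≤ v → v ≤ 32856 → fs3 v = true := slots_step fs3 31551 1305 32856 s3u20 s3c21 rfl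
theorem s3c22 : allBelow (fun k => fs3 (Nat.add (Nat.succ 32856) k)) 1321 = true := by decide +kernel
theorem s3u22 : ∀ v, 1 ≤ v → v ≤ 34177 → fs3 v = true := slots_step fs3 32856 1321 34177 s3u21 s3c22 rfl
theorem s3c23 : allBelow (fun k => fs3 (Nat.add (Nat.succ 34177) k)) 1360 = true := by decide +kernel
theorem s3u23 : ∀ v, 1 ≤ v → v ≤ 35537 → fs3 v = true := slots_step fs3 34177 1360 35537 s3u22 s3c23 rfl
theorem s3c24 : allBelow (fun k => fs3 (Nat.add (Nat.succ 35537) k)) 1348 = true := by decide +kernel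
theorem s3u24 : ∀ v, 1 ≤ v → v ≤ 36885 → fs3 v = true := slots_step fs3 35537 1348 36885 s3u23 s3c24 rfl
theorem s3c25 : allBelow (fun k => fs3 (Nat.add (Nat.succ 36885) k)) 1231 = true := by decide +kernel
theorem s3u25 : ∀ v, 1 ≤ v → v ≤ 38116 → fs3 v = true := slots_step fs3 36885 1231 38116 s3u24 s3c25 rfl
theorem s3c26 : allBelow (fun k => fs3 (Nat.add (Nat.succ 38116) k)) 1232 = true := by decide +kernel
theorem s3u26 : ∀ v, 1 ≤ v → v ≤ 39348 → fs3 v = true := slots_step fs3 38116 1232 39348 s3u25 s3c26 rfl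
theorem s3c27 : allBelow (fun k => fs3 (Nat.add (Nat.succ 39348) k)) 1276 = true := by decide +kernel
theorem s3u27 : ∀ v, 1 ≤ v → v ≤ 40624 → fs3 v = true := slots_step fs3 39348 1276 40624 s3u26 s3c27 rfl
theorem s3c28 : allBelow (fun k => fs3 (Nat.add (Nat.succ 40624) k)) 1337 = true := by decide +kernel
theorem s3u28 : ∀ v, 1 ≤ v → v ≤ 41961 → fs3 v = true := slots_step fs3 40624 1337 41961 s3u27 s3c28 rfl
theorem s3c29 : allBelow (fun k => fs3 (Nat.add (Nat.succ 41961) k)) 1138 = true := by decide +kernel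
theorem s3u29 : ∀ v, 1 ≤ v → v ≤ 43099 → fs3 v = true := slots_step fs3 41961 1138 43099 s3u28 s3c29 rfl
theorem s3c30 : allBelow (fun k => fs3 (Nat.add (Nat.succ 43099) k)) 33 = true := by decide +kernel
theorem s3u30 : ∀ v, 1 ≤ v → v ≤ 43132 → fs3 v = true := slots_step fs3 43099 33 43132 s3u29 s3c30 rfl
theorem s4c0 : allBelow (fun k => fs4 (Nat.add (Nat.succ 0) k)) 1342 = true := by decide +kernel
theorem s4u0 : ∀ v, 1 ≤ v → v ≤ 1342 → fs4 v = true := slots_step fs4 0 1342 1342 (slots_zero fs4) s4c0 rfl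
theorem s4c1 : allBelow (fun k => fs4 (Nat.add (Nat.succ 1342) k)) 1376 = true := by decide +kernel
theorem s4u1 : ∀ v, 1 ≤ v → v ≤ 2718 → fs4 v = true := slots_step fs4 1342 1376 2718 s4u0 s4c1 rfl
theorem s4c2 : allBelow (fun k => fs4 (Nat.add (Nat.succ 2718) k)) 1452 = true := by decide +kernel
theorem s4u2 : ∀ v, 1 ≤ v → v ≤ 4170 → fs4 v = true := slots_step fs4 2718 1452 4170 s4u1 s4c2 rfl
theorem s4c3 : allBelow (fun k => fs4 (Nat.add (Nat.succ 4170) k)) 1535 = true := by decide +kernel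
theorem s4u3 : ∀ v, 1 ≤ v → v ≤ 5705 → fs4 v = true := slots_step fs4 4170 1535 5705 s4u2 s4c3 rfl
theorem s4c4 : allBelow (fun k => fs4 (Nat.add (Nat.succ 5705) k)) 1546 = true := by decide +kernel
theorem s4u4 : ∀ v, 1 ≤ v → v ≤ 7251 → fs4 v = true := slots_step fs4 5705 1546 7251 s4u3 s4c4 rfl
theorem s4c5 : allBelow (fun k => fs4 (Nat.add (Nat.succ 7251) k)) 1488 = true := by decide +kernel
theorem s4u5 : ∀ v, 1 ≤ v → v ≤ 8739 → fs4 v = true := slots_step fs4 7251 1488 8739 s4u4 s4c5 rfl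
theorem s4c6 : allBelow (fun k => fs4 (Nat.add (Nat.succ 8739) k)) 1777 = true := by decide +kernel
theorem s4u6 : ∀ v, 1 ≤ v → v ≤ 10516 → fs4 v = true := slots_step fs4 8739 1777 10516 s4u5 s4c6 rfl
theorem s4c7 : allBelow (fun k => fs4 (Nat.add (Nat.succ 10516) k)) 1476 = true := by decide +kernel
theorem s4u7 : ∀ v, 1 ≤ v → v ≤ 11992 → fs4 v = true := slots_step fs4 10516 1476 11992 s4u6 s4c7 rfl
theorem s4c8 : allBelow (fun k => fs4 (Nat.add (Nat.succ 11992) k)) 1869 = true := by decide +kernel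
theorem s4u8 : ∀ v, 1 ≤ v → v ≤ 13861 → fs4 v = true := slots_step fs4 11992 1869 13861 s4u7 s4c8 rfl
theorem s4c9 : allBelow (fun k => fs4 (Nat.add (Nat.succ 13861) k)) 1486 = true := by decide +kernel
theorem s4u9 : ∀ v, 1 ≤ v → v ≤ 15347 → fs4 v = true := slots_step fs4 13861 1486 15347 s4u8 s4c9 rfl
theorem s4c10 : allBelow (fun k => fs4 (Nat.add (Nat.succ 15347) k)) 1935 = true := by decide +kernel
theorem s4u10 : ∀ v, 1 ≤ v → v ≤ 17282 → fs4 v = true := slots_step fs4 15347 1935 17282 s4u9 s4c10 rfl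
theorem s4c11 : allBelow (fun k => fs4 (Nat.add (Nat.succ 17282) k)) 1567 = true := by decide +kernel
theorem s4u11 : ∀ v, 1 ≤ v → v ≤ 18849 → fs4 v = true := slots_step fs4 17282 1567 18849 s4u10 s4c11 rfl
theorem s4c12 : allBelow (fun k => fs4 (Nat.add (Nat.succ 18849) k)) 1580 = true := by decide +kernel
theorem s4u12 : ∀ v, 1 ≤ v → v ≤ 20429 → fs4 v = true := slots_step fs4 18849 1580 20429 s4u11 s4c12 rfl
theorem s4c13 : allBelow (fun k => fs4 (Nat.add (Nat.succ 20429) k)) 1816 = true := by decide +kernel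
theorem s4u13 : ∀ v, 1 ≤ v → v ≤ 22245 → fs4 v = true := slots_step fs4 20429 1816 22245 s4u12 s4c13 rfl
theorem s4c14 : allBelow (fun k => fs4 (Nat.add (Nat.succ 22245) k)) 1630 = true := by decide +kernel
theorem s4u14 : ∀ v, 1 ≤ v → v ≤ 23875 → fs4 v = true := slots_step fs4 22245 1630 23875 s4u13 s4c14 rfl
theorem s4c15 : allBelow (fun k => fs4 (Nat.add (Nat.succ 23875) k)) 1556 = true := by decide +kernel
theorem s4u15 : ∀ v, 1 ≤ v → v ≤ 25431 → fs4 v = true := slots_step fs4 23875 1556 25431 s4u14 s4c15 rfl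
theorem s4c16 : allBelow (fun k => fs4 (Nat.add (Nat.succ 25431) k)) 1284 = true := by decide +kernel
theorem s4u16 : ∀ v, 1 ≤ v → v ≤ 26715 → fs4 v = true := slots_step fs4 25431 1284 26715 s4u15 s4c16 rfl
theorem s4c17 : allBelow (fun k => fs4 (Nat.add (Nat.succ 26715) k)) 1293 = true := by decide +kernel
theorem s4u17 : ∀ v, 1 ≤ v → v ≤ 28008 → fs4 v = true := slots_step fs4 26715 1293 28008 s4u16 s4c17 rfl
theorem s4c18 : allBelow (fun k => fs4 (Nat.add (Nat.succ 28008) k)) 1336 = true := by decide +kernel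
theorem s4u18 : ∀ v, 1 ≤ v → v ≤ 29344 → fs4 v = true := slots_step fs4 28008 1336 29344 s4u17 s4c18 rfl
theorem s4c19 : allBelow (fun k => fs4 (Nat.add (Nat.succ 29344) k)) 1265 = true := by decide +kernel
theorem s4u19 : ∀ v, 1 ≤ v → v ≤ 30609 → fs4 v = true := slots_step fs4 29344 1265 30609 s4u18 s4c19 rfl
theorem s4c20 : allBelow (fun k => fs4 (Nat.add (Nat.succ 30609) k)) 1299 = true := by decide +kernel
theorem s4u20 : ∀ v, 1 ≤ v → v ≤ 31908 → fs4 v = true := slots_step fs4 30609 1299 31908 s4u19 s4c20 rfl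
theorem s4c21 : allBelow (fun k => fs4 (Nat.add (Nat.succ 31908) k)) 1273 = true := by decide +kernel
theorem s4u21 : ∀ v, 1 ≤ v → v ≤ 33181 → fs4 v = true := slots_step fs4 31908 1273 33181 s4u20 s4c21 rfl
theorem s4c22 : allBelow (fun k => fs4 (Nat.add (Nat.succ 33181) k)) 1262 = true := by decide +kernel
theorem s4u22 : ∀ v, 1 ≤ v → v ≤ 34443 → fs4 v = true := slots_step fs4 33181 1262 34443 s4u21 s4c22 rfl
theorem s4c23 : allBelow (fun k => fs4 (Nat.add (Nat.succ 34443) k)) 1315 = true := by decide +kernel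
theorem s4u23 : ∀ v, 1 ≤ v → v ≤ 35758 → fs4 v = true := slots_step fs4 34443 1315 35758 s4u22 s4c23 rfl
theorem s4c24 : allBelow (fun k => fs4 (Nat.add (Nat.succ 35758) k)) 1403 = true := by decide +kernel
theorem s4u24 : ∀ v, 1 ≤ v → v ≤ 37161 → fs4 v = true := slots_step fs4 35758 1403 37161 s4u23 s4c24 rfl
theorem s4c25 : allBelow (fun k => fs4 (Nat.add (Nat.succ 37161) k)) 1461 = true := by decide +kernel
theorem s4u25 : ∀ v, 1 ≤ v → v ≤ 38622 → fs4 v = true := slots_step fs4 37161 1461 38622 s4u24 s4c25 rfl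
theorem s4c26 : allBelow (fun k => fs4 (Nat.add (Nat.succ 38622) k)) 1449 = true := by decide +kernel
theorem s4u26 : ∀ v, 1 ≤ v → v ≤ 40071 → fs4 v = true := slots_step fs4 38622 1449 40071 s4u25 s4c26 rfl
theorem s4c27 : allBelow (fun k => fs4 (Nat.add (Nat.succ 40071) k)) 1358 = true := by decide +kernel
theorem s4u27 : ∀ v, 1 ≤ v → v ≤ 41429 → fs4 v = true := slots_step fs4 40071 1358 41429 s4u26 s4c27 rfl
theorem s4c28 : allBelow (fun k => fs4 (Nat.add (Nat.succ 41429) k)) 1186 = true := by decide +kernel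
theorem s4u28 : ∀ v, 1 ≤ v → v ≤ 42615 → fs4 v = true := slots_step fs4 41429 1186 42615 s4u27 s4c28 rfl
theorem s4c29 : allBelow (fun k => fs4 (Nat.add (Nat.succ 42615) k)) 517 = true := by decide +kernel
theorem s4u29 : ∀ v, 1 ≤ v → v ≤ 43132 → fs4 v = true := slots_step fs4 42615 517 43132 s4u28 s4c29 rfl
theorem s5c0 : allBelow (fun k => fs5 (Nat.add (Nat.succ 0) k)) 1328 = true := by decide +kernel
theorem s5u0 : ∀ v, 1 ≤ v → v ≤ 1328 → fs5 v = true := slots_step fs5 0 1328 1328 (slots_zero fs5) s5c0 rfl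
theorem s5c1 : allBelow (fun k => fs5 (Nat.add (Nat.succ 1328) k)) 1417 = true := by decide +kernel
theorem s5u1 : ∀ v, 1 ≤ v → v ≤ 2745 → fs5 v = true := slots_step fs5 1328 1417 2745 s5u0 s5c1 rfl
theorem s5c2 : allBelow (fun k => fs5 (Nat.add (Nat.succ 2745) k)) 1496 = true := by decide +kernel
theorem s5u2 : ∀ v, 1 ≤ v → v ≤ 4241 → fs5 v = true := slots_step fs5 2745 1496 4241 s5u1 s5c2 rfl
theorem s5c3 : allBelow (fun k => fs5 (Nat.add (Nat.succ 4241) k)) 1557 = true := by decide +kernel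
theorem s5u3 : ∀ v, 1 ≤ v → v ≤ 5798 → fs5 v = true := slots_step fs5 4241 1557 5798 s5u2 s5c3 rfl
theorem s5c4 : allBelow (fun k => fs5 (Nat.add (Nat.succ 5798) k)) 1617 = true := by decide +kernel
theorem s5u4 : ∀ v, 1 ≤ v → v ≤ 7415 → fs5 v = true := slots_step fs5 5798 1617 7415 s5u3 s5c4 rfl
theorem s5c5 : allBelow (fun k => fs5 (Nat.add (Nat.succ 7415) k)) 1506 = true := by decide +kernel
theorem s5u5 : ∀ v, 1 ≤ v → v ≤ 8921 → fs5 v = true := slots_step fs5 7415 1506 8921 s5u4 s5c5 rfl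
theorem s5c6 : allBelow (fun k => fs5 (Nat.add (Nat.succ 8921) k)) 1725 = true := by decide +kernel
theorem s5u6 : ∀ v, 1 ≤ v → v ≤ 10646 → fs5 v = true := slots_step fs5 8921 1725 10646 s5u5 s5c6 rfl
theorem s5c7 : allBelow (fun k => fs5 (Nat.add (Nat.succ 10646) k)) 1603 = true := by decide +kernel
theorem s5u7 : ∀ v, 1 ≤ v → v ≤ 12249 → fs5 v = true := slots_step fs5 10646 1603 12249 s5u6 s5c7 rfl
theorem s5c8 : allBelow (fun k => fs5 (Nat.add (Nat.succ 12249) k)) 1743 = true := by decide +kernel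
theorem s5u8 : ∀ v, 1 ≤ v → v ≤ 13992 → fs5 v = true := slots_step fs5 12249 1743 13992 s5u7 s5c8 rfl
theorem s5c9 : allBelow (fun k => fs5 (Nat.add (Nat.succ 13992) k)) 1575 = true := by decide +kernel
theorem s5u9 : ∀ v, 1 ≤ v → v ≤ 15567 → fs5 v = true := slots_step fs5 13992 1575 15567 s5u8 s5c9 rfl
theorem s5c10 : allBelow (fun k => fs5 (Nat.add (Nat.succ 15567) k)) 1910 = true := by decide +kernel
theorem s5u10 : ∀ v, 1 ≤ v → v ≤ 17477 → fs5 v = true := slots_step fs5 15567 1910 17477 s5u9 s5c10 rfl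
theorem s5c11 : allBelow (fun k => fs5 (Nat.add (Nat.succ 17477) k)) 1548 = true := by decide +kernel
theorem s5u11 : ∀ v, 1 ≤ v → v ≤ 19025 → fs5 v = true := slots_step fs5 17477 1548 19025 s5u10 s5c11 rfl
theorem s5c12 : allBelow (fun k => fs5 (Nat.add (Nat.succ 19025) k)) 1673 = true := by decide +kernel
theorem s5u12 : ∀ v, 1 ≤ v → v ≤ 20698 → fs5 v = true := slots_step fs5 19025 1673 20698 s5u11 s5c12 rfl
theorem s5c13 : allBelow (fun k => fs5 (Nat.add (Nat.succ 20698) k)) 1708 = true := by decide +kernel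
theorem s5u13 : ∀ v, 1 ≤ v → v ≤ 22406 → fs5 v = true := slots_step fs5 20698 1708 22406 s5u12 s5c13 rfl
theorem s5c14 : allBelow (fun k => fs5 (Nat.add (Nat.succ 22406) k)) 1671 = true := by decide +kernel
theorem s5u14 : ∀ v, 1 ≤ v → v ≤ 24077 → fs5 v = true := slots_step fs5 22406 1671 24077 s5u13 s5c14 rfl
theorem s5c15 : allBelow (fun k => fs5 (Nat.add (Nat.succ 24077) k)) 1508 = true := by decide +kernel
theorem s5u15 : ∀ v, 1 ≤ v → v ≤ 25585 → fs5 v = true := slots_step fs5 24077 1508 25585 s5u14 s5c15 rfl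
theorem s5c16 : allBelow (fun k => fs5 (Nat.add (Nat.succ 25585) k)) 1253 = true := by decide +kernel
theorem s5u16 : ∀ v, 1 ≤ v → v ≤ 26838 → fs5 v = true := slots_step fs5 25585 1253 26838 s5u15 s5c16 rfl
theorem s5c17 : allBelow (fun k => fs5 (Nat.add (Nat.succ 26838) k)) 1260 = true := by decide +kernel
theorem s5u17 : ∀ v, 1 ≤ v → v ≤ 28098 → fs5 v = true := slots_step fs5 26838 1260 28098 s5u16 s5c17 rfl
theorem s5c18 : allBelow (fun k => fs5 (Nat.add (Nat.succ 28098) k)) 1287 = true := by decide +kernel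
theorem s5u18 : ∀ v, 1 ≤ v → v ≤ 29385 → fs5 v = true := slots_step fs5 28098 1287 29385 s5u17 s5c18 rfl
theorem s5c19 : allBelow (fun k => fs5 (Nat.add (Nat.succ 29385) k)) 1251 = true := by decide +kernel
theorem s5u19 : ∀ v, 1 ≤ v → v ≤ 30636 → fs5 v = true := slots_step fs5 29385 1251 30636 s5u18 s5c19 rfl
theorem s5c20 : allBelow (fun k => fs5 (Nat.add (Nat.succ 30636) k)) 1256 = true := by decide +kernel
theorem s5u20 : ∀ v, 1 ≤ v → v ≤ 31892 → fs5 v = true := slots_step fs5 30636 1256 31892 s5u19 s5c20 rfl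
theorem s5c21 : allBelow (fun k => fs5 (Nat.add (Nat.succ 31892) k)) 1284 = true := by decide +kernel
theorem s5u21 : ∀ v, 1 ≤ v → v ≤ 33176 → fs5 v = true := slots_step fs5 31892 1284 33176 s5u20 s5c21 rfl
theorem s5c22 : allBelow (fun k => fs5 (Nat.add (Nat.succ 33176) k)) 1238 = true := by decide +kernel
theorem s5u22 : ∀ v, 1 ≤ v → v ≤ 34414 → fs5 v = true := slots_step fs5 33176 1238 34414 s5u21 s5c22 rfl
theorem s5c23 : allBelow (fun k => fs5 (Nat.add (Nat.succ 34414) k)) 1186 = true := by decide +kernel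
theorem s5u23 : ∀ v, 1 ≤ v → v ≤ 35600 → fs5 v = true := slots_step fs5 34414 1186 35600 s5u22 s5c23 rfl
theorem s5c24 : allBelow (fun k => fs5 (Nat.add (Nat.succ 35600) k)) 1299 = true := by decide +kernel
theorem s5u24 : ∀ v, 1 ≤ v → v ≤ 36899 → fs5 v = true := slots_step fs5 35600 1299 36899 s5u23 s5c24 rfl
theorem s5c25 : allBelow (fun k => fs5 (Nat.add (Nat.succ 36899) k)) 1299 = true := by decide +kernel
theorem s5u25 : ∀ v, 1 ≤ v → v ≤ 38198 → fs5 v = true := slots_step fs5 36899 1299 38198 s5u24 s5c25 rfl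
theorem s5c26 : allBelow (fun k => fs5 (Nat.add (Nat.succ 38198) k)) 1283 = true := by decide +kernel
theorem s5u26 : ∀ v, 1 ≤ v → v ≤ 39481 → fs5 v = true := slots_step fs5 38198 1283 39481 s5u25 s5c26 rfl
theorem s5c27 : allBelow (fun k => fs5 (Nat.add (Nat.succ 39481) k)) 1266 = true := by decide +kernel
theorem s5u27 : ∀ v, 1 ≤ v → v ≤ 40747 → fs5 v = true := slots_step fs5 39481 1266 40747 s5u26 s5c27 rfl
theorem s5c28 : allBelow (fun k => fs5 (Nat.add (Nat.succ 40747) k)) 1303 = true := by decide +kernel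
theorem s5u28 : ∀ v, 1 ≤ v → v ≤ 42050 → fs5 v = true := slots_step fs5 40747 1303 42050 s5u27 s5c28 rfl
theorem s5c29 : allBelow (fun k => fs5 (Nat.add (Nat.succ 42050) k)) 1082 = true := by decide +kernel
theorem s5u29 : ∀ v, 1 ≤ v → v ≤ 43132 → fs5 v = true := slots_step fs5 42050 1082 43132 s5u28 s5c29 rfl
theorem s6c0 : allBelow (fun k => fs6 (Nat.add (Nat.succ 0) k)) 1281 = true := by decide +kernel
theorem s6u0 : ∀ v, 1 ≤ v → v ≤ 1281 → fs6 v = true := slots_step fs6 0 1281 1281 (slots_zero fs6) s6c0 rfl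
theorem s6c1 : allBelow (fun k => fs6 (Nat.add (Nat.succ 1281) k)) 1459 = true := by decide +kernel
theorem s6u1 : ∀ v, 1 ≤ v → v ≤ 2740 → fs6 v = true := slots_step fs6 1281 1459 2740 s6u0 s6c1 rfl
theorem s6c2 : allBelow (fun k => fs6 (Nat.add (Nat.succ 2740) k)) 1518 = true := by decide +kernel
theorem s6u2 : ∀ v, 1 ≤ v → v ≤ 4258 → fs6 v = true := slots_step fs6 2740 1518 4258 s6u1 s6c2 rfl
theorem s6c3 : allBelow (fun k => fs6 (Nat.add (Nat.succ 4258) k)) 1605 = true := by decide +kernel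
theorem s6u3 : ∀ v, 1 ≤ v → v ≤ 5863 → fs6 v = true := slots_step fs6 4258 1605 5863 s6u2 s6c3 rfl
theorem s6c4 : allBelow (fun k => fs6 (Nat.add (Nat.succ 5863) k)) 1708 = true := by decide +kernel
theorem s6u4 : ∀ v, 1 ≤ v → v ≤ 7571 → fs6 v = true := slots_step fs6 5863 1708 7571 s6u3 s6c4 rfl
theorem s6c5 : allBelow (fun k => fs6 (Nat.add (Nat.succ 7571) k)) 1517 = true := by decide +kernel
theorem s6u5 : ∀ v, 1 ≤ v → v ≤ 9088 → fs6 v = true := slots_step fs6 7571 1517 9088 s6u4 s6c5 rfl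
theorem s6c6 : allBelow (fun k => fs6 (Nat.add (Nat.succ 9088) k)) 1761 = true := by decide +kernel
theorem s6u6 : ∀ v, 1 ≤ v → v ≤ 10849 → fs6 v = true := slots_step fs6 9088 1761 10849 s6u5 s6c6 rfl
theorem s6c7 : allBelow (fun k => fs6 (Nat.add (Nat.succ 10849) k)) 1673 = true := by decide +kernel
theorem s6u7 : ∀ v, 1 ≤ v → v ≤ 12522 → fs6 v = true := slots_step fs6 10849 1673 12522 s6u6 s6c7 rfl
theorem s6c8 : allBelow (fun k => fs6 (Nat.add (Nat.succ 12522) k)) 1739 = true := by decide +kernel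
theorem s6u8 : ∀ v, 1 ≤ v → v ≤ 14261 → fs6 v = true := slots_step fs6 12522 1739 14261 s6u7 s6c8 rfl
theorem s6c9 : allBelow (fun k => fs6 (Nat.add (Nat.succ 14261) k)) 1574 = true := by decide +kernel
theorem s6u9 : ∀ v, 1 ≤ v → v ≤ 15835 → fs6 v = true := slots_step fs6 14261 1574 15835 s6u8 s6c9 rfl
theorem s6c10 : allBelow (fun k => fs6 (Nat.add (Nat.succ 15835) k)) 1891 = true := by decide +kernel
theorem s6u10 : ∀ v, 1 ≤ v → v ≤ 17726 → fs6 v = true := slots_step fs6 15835 1891 17726 s6u9 s6c10 rfl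
theorem s6c11 : allBelow (fun k => fs6 (Nat.add (Nat.succ 17726) k)) 1547 = true := by decide +kernel
theorem s6u11 : ∀ v, 1 ≤ v → v ≤ 19273 → fs6 v = true := slots_step fs6 17726 1547 19273 s6u10 s6c11 rfl
theorem s6c12 : allBelow (fun k => fs6 (Nat.add (Nat.succ 19273) k)) 1821 = true := by decide +kernel
theorem s6u12 : ∀ v, 1 ≤ v → v ≤ 21094 → fs6 v = true := slots_step fs6 19273 1821 21094 s6u11 s6c12 rfl
theorem s6c13 : allBelow (fun k => fs6 (Nat.add (Nat.succ 21094) k)) 1604 = true := by decide +kernel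
theorem s6u13 : ∀ v, 1 ≤ v → v ≤ 22698 → fs6 v = true := slots_step fs6 21094 1604 22698 s6u12 s6c13 rfl
theorem s6c14 : allBelow (fun k => fs6 (Nat.add (Nat.succ 22698) k)) 1702 = true := by decide +kernel
theorem s6u14 : ∀ v, 1 ≤ v → v ≤ 24400 → fs6 v = true := slots_step fs6 22698 1702 24400 s6u13 s6c14 rfl
theorem s6c15 : allBelow (fun k => fs6 (Nat.add (Nat.succ 24400) k)) 1448 = true := by decide +kernel
theorem s6u15 : ∀ v, 1 ≤ v → v ≤ 25848 → fs6 v = true := slots_step fs6 24400 1448 25848 s6u14 s6c15 rfl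
theorem s6c16 : allBelow (fun k => fs6 (Nat.add (Nat.succ 25848) k)) 1288 = true := by decide +kernel
theorem s6u16 : ∀ v, 1 ≤ v → v ≤ 27136 → fs6 v = true := slots_step fs6 25848 1288 27136 s6u15 s6c16 rfl
theorem s6c17 : allBelow (fun k => fs6 (Nat.add (Nat.succ 27136) k)) 1235 = true := by decide +kernel
theorem s6u17 : ∀ v, 1 ≤ v → v ≤ 28371 → fs6 v = true := slots_step fs6 27136 1235 28371 s6u16 s6c17 rfl
theorem s6c18 : allBelow (fun k => fs6 (Nat.add (Nat.succ 28371) k)) 1287 = true := by decide +kernel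
theorem s6u18 : ∀ v, 1 ≤ v → v ≤ 29658 → fs6 v = true := slots_step fs6 28371 1287 29658 s6u17 s6c18 rfl
theorem s6c19 : allBelow (fun k => fs6 (Nat.add (Nat.succ 29658) k)) 1230 = true := by decide +kernel
theorem s6u19 : ∀ v, 1 ≤ v → v ≤ 30888 → fs6 v = true := slots_step fs6 29658 1230 30888 s6u18 s6c19 rfl
theorem s6c20 : allBelow (fun k => fs6 (Nat.add (Nat.succ 30888) k)) 1266 = true := by decide +kernel
theorem s6u20 : ∀ v, 1 ≤ v → v ≤ 32154 → fs6 v = true := slots_step fs6 30888 1266 32154 s6u19 s6c20 rfl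
theorem s6c21 : allBelow (fun k => fs6 (Nat.add (Nat.succ 32154) k)) 1275 = true := by decide +kernel
theorem s6u21 : ∀ v, 1 ≤ v → v ≤ 33429 → fs6 v = true := slots_step fs6 32154 1275 33429 s6u20 s6c21 rfl
theorem s6c22 : allBelow (fun k => fs6 (Nat.add (Nat.succ 33429) k)) 1273 = true := by decide +kernel
theorem s6u22 : ∀ v, 1 ≤ v → v ≤ 34702 → fs6 v = true := slots_step fs6 33429 1273 34702 s6u21 s6c22 rfl
theorem s6c23 : allBelow (fun k => fs6 (Nat.add (Nat.succ 34702) k)) 1268 = true := by decide +kernel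
theorem s6u23 : ∀ v, 1 ≤ v → v ≤ 35970 → fs6 v = true := slots_step fs6 34702 1268 35970 s6u22 s6c23 rfl
theorem s6c24 : allBelow (fun k => fs6 (Nat.add (Nat.succ 35970) k)) 1277 = true := by decide +kernel
theorem s6u24 : ∀ v, 1 ≤ v → v ≤ 37247 → fs6 v = true := slots_step fs6 35970 1277 37247 s6u23 s6c24 rfl
theorem s6c25 : allBelow (fun k => fs6 (Nat.add (Nat.succ 37247) k)) 1279 = true := by decide +kernel
theorem s6u25 : ∀ v, 1 ≤ v → v ≤ 38526 → fs6 v = true := slots_step fs6 37247 1279 38526 s6u24 s6c25 rfl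
theorem s6c26 : allBelow (fun k => fs6 (Nat.add (Nat.succ 38526) k)) 1272 = true := by decide +kernel
theorem s6u26 : ∀ v, 1 ≤ v → v ≤ 39798 → fs6 v = true := slots_step fs6 38526 1272 39798 s6u25 s6c26 rfl
theorem s6c27 : allBelow (fun k => fs6 (Nat.add (Nat.succ 39798) k)) 1278 = true := by decide +kernel
theorem s6u27 : ∀ v, 1 ≤ v → v ≤ 41076 → fs6 v = true := slots_step fs6 39798 1278 41076 s6u26 s6c27 rfl
theorem s6c28 : allBelow (fun k => fs6 (Nat.add (Nat.succ 41076) k)) 1269 = true := by decide +kernel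
theorem s6u28 : ∀ v, 1 ≤ v → v ≤ 42345 → fs6 v = true := slots_step fs6 41076 1269 42345 s6u27 s6c28 rfl
theorem s6c29 : allBelow (fun k => fs6 (Nat.add (Nat.succ 42345) k)) 787 = true := by decide +kernel
theorem s6u29 : ∀ v, 1 ≤ v → v ≤ 43132 → fs6 v = true := slots_step fs6 42345 787 43132 s6u28 s6c29 rfl
theorem s7c0 : allBelow (fun k => fs7 (Nat.add (Nat.succ 0) k)) 1255 = true := by decide +kernel
theorem s7u0 : ∀ v, 1 ≤ v → v ≤ 1255 → fs7 v = true := slots_step fs7 0 1255 1255 (slots_zero fs7) s7c0 rfl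
theorem s7c1 : allBelow (fun k => fs7 (Nat.add (Nat.succ 1255) k)) 1432 = true := by decide +kernel
theorem s7u1 : ∀ v, 1 ≤ v → v ≤ 2687 → fs7 v = true := slots_step fs7 1255 1432 2687 s7u0 s7c1 rfl
theorem s7c2 : allBelow (fun k => fs7 (Nat.add (Nat.succ 2687) k)) 1569 = true := by decide +kernel
theorem s7u2 : ∀ v, 1 ≤ v → v ≤ 4256 → fs7 v = true := slots_step fs7 2687 1569 4256 s7u1 s7c2 rfl
theorem s7c3 : allBelow (fun k => fs7 (Nat.add (Nat.succ 4256) k)) 1660 = true := by decide +kernel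
theorem s7u3 : ∀ v, 1 ≤ v → v ≤ 5916 → fs7 v = true := slots_step fs7 4256 1660 5916 s7u2 s7c3 rfl
theorem s7c4 : allBelow (fun k => fs7 (Nat.add (Nat.succ 5916) k)) 1782 = true := by decide +kernel
theorem s7u4 : ∀ v, 1 ≤ v → v ≤ 7698 → fs7 v = true := slots_step fs7 5916 1782 7698 s7u3 s7c4 rfl
theorem s7c5 : allBelow (fun k => fs7 (Nat.add (Nat.succ 7698) k)) 1591 = true := by decide +kernel
theorem s7u5 : ∀ v, 1 ≤ v → v ≤ 9289 → fs7 v = true := slots_step fs7 7698 1591 9289 s7u4 s7c5 rfl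
theorem s7c6 : allBelow (fun k => fs7 (Nat.add (Nat.succ 9289) k)) 1795 = true := by decide +kernel
theorem s7u6 : ∀ v, 1 ≤ v → v ≤ 11084 → fs7 v = true := slots_step fs7 9289 1795 11084 s7u5 s7c6 rfl
theorem s7c7 : allBelow (fun k => fs7 (Nat.add (Nat.succ 11084) k)) 1752 = true := by decide +kernel
theorem s7u7 : ∀ v, 1 ≤ v → v ≤ 12836 → fs7 v = true := slots_step fs7 11084 1752 12836 s7u6 s7c7 rfl
theorem s7c8 : allBelow (fun k => fs7 (Nat.add (Nat.succ 12836) k)) 1759 = true := by decide +kernel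
theorem s7u8 : ∀ v, 1 ≤ v → v ≤ 14595 → fs7 v = true := slots_step fs7 12836 1759 14595 s7u7 s7c8 rfl
theorem s7c9 : allBelow (fun k => fs7 (Nat.add (Nat.succ 14595) k)) 1693 = true := by decide +kernel
theorem s7u9 : ∀ v, 1 ≤ v → v ≤ 16288 → fs7 v = true := slots_step fs7 14595 1693 16288 s7u8 s7c9 rfl
theorem s7c10 : allBelow (fun k => fs7 (Nat.add (Nat.succ 16288) k)) 1743 = true := by decide +kernel
theorem s7u10 : ∀ v, 1 ≤ v → v ≤ 18031 → fs7 v = true := slots_step fs7 16288 1743 18031 s7u9 s7c10 rfl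
theorem s7c11 : allBelow (fun k => fs7 (Nat.add (Nat.succ 18031) k)) 1634 = true := by decide +kernel
theorem s7u11 : ∀ v, 1 ≤ v → v ≤ 19665 → fs7 v = true := slots_step fs7 18031 1634 19665 s7u10 s7c11 rfl
theorem s7c12 : allBelow (fun k => fs7 (Nat.add (Nat.succ 19665) k)) 1919 = true := by decide +kernel
theorem s7u12 : ∀ v, 1 ≤ v → v ≤ 21584 → fs7 v = true := slots_step fs7 19665 1919 21584 s7u11 s7c12 rfl
theorem s7c13 : allBelow (fun k => fs7 (Nat.add (Nat.succ 21584) k)) 1565 = true := by decide +kernel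
theorem s7u13 : ∀ v, 1 ≤ v → v ≤ 23149 → fs7 v = true := slots_step fs7 21584 1565 23149 s7u12 s7c13 rfl
theorem s7c14 : allBelow (fun k => fs7 (Nat.add (Nat.succ 23149) k)) 1671 = true := by decide +kernel
theorem s7u14 : ∀ v, 1 ≤ v → v ≤ 24820 → fs7 v = true := slots_step fs7 23149 1671 24820 s7u13 s7c14 rfl
theorem s7c15 : allBelow (fun k => fs7 (Nat.add (Nat.succ 24820) k)) 1355 = true := by decide +kernel
theorem s7u15 : ∀ v, 1 ≤ v → v ≤ 26175 → fs7 v = true := slots_step fs7 24820 1355 26175 s7u14 s7c15 rfl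
theorem s7c16 : allBelow (fun k => fs7 (Nat.add (Nat.succ 26175) k)) 1295 = true := by decide +kernel
theorem s7u16 : ∀ v, 1 ≤ v → v ≤ 27470 → fs7 v = true := slots_step fs7 26175 1295 27470 s7u15 s7c16 rfl
theorem s7c17 : allBelow (fun k => fs7 (Nat.add (Nat.succ 27470) k)) 1240 = true := by decide +kernel
theorem s7u17 : ∀ v, 1 ≤ v → v ≤ 28710 → fs7 v = true := slots_step fs7 27470 1240 28710 s7u16 s7c17 rfl
theorem s7c18 : allBelow (fun k => fs7 (Nat.add (Nat.succ 28710) k)) 1279 = true := by decide +kernel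
theorem s7u18 : ∀ v, 1 ≤ v → v ≤ 29989 → fs7 v = true := slots_step fs7 28710 1279 29989 s7u17 s7c18 rfl
theorem s7c19 : allBelow (fun k => fs7 (Nat.add (Nat.succ 29989) k)) 1286 = true := by decide +kernel
theorem s7u19 : ∀ v, 1 ≤ v → v ≤ 31275 → fs7 v = true := slots_step fs7 29989 1286 31275 s7u18 s7c19 rfl
theorem s7c20 : allBelow (fun k => fs7 (Nat.add (Nat.succ 31275) k)) 1252 = true := by decide +kernel
theorem s7u20 : ∀ v, 1 ≤ v → v ≤ 32527 → fs7 v = true := slots_step fs7 31275 1252 32527 s7u19 s7c20 rfl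
theorem s7c21 : allBelow (fun k => fs7 (Nat.add (Nat.succ 32527) k)) 1272 = true := by decide +kernel
theorem s7u21 : ∀ v, 1 ≤ v → v ≤ 33799 → fs7 v = true := slots_step fs7 32527 1272 33799 s7u20 s7c21 rfl
theorem s7c22 : allBelow (fun k => fs7 (Nat.add (Nat.succ 33799) k)) 1262 = true := by decide +kernel
theorem s7u22 : ∀ v, 1 ≤ v → v ≤ 35061 → fs7 v = true := slots_step fs7 33799 1262 35061 s7u21 s7c22 rfl
theorem s7c23 : allBelow (fun k => fs7 (Nat.add (Nat.succ 35061) k)) 1276 = true := by decide +kernel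
theorem s7u23 : ∀ v, 1 ≤ v → v ≤ 36337 → fs7 v = true := slots_step fs7 35061 1276 36337 s7u22 s7c23 rfl
theorem s7c24 : allBelow (fun k => fs7 (Nat.add (Nat.succ 36337) k)) 1279 = true := by decide +kernel
theorem s7u24 : ∀ v, 1 ≤ v → v ≤ 37616 → fs7 v = true := slots_step fs7 36337 1279 37616 s7u23 s7c24 rfl
theorem s7c25 : allBelow (fun k => fs7 (Nat.add (Nat.succ 37616) k)) 1277 = true := by decide +kernel
theorem s7u25 : ∀ v, 1 ≤ v → v ≤ 38893 → fs7 v = true := slots_step fs7 37616 1277 38893 s7u24 s7c25 rfl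
theorem s7c26 : allBelow (fun k => fs7 (Nat.add (Nat.succ 38893) k)) 1271 = true := by decide +kernel
theorem s7u26 : ∀ v, 1 ≤ v → v ≤ 40164 → fs7 v = true := slots_step fs7 38893 1271 40164 s7u25 s7c26 rfl
theorem s7c27 : allBelow (fun k => fs7 (Nat.add (Nat.succ 40164) k)) 1262 = true := by decide +kernel
theorem s7u27 : ∀ v, 1 ≤ v → v ≤ 41426 → fs7 v = true := slots_step fs7 40164 1262 41426 s7u26 s7c27 rfl
theorem s7c28 : allBelow (fun k => fs7 (Nat.add (Nat.succ 41426) k)) 1237 = true := by decide +kernel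
theorem s7u28 : ∀ v, 1 ≤ v → v ≤ 42663 → fs7 v = true := slots_step fs7 41426 1237 42663 s7u27 s7c28 rfl
theorem s7c29 : allBelow (fun k => fs7 (Nat.add (Nat.succ 42663) k)) 469 = true := by decide +kernel
theorem s7u29 : ∀ v, 1 ≤ v → v ≤ 43132 → fs7 v = true := slots_step fs7 42663 469 43132 s7u28 s7c29 rfl
theorem s8c0 : allBelow (fun k => fs8 (Nat.add (Nat.succ 0) k)) 1330 = true := by decide +kernel
theorem s8u0 : ∀ v, 1 ≤ v → v ≤ 1330 → fs8 v = true := slots_step fs8 0 1330 1330 (slots_zero fs8) s8c0 rfl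
theorem s8c1 : allBelow (fun k => fs8 (Nat.add (Nat.succ 1330) k)) 1481 = true := by decide +kernel
theorem s8u1 : ∀ v, 1 ≤ v → v ≤ 2811 → fs8 v = true := slots_step fs8 1330 1481 2811 s8u0 s8c1 rfl
theorem s8c2 : allBelow (fun k => fs8 (Nat.add (Nat.succ 2811) k)) 1575 = true := by decide +kernel
theorem s8u2 : ∀ v, 1 ≤ v → v ≤ 4386 → fs8 v = true := slots_step fs8 2811 1575 4386 s8u1 s8c2 rfl
theorem s8c3 : allBelow (fun k => fs8 (Nat.add (Nat.succ 4386) k)) 1668 = true := by decide +kernel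
theorem s8u3 : ∀ v, 1 ≤ v → v ≤ 6054 → fs8 v = true := slots_step fs8 4386 1668 6054 s8u2 s8c3 rfl
theorem s8c4 : allBelow (fun k => fs8 (Nat.add (Nat.succ 6054) k)) 1743 = true := by decide +kernel
theorem s8u4 : ∀ v, 1 ≤ v → v ≤ 7797 → fs8 v = true := slots_step fs8 6054 1743 7797 s8u3 s8c4 rfl
theorem s8c5 : allBelow (fun k => fs8 (Nat.add (Nat.succ 7797) k)) 1604 = true := by decide +kernel
theorem s8u5 : ∀ v, 1 ≤ v → v ≤ 9401 → fs8 v = true := slots_step fs8 7797 1604 9401 s8u4 s8c5 rfl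
theorem s8c6 : allBelow (fun k => fs8 (Nat.add (Nat.succ 9401) k)) 1730 = true := by decide +kernel
theorem s8u6 : ∀ v, 1 ≤ v → v ≤ 11131 → fs8 v = true := slots_step fs8 9401 1730 11131 s8u5 s8c6 rfl
theorem s8c7 : allBelow (fun k => fs8 (Nat.add (Nat.succ 11131) k)) 1678 = true := by decide +kernel
theorem s8u7 : ∀ v, 1 ≤ v → v ≤ 12809 → fs8 v = true := slots_step fs8 11131 1678 12809 s8u6 s8c7 rfl
theorem s8c8 : allBelow (fun k => fs8 (Nat.add (Nat.succ 12809) k)) 1699 = true := by decide +kernel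
theorem s8u8 : ∀ v, 1 ≤ v → v ≤ 14508 → fs8 v = true := slots_step fs8 12809 1699 14508 s8u7 s8c8 rfl
theorem s8c9 : allBelow (fun k => fs8 (Nat.add (Nat.succ 14508) k)) 1532 = true := by decide +kernel
theorem s8u9 : ∀ v, 1 ≤ v → v ≤ 16040 → fs8 v = true := slots_step fs8 14508 1532 16040 s8u8 s8c9 rfl
theorem s8c10 : allBelow (fun k => fs8 (Nat.add (Nat.succ 16040) k)) 1766 = true := by decide +kernel
theorem s8u10 : ∀ v, 1 ≤ v → v ≤ 17806 → fs8 v = true := slots_step fs8 16040 1766 17806 s8u9 s8c10 rfl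
theorem s8c11 : allBelow (fun k => fs8 (Nat.add (Nat.succ 17806) k)) 1567 = true := by decide +kernel
theorem s8u11 : ∀ v, 1 ≤ v → v ≤ 19373 → fs8 v = true := slots_step fs8 17806 1567 19373 s8u10 s8c11 rfl
theorem s8c12 : allBelow (fun k => fs8 (Nat.add (Nat.succ 19373) k)) 1779 = true := by decide +kernel
theorem s8u12 : ∀ v, 1 ≤ v → v ≤ 21152 → fs8 v = true := slots_step fs8 19373 1779 21152 s8u11 s8c12 rfl
theorem s8c13 : allBelow (fun k => fs8 (Nat.add (Nat.succ 21152) k)) 1598 = true := by decide +kernel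
theorem s8u13 : ∀ v, 1 ≤ v → v ≤ 22750 → fs8 v = true := slots_step fs8 21152 1598 22750 s8u12 s8c13 rfl
theorem s8c14 : allBelow (fun k => fs8 (Nat.add (Nat.succ 22750) k)) 1619 = true := by decide +kernel
theorem s8u14 : ∀ v, 1 ≤ v → v ≤ 24369 → fs8 v = true := slots_step fs8 22750 1619 24369 s8u13 s8c14 rfl
theorem s8c15 : allBelow (fun k => fs8 (Nat.add (Nat.succ 24369) k)) 1499 = true := by decide +kernel
theorem s8u15 : ∀ v, 1 ≤ v → v ≤ 25868 → fs8 v = true := slots_step fs8 24369 1499 25868 s8u14 s8c15 rfl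
theorem s8c16 : allBelow (fun k => fs8 (Nat.add (Nat.succ 25868) k)) 1376 = true := by decide +kernel
theorem s8u16 : ∀ v, 1 ≤ v → v ≤ 27244 → fs8 v = true := slots_step fs8 25868 1376 27244 s8u15 s8c16 rfl
theorem s8c17 : allBelow (fun k => fs8 (Nat.add (Nat.succ 27244) k)) 1360 = true := by decide +kernel
theorem s8u17 : ∀ v, 1 ≤ v → v ≤ 28604 → fs8 v = true := slots_step fs8 27244 1360 28604 s8u16 s8c17 rfl
theorem s8c18 : allBelow (fun k => fs8 (Nat.add (Nat.succ 28604) k)) 1417 = true := by decide +kernel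
theorem s8u18 : ∀ v, 1 ≤ v → v ≤ 30021 → fs8 v = true := slots_step fs8 28604 1417 30021 s8u17 s8c18 rfl
theorem s8c19 : allBelow (fun k => fs8 (Nat.add (Nat.succ 30021) k)) 1431 = true := by decide +kernel
theorem s8u19 : ∀ v, 1 ≤ v → v ≤ 31452 → fs8 v = true := slots_step fs8 30021 1431 31452 s8u18 s8c19 rfl
theorem s8c20 : allBelow (fun k => fs8 (Nat.add (Nat.succ 31452) k)) 1401 = true := by decide +kernel
theorem s8u20 : ∀ v, 1 ≤ v → v ≤ 32853 → fs8 v = true := slots_step fs8 31452 1401 32853 s8u19 s8c20 rfl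
theorem s8c21 : allBelow (fun k => fs8 (Nat.add (Nat.succ 32853) k)) 1367 = true := by decide +kernel
theorem s8u21 : ∀ v, 1 ≤ v → v ≤ 34220 → fs8 v = true := slots_step fs8 32853 1367 34220 s8u20 s8c21 rfl
theorem s8c22 : allBelow (fun k => fs8 (Nat.add (Nat.succ 34220) k)) 1302 = true := by decide +kernel
theorem s8u22 : ∀ v, 1 ≤ v → v ≤ 35522 → fs8 v = true := slots_step fs8 34220 1302 35522 s8u21 s8c22 rfl
theorem s8c23 : allBelow (fun k => fs8 (Nat.add (Nat.succ 35522) k)) 1256 = true := by decide +kernel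
theorem s8u23 : ∀ v, 1 ≤ v → v ≤ 36778 → fs8 v = true := slots_step fs8 35522 1256 36778 s8u22 s8c23 rfl
theorem s8c24 : allBelow (fun k => fs8 (Nat.add (Nat.succ 36778) k)) 1257 = true := by decide +kernel
theorem s8u24 : ∀ v, 1 ≤ v → v ≤ 38035 → fs8 v = true := slots_step fs8 36778 1257 38035 s8u23 s8c24 rfl
theorem s8c25 : allBelow (fun k => fs8 (Nat.add (Nat.succ 38035) k)) 1283 = true := by decide +kernel
theorem s8u25 : ∀ v, 1 ≤ v → v ≤ 39318 → fs8 v = true := slots_step fs8 38035 1283 39318 s8u24 s8c25 rfl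
theorem s8c26 : allBelow (fun k => fs8 (Nat.add (Nat.succ 39318) k)) 1276 = true := by decide +kernel
theorem s8u26 : ∀ v, 1 ≤ v → v ≤ 40594 → fs8 v = true := slots_step fs8 39318 1276 40594 s8u25 s8c26 rfl
theorem s8c27 : allBelow (fun k => fs8 (Nat.add (Nat.succ 40594) k)) 1260 = true := by decide +kernel
theorem s8u27 : ∀ v, 1 ≤ v → v ≤ 41854 → fs8 v = true := slots_step fs8 40594 1260 41854 s8u26 s8c27 rfl
theorem s8c28 : allBelow (fun k => fs8 (Nat.add (Nat.succ 41854) k)) 1220 = true := by decide +kernel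
theorem s8u28 : ∀ v, 1 ≤ v → v ≤ 43074 → fs8 v = true := slots_step fs8 41854 1220 43074 s8u27 s8c28 rfl
theorem s8c29 : allBelow (fun k => fs8 (Nat.add (Nat.succ 43074) k)) 58 = true := by decide +kernel
theorem s8u29 : ∀ v, 1 ≤ v → v ≤ 43132 → fs8 v = true := slots_step fs8 43074 58 43132 s8u28 s8c29 rfl
theorem s9c0 : allBelow (fun k => fs9 (Nat.add (Nat.succ 0) k)) 1318 = true := by decide +kernel
theorem s9u0 : ∀ v, 1 ≤ v → v ≤ 1318 → fs9 v = true := slots_step fs9 0 1318 1318 (slots_zero fs9) s9c0 rfl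
theorem s9c1 : allBelow (fun k => fs9 (Nat.add (Nat.succ 1318) k)) 1445 = true := by decide +kernel
theorem s9u1 : ∀ v, 1 ≤ v → v ≤ 2763 → fs9 v = true := slots_step fs9 1318 1445 2763 s9u0 s9c1 rfl
theorem s9c2 : allBelow (fun k => fs9 (Nat.add (Nat.succ 2763) k)) 1523 = true := by decide +kernel
theorem s9u2 : ∀ v, 1 ≤ v → v ≤ 4286 → fs9 v = true := slots_step fs9 2763 1523 4286 s9u1 s9c2 rfl
theorem s9c3 : allBelow (fun k => fs9 (Nat.add (Nat.succ 4286) k)) 1632 = true := by decide +kernel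
theorem s9u3 : ∀ v, 1 ≤ v → v ≤ 5918 → fs9 v = true := slots_step fs9 4286 1632 5918 s9u2 s9c3 rfl
theorem s9c4 : allBelow (fun k => fs9 (Nat.add (Nat.succ 5918) k)) 1762 = true := by decide +kernel
theorem s9u4 : ∀ v, 1 ≤ v → v ≤ 7680 → fs9 v = true := slots_step fs9 5918 1762 7680 s9u3 s9c4 rfl
theorem s9c5 : allBelow (fun k => fs9 (Nat.add (Nat.succ 7680) k)) 1646 = true := by decide +kernel
theorem s9u5 : ∀ v, 1 ≤ v → v ≤ 9326 → fs9 v = true := slots_step fs9 7680 1646 9326 s9u4 s9c5 rfl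
theorem s9c6 : allBelow (fun k => fs9 (Nat.add (Nat.succ 9326) k)) 1792 = true := by decide +kernel
theorem s9u6 : ∀ v, 1 ≤ v → v ≤ 11118 → fs9 v = true := slots_step fs9 9326 1792 11118 s9u5 s9c6 rfl
theorem s9c7 : allBelow (fun k => fs9 (Nat.add (Nat.succ 11118) k)) 1847 = true := by decide +kernel
theorem s9u7 : ∀ v, 1 ≤ v → v ≤ 12965 → fs9 v = true := slots_step fs9 11118 1847 12965 s9u6 s9c7 rfl
theorem s9c8 : allBelow (fun k => fs9 (Nat.add (Nat.succ 12965) k)) 1833 = true := by decide +kernel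
theorem s9u8 : ∀ v, 1 ≤ v → v ≤ 14798 → fs9 v = true := slots_step fs9 12965 1833 14798 s9u7 s9c8 rfl
theorem s9c9 : allBelow (fun k => fs9 (Nat.add (Nat.succ 14798) k)) 1803 = true := by decide +kernel
theorem s9u9 : ∀ v, 1 ≤ v → v ≤ 16601 → fs9 v = true := slots_step fs9 14798 1803 16601 s9u8 s9c9 rfl
theorem s9c10 : allBelow (fun k => fs9 (Nat.add (Nat.succ 16601) k)) 1816 = true := by decide +kernel
theorem s9u10 : ∀ v, 1 ≤ v → v ≤ 18417 → fs9 v = true := slots_step fs9 16601 1816 18417 s9u9 s9c10 rfl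
theorem s9c11 : allBelow (fun k => fs9 (Nat.add (Nat.succ 18417) k)) 1730 = true := by decide +kernel
theorem s9u11 : ∀ v, 1 ≤ v → v ≤ 20147 → fs9 v = true := slots_step fs9 18417 1730 20147 s9u10 s9c11 rfl
theorem s9c12 : allBelow (fun k => fs9 (Nat.add (Nat.succ 20147) k)) 1919 = true := by decide +kernel
theorem s9u12 : ∀ v, 1 ≤ v → v ≤ 22066 → fs9 v = true := slots_step fs9 20147 1919 22066 s9u11 s9c12 rfl
theorem s9c13 : allBelow (fun k => fs9 (Nat.add (Nat.succ 22066) k)) 1786 = true := by decide +kernel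
theorem s9u13 : ∀ v, 1 ≤ v → v ≤ 23852 → fs9 v = true := slots_step fs9 22066 1786 23852 s9u12 s9c13 rfl
theorem s9c14 : allBelow (fun k => fs9 (Nat.add (Nat.succ 23852) k)) 1602 = true := by decide +kernel
theorem s9u14 : ∀ v, 1 ≤ v → v ≤ 25454 → fs9 v = true := slots_step fs9 23852 1602 25454 s9u13 s9c14 rfl
theorem s9c15 : allBelow (fun k => fs9 (Nat.add (Nat.succ 25454) k)) 1463 = true := by decide +kernel
theorem s9u15 : ∀ v, 1 ≤ v → v ≤ 26917 → fs9 v = true := slots_step fs9 25454 1463 26917 s9u14 s9c15 rfl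
theorem s9c16 : allBelow (fun k => fs9 (Nat.add (Nat.succ 26917) k)) 1390 = true := by decide +kernel
theorem s9u16 : ∀ v, 1 ≤ v → v ≤ 28307 → fs9 v = true := slots_step fs9 26917 1390 28307 s9u15 s9c16 rfl
theorem s9c17 : allBelow (fun k => fs9 (Nat.add (Nat.succ 28307) k)) 1385 = true := by decide +kernel
theorem s9u17 : ∀ v, 1 ≤ v → v ≤ 29692 → fs9 v = true := slots_step fs9 28307 1385 29692 s9u16 s9c17 rfl
theorem s9c18 : allBelow (fun k => fs9 (Nat.add (Nat.succ 29692) k)) 1357 = true := by decide +kernel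
theorem s9u18 : ∀ v, 1 ≤ v → v ≤ 31049 → fs9 v = true := slots_step fs9 29692 1357 31049 s9u17 s9c18 rfl
theorem s9c19 : allBelow (fun k => fs9 (Nat.add (Nat.succ 31049) k)) 1320 = true := by decide +kernel
theorem s9u19 : ∀ v, 1 ≤ v → v ≤ 32369 → fs9 v = true := slots_step fs9 31049 1320 32369 s9u18 s9c19 rfl
theorem s9c20 : allBelow (fun k => fs9 (Nat.add (Nat.succ 32369) k)) 1294 = true := by decide +kernel
theorem s9u20 : ∀ v, 1 ≤ v → v ≤ 33663 → fs9 v = true := slots_step fs9 32369 1294 33663 s9u19 s9c20 rfl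
theorem s9c21 : allBelow (fun k => fs9 (Nat.add (Nat.succ 33663) k)) 1260 = true := by decide +kernel
theorem s9u21 : ∀ v, 1 ≤ v → v ≤ 34923 → fs9 v = true := slots_step fs9 33663 1260 34923 s9u20 s9c21 rfl
theorem s9c22 : allBelow (fun k => fs9 (Nat.add (Nat.succ 34923) k)) 1234 = true := by decide +kernel
theorem s9u22 : ∀ v, 1 ≤ v → v ≤ 36157 → fs9 v = true := slots_step fs9 34923 1234 36157 s9u21 s9c22 rfl
theorem s9c23 : allBelow (fun k => fs9 (Nat.add (Nat.succ 36157) k)) 1257 = true := by decide +kernel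
theorem s9u23 : ∀ v, 1 ≤ v → v ≤ 37414 → fs9 v = true := slots_step fs9 36157 1257 37414 s9u22 s9c23 rfl
theorem s9c24 : allBelow (fun k => fs9 (Nat.add (Nat.succ 37414) k)) 1290 = true := by decide +kernel
theorem s9u24 : ∀ v, 1 ≤ v → v ≤ 38704 → fs9 v = true := slots_step fs9 37414 1290 38704 s9u23 s9c24 rfl
theorem s9c25 : allBelow (fun k => fs9 (Nat.add (Nat.succ 38704) k)) 1280 = true := by decide +kernel
theorem s9u25 : ∀ v, 1 ≤ v → v ≤ 39984 → fs9 v = true := slots_step fs9 38704 1280 39984 s9u24 s9c25 rfl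
theorem s9c26 : allBelow (fun k => fs9 (Nat.add (Nat.succ 39984) k)) 1301 = true := by decide +kernel
theorem s9u26 : ∀ v, 1 ≤ v → v ≤ 41285 → fs9 v = true := slots_step fs9 39984 1301 41285 s9u25 s9c26 rfl
theorem s9c27 : allBelow (fun k => fs9 (Nat.add (Nat.succ 41285) k)) 1254 = true := by decide +kernel
theorem s9u27 : ∀ v, 1 ≤ v → v ≤ 42539 → fs9 v = true := slots_step fs9 41285 1254 42539 s9u26 s9c27 rfl
theorem s9c28 : allBelow (fun k => fs9 (Nat.add (Nat.succ 42539) k)) 593 = true := by decide +kernel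
theorem s9u28 : ∀ v, 1 ≤ v → v ≤ 43132 → fs9 v = true := slots_step fs9 42539 593 43132 s9u27 s9c28 rfl
theorem s10c0 : allBelow (fun k => fs10 (Nat.add (Nat.succ 0) k)) 2910 = true := by decide +kernel
theorem s10u0 : ∀ v, 1 ≤ v → v ≤ 2910 → fs10 v = true := slots_step fs10 0 2910 2910 (slots_zero fs10) s10c0 rfl
theorem s10c1 : allBelow (fun k => fs10 (Nat.add (Nat.succ 2910) k)) 2238 = true := by decide +kernel
theorem s10u1 : ∀ v, 1 ≤ v → v ≤ 5148 → fs10 v = true := slots_step fs10 2910 2238 5148 s10u0 s10c1 rfl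
theorem s10c2 : allBelow (fun k => fs10 (Nat.add (Nat.succ 5148) k)) 1855 = true := by decide +kernel
theorem s10u2 : ∀ v, 1 ≤ v → v ≤ 7003 → fs10 v = true := slots_step fs10 5148 1855 7003 s10u1 s10c2 rfl
theorem s10c3 : allBelow (fun k => fs10 (Nat.add (Nat.succ 7003) k)) 1850 = true := by decide +kernel
theorem s10u3 : ∀ v, 1 ≤ v → v ≤ 8853 → fs10 v = true := slots_step fs10 7003 1850 8853 s10u2 s10c3 rfl
theorem s10c4 : allBelow (fun k => fs10 (Nat.add (Nat.succ 8853) k)) 1250 = true := by decide +kernel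
theorem s10u4 : ∀ v, 1 ≤ v → v ≤ 10103 → fs10 v = true := slots_step fs10 8853 1250 10103 s10u3 s10c4 rfl
theorem s10c5 : allBelow (fun k => fs10 (Nat.add (Nat.succ 10103) k)) 2022 = true := by decide +kernel
theorem s10u5 : ∀ v, 1 ≤ v → v ≤ 12125 → fs10 v = true := slots_step fs10 10103 2022 12125 s10u4 s10c5 rfl
theorem s10c6 : allBelow (fun k => fs10 (Nat.add (Nat.succ 12125) k)) 1191 = true := by decide +kernel
theorem s10u6 : ∀ v, 1 ≤ v → v ≤ 13316 → fs10 v = true := slots_step fs10 12125 1191 13316 s10u5 s10c6 rfl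
theorem s10c7 : allBelow (fun k => fs10 (Nat.add (Nat.succ 13316) k)) 2020 = true := by decide +kernel
theorem s10u7 : ∀ v, 1 ≤ v → v ≤ 15336 → fs10 v = true := slots_step fs10 13316 2020 15336 s10u6 s10c7 rfl
theorem s10c8 : allBelow (fun k => fs10 (Nat.add (Nat.succ 15336) k)) 1339 = true := by decide +kernel
theorem s10u8 : ∀ v, 1 ≤ v → v ≤ 16675 → fs10 v = true := slots_step fs10 15336 1339 16675 s10u7 s10c8 rfl
theorem s10c9 : allBelow (fun k => fs10 (Nat.add (Nat.succ 16675) k)) 1679 = true := by decide +kernel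
theorem s10u9 : ∀ v, 1 ≤ v → v ≤ 18354 → fs10 v = true := slots_step fs10 16675 1679 18354 s10u8 s10c9 rfl
theorem s10c10 : allBelow (fun k => fs10 (Nat.add (Nat.succ 18354) k)) 1720 = true := by decide +kernel
theorem s10u10 : ∀ v, 1 ≤ v → v ≤ 20074 → fs10 v = true := slots_step fs10 18354 1720 20074 s10u9 s10c10 rfl
theorem s10c11 : allBelow (fun k => fs10 (Nat.add (Nat.succ 20074) k)) 1284 = true := by decide +kernel
theorem s10u11 : ∀ v, 1 ≤ v → v ≤ 21358 → fs10 v = true := slots_step fs10 20074 1284 21358 s10u10 s10c11 rfl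
theorem s10c12 : allBelow (fun k => fs10 (Nat.add (Nat.succ 21358) k)) 1811 = true := by decide +kernel
theorem s10u12 : ∀ v, 1 ≤ v → v ≤ 23169 → fs10 v = true := slots_step fs10 21358 1811 23169 s10u11 s10c12 rfl
theorem s10c13 : allBelow (fun k => fs10 (Nat.add (Nat.succ 23169) k)) 1663 = true := by decide +kernel
theorem s10u13 : ∀ v, 1 ≤ v → v ≤ 24832 → fs10 v = true := slots_step fs10 23169 1663 24832 s10u12 s10c13 rfl
theorem s10c14 : allBelow (fun k => fs10 (Nat.add (Nat.succ 24832) k)) 3409 = true := by decide +kernel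
theorem s10u14 : ∀ v, 1 ≤ v → v ≤ 28241 → fs10 v = true := slots_step fs10 24832 3409 28241 s10u13 s10c14 rfl
theorem s10c15 : allBelow (fun k => fs10 (Nat.add (Nat.succ 28241) k)) 3846 = true := by decide +kernel
theorem s10u15 : ∀ v, 1 ≤ v → v ≤ 32087 → fs10 v = true := slots_step fs10 28241 3846 32087 s10u14 s10c15 rfl
theorem s10c16 : allBelow (fun k => fs10 (Nat.add (Nat.succ 32087) k)) 3846 = true := by decide +kernel
theorem s10u16 : ∀ v, 1 ≤ v → v ≤ 35933 → fs10 v = true := slots_step fs10 32087 3846 35933 s10u15 s10c16 rfl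
theorem s10c17 : allBelow (fun k => fs10 (Nat.add (Nat.succ 35933) k)) 3846 = true := by decide +kernel
theorem s10u17 : ∀ v, 1 ≤ v → v ≤ 39779 → fs10 v = true := slots_step fs10 35933 3846 39779 s10u16 s10c17 rfl
theorem s10c18 : allBelow (fun k => fs10 (Nat.add (Nat.succ 39779) k)) 3353 = true := by decide +kernel
theorem s10u18 : ∀ v, 1 ≤ v → v ≤ 43132 → fs10 v = true := slots_step fs10 39779 3353 43132 s10u17 s10c18 rfl
theorem gz : countBelow gl 0 = 0 := rfl
theorem gk0 : countBelow (fun k => gl (Nat.add 0 k)) 7692 = 5357 := by decide +kernel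
theorem gn0 : countBelow gl 7692 = 5357 := countBelow_step gl 0 7692 7692 0 5357 5357 gz gk0 rfl rfl
theorem gk1 : countBelow (fun k => gl (Nat.add 7692 k)) 7692 = 3985 := by decide +kernel
theorem gn1 : countBelow gl 15384 = 9342 := countBelow_step gl 7692 7692 15384 5357 3985 9342 gn0 gk1 rfl rfl
theorem gk2 : countBelow (fun k => gl (Nat.add 15384 k)) 7692 = 3325 := by decide +kernel
theorem gn2 : countBelow gl 23076 = 12667 := countBelow_step gl 15384 7692 23076 9342 3325 12667 gn1 gk2 rfl rfl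
theorem gk3 : countBelow (fun k => gl (Nat.add 23076 k)) 7692 = 6640 := by decide +kernel
theorem gn3 : countBelow gl 30768 = 19307 := countBelow_step gl 23076 7692 30768 12667 6640 19307 gn2 gk3 rfl rfl
theorem gk4 : countBelow (fun k => gl (Nat.add 30768 k)) 7692 = 7692 := by decide +kernel
theorem gn4 : countBelow gl 38460 = 26999 := countBelow_step gl 30768 7692 38460 19307 7692 26999 gn3 gk4 rfl rfl
theorem gk5 : countBelow (fun k => gl (Nat.add 38460 k)) 4672 = 4672 := by decide +kernel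
theorem gn5 : countBelow gl 43132 = 31671 := countBelow_step gl 38460 4672 43132 26999 4672 31671 gn4 gk5 rfl rfl

end Cfsg.Agent.Lib.Helper35.Fi23a
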