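import Cfsg.Agent.Lib.Helper35.Fi23a.PData

set_option Elab.async false

namespace Cfsg.Agent.Lib.Helper35.Fi23a

open Cfsg.Agent.Lib.Helper35

theorem rc0 : allBelow (fun k => fr (Nat.add 0 k)) 47 = true := by decide +kernel
theorem ru0 : ∀ i, i < 47 → fr i = true := below_step fr 0 47 47 (below_zero fr) rc0 rfl
theorem rc1 : allBelow (fun k => fr (Nat.add 47 k)) 47 = true := by decide +kernel
theorem ru1 : ∀ i, i < 94 → fr i = true := below_step fr 47 47 94 ru0 rc1 rfl
theorem rc2 : allBelow (fun k => fr (Nat.add 94 k)) 47 = true := by decide +kernel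
theorem ru2 : ∀ i, i < 141 → fr i = true := below_step fr 94 47 141 ru1 rc2 rfl
theorem rc3 : allBelow (fun k => fr (Nat.add 141 k)) 47 = true := by decide +kernel
theorem ru3 : ∀ i, i < 188 → fr i = true := below_step fr 141 47 188 ru2 rc3 rfl
theorem rc4 : allBelow (fun k => fr (Nat.add 188 k)) 47 = true := by decide +kernel
theorem ru4 : ∀ i, i < 235 → fr i = true := below_step fr 188 47 235 ru3 rc4 rfl
theorem rc5 : allBelow (fun k => fr (Nat.add 235 k)) 47 = true := by decide +kernel
theorem ru5 : ∀ i, i < 282 → fr i = true := below_step fr 235 47 282 ru4 rc5 rfl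
theorem rc6 : allBelow (fun k => fr (Nat.add 282 k)) 47 = true := by decide +kernel
theorem ru6 : ∀ i, i < 329 → fr i = true := below_step fr 282 47 329 ru5 rc6 rfl
theorem rc7 : allBelow (fun k => fr (Nat.add 329 k)) 47 = true := by decide +kernel
theorem ru7 : ∀ i, i < 376 → fr i = true := below_step fr 329 47 376 ru6 rc7 rfl
theorem rc8 : allBelow (fun k => fr (Nat.add 376 k)) 47 = true := by decide +kernel
theorem ru8 : ∀ i, i < 423 → fr i = true := below_step fr 376 47 423 ru7 rc8 rfl
theorem rc9 : allBelow (fun k => fr (Nat.add 423 k)) 47 = true := by decide +kernel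
theorem ru9 : ∀ i, i < 470 → fr i = true := below_step fr 423 47 470 ru8 rc9 rfl
theorem rc10 : allBelow (fun k => fr (Nat.add 470 k)) 47 = true := by decide +kernel
theorem ru10 : ∀ i, i < 517 → fr i = true := below_step fr 470 47 517 ru9 rc10 rfl
theorem rc11 : allBelow (fun k => fr (Nat.add 517 k)) 47 = true := by decide +kernel
theorem ru11 : ∀ i, i < 564 → fr i = true := below_step fr 517 47 564 ru10 rc11 rfl
theorem rc12 : allBelow (fun k => fr (Nat.add 564 k)) 47 = true := by decide +kernel
theorem ru12 : ∀ i, i < 611 → fr i = true := below_step fr 564 47 611 ru11 rc12 rfl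
theorem rc13 : allBelow (fun k => fr (Nat.add 611 k)) 47 = true := by decide +kernel
theorem ru13 : ∀ i, i < 658 → fr i = true := below_step fr 611 47 658 ru12 rc13 rfl
theorem rc14 : allBelow (fun k => fr (Nat.add 658 k)) 47 = true := by decide +kernel
theorem ru14 : ∀ i, i < 705 → fr i = true := below_step fr 658 47 705 ru13 rc14 rfl
theorem rc15 : allBelow (fun k => fr (Nat.add 705 k)) 47 = true := by decide +kernel
theorem ru15 : ∀ i, i < 752 → fr i = true := below_step fr 705 47 752 ru14 rc15 rfl
theorem rc16 : allBelow (fun k => fr (Nat.add 752 k)) 47 = true := by decide +kernel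
theorem ru16 : ∀ i, i < 799 → fr i = true := below_step fr 752 47 799 ru15 rc16 rfl
theorem rc17 : allBelow (fun k => fr (Nat.add 799 k)) 47 = true := by decide +kernel
theorem ru17 : ∀ i, i < 846 → fr i = true := below_step fr 799 47 846 ru16 rc17 rfl
theorem rc18 : allBelow (fun k => fr (Nat.add 846 k)) 47 = true := by decide +kernel
theorem ru18 : ∀ i, i < 893 → fr i = true := below_step fr 846 47 893 ru17 rc18 rfl
theorem rc19 : allBelow (fun k => fr (Nat.add 893 k)) 47 = true := by decide +kernel
theorem ru19 : ∀ i, i < 940 → fr i = true := below_step fr 893 47 940 ru18 rc19 rfl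
theorem rc20 : allBelow (fun k => fr (Nat.add 940 k)) 47 = true := by decide +kernel
theorem ru20 : ∀ i, i < 987 → fr i = true := below_step fr 940 47 987 ru19 rc20 rfl
theorem rc21 : allBelow (fun k => fr (Nat.add 987 k)) 47 = true := by decide +kernel
theorem ru21 : ∀ i, i < 1034 → fr i = true := below_step fr 987 47 1034 ru20 rc21 rfl
theorem rc22 : allBelow (fun k => fr (Nat.add 1034 k)) 47 = true := by decide +kernel
theorem ru22 : ∀ i, i < 1081 → fr i = true := below_step fr 1034 47 1081 ru21 rc22 rfl
theorem rc23 : allBelow (fun k => fr (Nat.add 1081 k)) 47 = true := by decide +kernel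
theorem ru23 : ∀ i, i < 1128 → fr i = true := below_step fr 1081 47 1128 ru22 rc23 rfl
theorem rc24 : allBelow (fun k => fr (Nat.add 1128 k)) 47 = true := by decide +kernel
theorem ru24 : ∀ i, i < 1175 → fr i = true := below_step fr 1128 47 1175 ru23 rc24 rfl
theorem rc25 : allBelow (fun k => fr (Nat.add 1175 k)) 47 = true := by decide +kernel
theorem ru25 : ∀ i, i < 1222 → fr i = true := below_step fr 1175 47 1222 ru24 rc25 rfl
theorem rc26 : allBelow (fun k => fr (Nat.add 1222 k)) 47 = true := by decide +kernel
theorem ru26 : ∀ i, i < 1269 → fr i = true := below_step fr 1222 47 1269 ru25 rc26 rfl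
theorem rc27 : allBelow (fun k => fr (Nat.add 1269 k)) 47 = true := by decide +kernel
theorem ru27 : ∀ i, i < 1316 → fr i = true := below_step fr 1269 47 1316 ru26 rc27 rfl
theorem rc28 : allBelow (fun k => fr (Nat.add 1316 k)) 47 = true := by decide +kernel
theorem ru28 : ∀ i, i < 1363 → fr i = true := below_step fr 1316 47 1363 ru27 rc28 rfl
theorem rc29 : allBelow (fun k => fr (Nat.add 1363 k)) 47 = true := by decide +kernel
theorem ru29 : ∀ i, i < 1410 → fr i = true := below_step fr 1363 47 1410 ru28 rc29 rfl
theorem rc30 : allBelow (fun k => fr (Nat.add 1410 k)) 47 = true := by decide +kernel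
theorem ru30 : ∀ i, i < 1457 → fr i = true := below_step fr 1410 47 1457 ru29 rc30 rfl
theorem rc31 : allBelow (fun k => fr (Nat.add 1457 k)) 47 = true := by decide +kernel
theorem ru31 : ∀ i, i < 1504 → fr i = true := below_step fr 1457 47 1504 ru30 rc31 rfl
theorem rc32 : allBelow (fun k => fr (Nat.add 1504 k)) 47 = true := by decide +kernel
theorem ru32 : ∀ i, i < 1551 → fr i = true := below_step fr 1504 47 1551 ru31 rc32 rfl
theorem rc33 : allBelow (fun k => fr (Nat.add 1551 k)) 47 = true := by decide +kernel
theorem ru33 : ∀ i, i < 1598 → fr i = true := below_step fr 1551 47 1598 ru32 rc33 rfl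
theorem rc34 : allBelow (fun k => fr (Nat.add 1598 k)) 47 = true := by decide +kernel
theorem ru34 : ∀ i, i < 1645 → fr i = true := below_step fr 1598 47 1645 ru33 rc34 rfl
theorem rc35 : allBelow (fun k => fr (Nat.add 1645 k)) 47 = true := by decide +kernel
theorem ru35 : ∀ i, i < 1692 → fr i = true := below_step fr 1645 47 1692 ru34 rc35 rfl
theorem rc36 : allBelow (fun k => fr (Nat.add 1692 k)) 47 = true := by decide +kernel
theorem ru36 : ∀ i, i < 1739 → fr i = true := below_step fr 1692 47 1739 ru35 rc36 rfl
theorem rc37 : allBelow (fun k => fr (Nat.add 1739 k)) 47 = true := by decide +kernel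
theorem ru37 : ∀ i, i < 1786 → fr i = true := below_step fr 1739 47 1786 ru36 rc37 rfl
theorem rc38 : allBelow (fun k => fr (Nat.add 1786 k)) 47 = true := by decide +kernel
theorem ru38 : ∀ i, i < 1833 → fr i = true := below_step fr 1786 47 1833 ru37 rc38 rfl
theorem rc39 : allBelow (fun k => fr (Nat.add 1833 k)) 47 = true := by decide +kernel
theorem ru39 : ∀ i, i < 1880 → fr i = true := below_step fr 1833 47 1880 ru38 rc39 rfl
theorem rc40 : allBelow (fun k => fr (Nat.add 1880 k)) 47 = true := by decide +kernel
theorem ru40 : ∀ i, i < 1927 → fr i = true := below_step fr 1880 47 1927 ru39 rc40 rfl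
theorem rc41 : allBelow (fun k => fr (Nat.add 1927 k)) 47 = true := by decide +kernel
theorem ru41 : ∀ i, i < 1974 → fr i = true := below_step fr 1927 47 1974 ru40 rc41 rfl
theorem rc42 : allBelow (fun k => fr (Nat.add 1974 k)) 47 = true := by decide +kernel
theorem ru42 : ∀ i, i < 2021 → fr i = true := below_step fr 1974 47 2021 ru41 rc42 rfl
theorem rc43 : allBelow (fun k => fr (Nat.add 2021 k)) 47 = true := by decide +kernel
theorem ru43 : ∀ i, i < 2068 → fr i = true := below_step fr 2021 47 2068 ru42 rc43 rfl
theorem rc44 : allBelow (fun k => fr (Nat.add 2068 k)) 47 = true := by decide +kernel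
theorem ru44 : ∀ i, i < 2115 → fr i = true := below_step fr 2068 47 2115 ru43 rc44 rfl
theorem rc45 : allBelow (fun k => fr (Nat.add 2115 k)) 47 = true := by decide +kernel
theorem ru45 : ∀ i, i < 2162 → fr i = true := below_step fr 2115 47 2162 ru44 rc45 rfl
theorem rc46 : allBelow (fun k => fr (Nat.add 2162 k)) 47 = true := by decide +kernel
theorem ru46 : ∀ i, i < 2209 → fr i = true := below_step fr 2162 47 2209 ru45 rc46 rfl
theorem rc47 : allBelow (fun k => fr (Nat.add 2209 k)) 47 = true := by decide +kernel
theorem ru47 : ∀ i, i < 2256 → fr i = true := below_step fr 2209 47 2256 ru46 rc47 rfl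
theorem rc48 : allBelow (fun k => fr (Nat.add 2256 k)) 47 = true := by decide +kernel
theorem ru48 : ∀ i, i < 2303 → fr i = true := below_step fr 2256 47 2303 ru47 rc48 rfl
theorem rc49 : allBelow (fun k => fr (Nat.add 2303 k)) 47 = true := by decide +kernel
theorem ru49 : ∀ i, i < 2350 → fr i = true := below_step fr 2303 47 2350 ru48 rc49 rfl
theorem rc50 : allBelow (fun k => fr (Nat.add 2350 k)) 47 = true := by decide +kernel
theorem ru50 : ∀ i, i < 2397 → fr i = true := below_step fr 2350 47 2397 ru49 rc50 rfl
theorem rc51 : allBelow (fun k => fr (Nat.add 2397 k)) 47 = true := by decide +kernel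
theorem ru51 : ∀ i, i < 2444 → fr i = true := below_step fr 2397 47 2444 ru50 rc51 rfl
theorem rc52 : allBelow (fun k => fr (Nat.add 2444 k)) 47 = true := by decide +kernel
theorem ru52 : ∀ i, i < 2491 → fr i = true := below_step fr 2444 47 2491 ru51 rc52 rfl
theorem rc53 : allBelow (fun k => fr (Nat.add 2491 k)) 47 = true := by decide +kernel
theorem ru53 : ∀ i, i < 2538 → fr i = true := below_step fr 2491 47 2538 ru52 rc53 rfl
theorem rc54 : allBelow (fun k => fr (Nat.add 2538 k)) 47 = true := by decide +kernel
theorem ru54 : ∀ i, i < 2585 → fr i = true := below_step fr 2538 47 2585 ru53 rc54 rfl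
theorem rc55 : allBelow (fun k => fr (Nat.add 2585 k)) 47 = true := by decide +kernel
theorem ru55 : ∀ i, i < 2632 → fr i = true := below_step fr 2585 47 2632 ru54 rc55 rfl
theorem rc56 : allBelow (fun k => fr (Nat.add 2632 k)) 47 = true := by decide +kernel
theorem ru56 : ∀ i, i < 2679 → fr i = true := below_step fr 2632 47 2679 ru55 rc56 rfl
theorem rc57 : allBelow (fun k => fr (Nat.add 2679 k)) 47 = true := by decide +kernel
theorem ru57 : ∀ i, i < 2726 → fr i = true := below_step fr 2679 47 2726 ru56 rc57 rfl
theorem rc58 : allBelow (fun k => fr (Nat.add 2726 k)) 47 = true := by decide +kernel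
theorem ru58 : ∀ i, i < 2773 → fr i = true := below_step fr 2726 47 2773 ru57 rc58 rfl
theorem rc59 : allBelow (fun k => fr (Nat.add 2773 k)) 47 = true := by decide +kernel
theorem ru59 : ∀ i, i < 2820 → fr i = true := below_step fr 2773 47 2820 ru58 rc59 rfl
theorem rc60 : allBelow (fun k => fr (Nat.add 2820 k)) 47 = true := by decide +kernel
theorem ru60 : ∀ i, i < 2867 → fr i = true := below_step fr 2820 47 2867 ru59 rc60 rfl
theorem rc61 : allBelow (fun k => fr (Nat.add 2867 k)) 47 = true := by decide +kernel
theorem ru61 : ∀ i, i < 2914 → fr i = true := below_step fr 2867 47 2914 ru60 rc61 rfl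
theorem rc62 : allBelow (fun k => fr (Nat.add 2914 k)) 47 = true := by decide +kernel
theorem ru62 : ∀ i, i < 2961 → fr i = true := below_step fr 2914 47 2961 ru61 rc62 rfl
theorem rc63 : allBelow (fun k => fr (Nat.add 2961 k)) 47 = true := by decide +kernel
theorem ru63 : ∀ i, i < 3008 → fr i = true := below_step fr 2961 47 3008 ru62 rc63 rfl
theorem rc64 : allBelow (fun k => fr (Nat.add 3008 k)) 47 = true := by decide +kernel
theorem ru64 : ∀ i, i < 3055 → fr i = true := below_step fr 3008 47 3055 ru63 rc64 rfl
theorem rc65 : allBelow (fun k => fr (Nat.add 3055 k)) 47 = true := by decide +kernel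
theorem ru65 : ∀ i, i < 3102 → fr i = true := below_step fr 3055 47 3102 ru64 rc65 rfl
theorem rc66 : allBelow (fun k => fr (Nat.add 3102 k)) 47 = true := by decide +kernel
theorem ru66 : ∀ i, i < 3149 → fr i = true := below_step fr 3102 47 3149 ru65 rc66 rfl
theorem rc67 : allBelow (fun k => fr (Nat.add 3149 k)) 47 = true := by decide +kernel
theorem ru67 : ∀ i, i < 3196 → fr i = true := below_step fr 3149 47 3196 ru66 rc67 rfl
theorem rc68 : allBelow (fun k => fr (Nat.add 3196 k)) 47 = true := by decide +kernel
theorem ru68 : ∀ i, i < 3243 → fr i = true := below_step fr 3196 47 3243 ru67 rc68 rfl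
theorem rc69 : allBelow (fun k => fr (Nat.add 3243 k)) 47 = true := by decide +kernel
theorem ru69 : ∀ i, i < 3290 → fr i = true := below_step fr 3243 47 3290 ru68 rc69 rfl
theorem rc70 : allBelow (fun k => fr (Nat.add 3290 k)) 47 = true := by decide +kernel
theorem ru70 : ∀ i, i < 3337 → fr i = true := below_step fr 3290 47 3337 ru69 rc70 rfl
theorem rc71 : allBelow (fun k => fr (Nat.add 3337 k)) 47 = true := by decide +kernel
theorem ru71 : ∀ i, i < 3384 → fr i = true := below_step fr 3337 47 3384 ru70 rc71 rfl
theorem rc72 : allBelow (fun k => fr (Nat.add 3384 k)) 47 = true := by decide +kernel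
theorem ru72 : ∀ i, i < 3431 → fr i = true := below_step fr 3384 47 3431 ru71 rc72 rfl
theorem rc73 : allBelow (fun k => fr (Nat.add 3431 k)) 47 = true := by decide +kernel
theorem ru73 : ∀ i, i < 3478 → fr i = true := below_step fr 3431 47 3478 ru72 rc73 rfl
theorem rc74 : allBelow (fun k => fr (Nat.add 3478 k)) 47 = true := by decide +kernel
theorem ru74 : ∀ i, i < 3525 → fr i = true := below_step fr 3478 47 3525 ru73 rc74 rfl
theorem rc75 : allBelow (fun k => fr (Nat.add 3525 k)) 47 = true := by decide +kernel
theorem ru75 : ∀ i, i < 3572 → fr i = true := below_step fr 3525 47 3572 ru74 rc75 rfl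
theorem rc76 : allBelow (fun k => fr (Nat.add 3572 k)) 47 = true := by decide +kernel
theorem ru76 : ∀ i, i < 3619 → fr i = true := below_step fr 3572 47 3619 ru75 rc76 rfl
theorem rc77 : allBelow (fun k => fr (Nat.add 3619 k)) 47 = true := by decide +kernel
theorem ru77 : ∀ i, i < 3666 → fr i = true := below_step fr 3619 47 3666 ru76 rc77 rfl
theorem rc78 : allBelow (fun k => fr (Nat.add 3666 k)) 47 = true := by decide +kernel
theorem ru78 : ∀ i, i < 3713 → fr i = true := below_step fr 3666 47 3713 ru77 rc78 rfl
theorem rc79 : allBelow (fun k => fr (Nat.add 3713 k)) 47 = true := by decide +kernel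
theorem ru79 : ∀ i, i < 3760 → fr i = true := below_step fr 3713 47 3760 ru78 rc79 rfl
theorem rc80 : allBelow (fun k => fr (Nat.add 3760 k)) 47 = true := by decide +kernel
theorem ru80 : ∀ i, i < 3807 → fr i = true := below_step fr 3760 47 3807 ru79 rc80 rfl
theorem rc81 : allBelow (fun k => fr (Nat.add 3807 k)) 47 = true := by decide +kernel
theorem ru81 : ∀ i, i < 3854 → fr i = true := below_step fr 3807 47 3854 ru80 rc81 rfl
theorem rc82 : allBelow (fun k => fr (Nat.add 3854 k)) 47 = true := by decide +kernel
theorem ru82 : ∀ i, i < 3901 → fr i = true := below_step fr 3854 47 3901 ru81 rc82 rfl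
theorem rc83 : allBelow (fun k => fr (Nat.add 3901 k)) 47 = true := by decide +kernel
theorem ru83 : ∀ i, i < 3948 → fr i = true := below_step fr 3901 47 3948 ru82 rc83 rfl
theorem rc84 : allBelow (fun k => fr (Nat.add 3948 k)) 47 = true := by decide +kernel
theorem ru84 : ∀ i, i < 3995 → fr i = true := below_step fr 3948 47 3995 ru83 rc84 rfl
theorem rc85 : allBelow (fun k => fr (Nat.add 3995 k)) 47 = true := by decide +kernel
theorem ru85 : ∀ i, i < 4042 → fr i = true := below_step fr 3995 47 4042 ru84 rc85 rfl
theorem rc86 : allBelow (fun k => fr (Nat.add 4042 k)) 47 = true := by decide +kernel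
theorem ru86 : ∀ i, i < 4089 → fr i = true := below_step fr 4042 47 4089 ru85 rc86 rfl
theorem rc87 : allBelow (fun k => fr (Nat.add 4089 k)) 47 = true := by decide +kernel
theorem ru87 : ∀ i, i < 4136 → fr i = true := below_step fr 4089 47 4136 ru86 rc87 rfl
theorem rc88 : allBelow (fun k => fr (Nat.add 4136 k)) 47 = true := by decide +kernel
theorem ru88 : ∀ i, i < 4183 → fr i = true := below_step fr 4136 47 4183 ru87 rc88 rfl
theorem rc89 : allBelow (fun k => fr (Nat.add 4183 k)) 47 = true := by decide +kernel
theorem ru89 : ∀ i, i < 4230 → fr i = true := below_step fr 4183 47 4230 ru88 rc89 rfl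
theorem rc90 : allBelow (fun k => fr (Nat.add 4230 k)) 47 = true := by decide +kernel
theorem ru90 : ∀ i, i < 4277 → fr i = true := below_step fr 4230 47 4277 ru89 rc90 rfl
theorem rc91 : allBelow (fun k => fr (Nat.add 4277 k)) 47 = true := by decide +kernel
theorem ru91 : ∀ i, i < 4324 → fr i = true := below_step fr 4277 47 4324 ru90 rc91 rfl
theorem rc92 : allBelow (fun k => fr (Nat.add 4324 k)) 47 = true := by decide +kernel
theorem ru92 : ∀ i, i < 4371 → fr i = true := below_step fr 4324 47 4371 ru91 rc92 rfl
theorem rc93 : allBelow (fun k => fr (Nat.add 4371 k)) 47 = true := by decide +kernel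
theorem ru93 : ∀ i, i < 4418 → fr i = true := below_step fr 4371 47 4418 ru92 rc93 rfl
theorem rc94 : allBelow (fun k => fr (Nat.add 4418 k)) 47 = true := by decide +kernel
theorem ru94 : ∀ i, i < 4465 → fr i = true := below_step fr 4418 47 4465 ru93 rc94 rfl
theorem rc95 : allBelow (fun k => fr (Nat.add 4465 k)) 47 = true := by decide +kernel
theorem ru95 : ∀ i, i < 4512 → fr i = true := below_step fr 4465 47 4512 ru94 rc95 rfl
theorem rc96 : allBelow (fun k => fr (Nat.add 4512 k)) 47 = true := by decide +kernel
theorem ru96 : ∀ i, i < 4559 → fr i = true := below_step fr 4512 47 4559 ru95 rc96 rfl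
theorem rc97 : allBelow (fun k => fr (Nat.add 4559 k)) 47 = true := by decide +kernel
theorem ru97 : ∀ i, i < 4606 → fr i = true := below_step fr 4559 47 4606 ru96 rc97 rfl
theorem rc98 : allBelow (fun k => fr (Nat.add 4606 k)) 47 = true := by decide +kernel
theorem ru98 : ∀ i, i < 4653 → fr i = true := below_step fr 4606 47 4653 ru97 rc98 rfl
theorem rc99 : allBelow (fun k => fr (Nat.add 4653 k)) 47 = true := by decide +kernel
theorem ru99 : ∀ i, i < 4700 → fr i = true := below_step fr 4653 47 4700 ru98 rc99 rfl
theorem rc100 : allBelow (fun k => fr (Nat.add 4700 k)) 47 = true := by decide +kernel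
theorem ru100 : ∀ i, i < 4747 → fr i = true := below_step fr 4700 47 4747 ru99 rc100 rfl
theorem rc101 : allBelow (fun k => fr (Nat.add 4747 k)) 47 = true := by decide +kernel
theorem ru101 : ∀ i, i < 4794 → fr i = true := below_step fr 4747 47 4794 ru100 rc101 rfl
theorem rc102 : allBelow (fun k => fr (Nat.add 4794 k)) 47 = true := by decide +kernel
theorem ru102 : ∀ i, i < 4841 → fr i = true := below_step fr 4794 47 4841 ru101 rc102 rfl
theorem rc103 : allBelow (fun k => fr (Nat.add 4841 k)) 47 = true := by decide +kernel
theorem ru103 : ∀ i, i < 4888 → fr i = true := below_step fr 4841 47 4888 ru102 rc103 rfl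
theorem rc104 : allBelow (fun k => fr (Nat.add 4888 k)) 47 = true := by decide +kernel
theorem ru104 : ∀ i, i < 4935 → fr i = true := below_step fr 4888 47 4935 ru103 rc104 rfl
theorem rc105 : allBelow (fun k => fr (Nat.add 4935 k)) 47 = true := by decide +kernel
theorem ru105 : ∀ i, i < 4982 → fr i = true := below_step fr 4935 47 4982 ru104 rc105 rfl
theorem rc106 : allBelow (fun k => fr (Nat.add 4982 k)) 47 = true := by decide +kernel
theorem ru106 : ∀ i, i < 5029 → fr i = true := below_step fr 4982 47 5029 ru105 rc106 rfl
theorem rc107 : allBelow (fun k => fr (Nat.add 5029 k)) 47 = true := by decide +kernel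
theorem ru107 : ∀ i, i < 5076 → fr i = true := below_step fr 5029 47 5076 ru106 rc107 rfl
theorem rc108 : allBelow (fun k => fr (Nat.add 5076 k)) 47 = true := by decide +kernel
theorem ru108 : ∀ i, i < 5123 → fr i = true := below_step fr 5076 47 5123 ru107 rc108 rfl
theorem rc109 : allBelow (fun k => fr (Nat.add 5123 k)) 47 = true := by decide +kernel
theorem ru109 : ∀ i, i < 5170 → fr i = true := below_step fr 5123 47 5170 ru108 rc109 rfl
theorem rc110 : allBelow (fun k => fr (Nat.add 5170 k)) 47 = true := by decide +kernel
theorem ru110 : ∀ i, i < 5217 → fr i = true := below_step fr 5170 47 5217 ru109 rc110 rfl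
theorem rc111 : allBelow (fun k => fr (Nat.add 5217 k)) 47 = true := by decide +kernel
theorem ru111 : ∀ i, i < 5264 → fr i = true := below_step fr 5217 47 5264 ru110 rc111 rfl
theorem rc112 : allBelow (fun k => fr (Nat.add 5264 k)) 47 = true := by decide +kernel
theorem ru112 : ∀ i, i < 5311 → fr i = true := below_step fr 5264 47 5311 ru111 rc112 rfl
theorem rc113 : allBelow (fun k => fr (Nat.add 5311 k)) 47 = true := by decide +kernel
theorem ru113 : ∀ i, i < 5358 → fr i = true := below_step fr 5311 47 5358 ru112 rc113 rfl
theorem rc114 : allBelow (fun k => fr (Nat.add 5358 k)) 47 = true := by decide +kernel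
theorem ru114 : ∀ i, i < 5405 → fr i = true := below_step fr 5358 47 5405 ru113 rc114 rfl
theorem rc115 : allBelow (fun k => fr (Nat.add 5405 k)) 47 = true := by decide +kernel
theorem ru115 : ∀ i, i < 5452 → fr i = true := below_step fr 5405 47 5452 ru114 rc115 rfl
theorem rc116 : allBelow (fun k => fr (Nat.add 5452 k)) 47 = true := by decide +kernel
theorem ru116 : ∀ i, i < 5499 → fr i = true := below_step fr 5452 47 5499 ru115 rc116 rfl
theorem rc117 : allBelow (fun k => fr (Nat.add 5499 k)) 47 = true := by decide +kernel
theorem ru117 : ∀ i, i < 5546 → fr i = true := below_step fr 5499 47 5546 ru116 rc117 rfl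
theorem rc118 : allBelow (fun k => fr (Nat.add 5546 k)) 47 = true := by decide +kernel
theorem ru118 : ∀ i, i < 5593 → fr i = true := below_step fr 5546 47 5593 ru117 rc118 rfl
theorem rc119 : allBelow (fun k => fr (Nat.add 5593 k)) 47 = true := by decide +kernel
theorem ru119 : ∀ i, i < 5640 → fr i = true := below_step fr 5593 47 5640 ru118 rc119 rfl
theorem rc120 : allBelow (fun k => fr (Nat.add 5640 k)) 47 = true := by decide +kernel
theorem ru120 : ∀ i, i < 5687 → fr i = true := below_step fr 5640 47 5687 ru119 rc120 rfl
theorem rc121 : allBelow (fun k => fr (Nat.add 5687 k)) 47 = true := by decide +kernel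
theorem ru121 : ∀ i, i < 5734 → fr i = true := below_step fr 5687 47 5734 ru120 rc121 rfl
theorem rc122 : allBelow (fun k => fr (Nat.add 5734 k)) 47 = true := by decide +kernel
theorem ru122 : ∀ i, i < 5781 → fr i = true := below_step fr 5734 47 5781 ru121 rc122 rfl
theorem rc123 : allBelow (fun k => fr (Nat.add 5781 k)) 47 = true := by decide +kernel
theorem ru123 : ∀ i, i < 5828 → fr i = true := below_step fr 5781 47 5828 ru122 rc123 rfl
theorem rc124 : allBelow (fun k => fr (Nat.add 5828 k)) 47 = true := by decide +kernel
theorem ru124 : ∀ i, i < 5875 → fr i = true := below_step fr 5828 47 5875 ru123 rc124 rfl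
theorem rc125 : allBelow (fun k => fr (Nat.add 5875 k)) 47 = true := by decide +kernel
theorem ru125 : ∀ i, i < 5922 → fr i = true := below_step fr 5875 47 5922 ru124 rc125 rfl
theorem rc126 : allBelow (fun k => fr (Nat.add 5922 k)) 47 = true := by decide +kernel
theorem ru126 : ∀ i, i < 5969 → fr i = true := below_step fr 5922 47 5969 ru125 rc126 rfl
theorem rc127 : allBelow (fun k => fr (Nat.add 5969 k)) 47 = true := by decide +kernel
theorem ru127 : ∀ i, i < 6016 → fr i = true := below_step fr 5969 47 6016 ru126 rc127 rfl
theorem rc128 : allBelow (fun k => fr (Nat.add 6016 k)) 47 = true := by decide +kernel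
theorem ru128 : ∀ i, i < 6063 → fr i = true := below_step fr 6016 47 6063 ru127 rc128 rfl
theorem rc129 : allBelow (fun k => fr (Nat.add 6063 k)) 47 = true := by decide +kernel
theorem ru129 : ∀ i, i < 6110 → fr i = true := below_step fr 6063 47 6110 ru128 rc129 rfl
theorem rc130 : allBelow (fun k => fr (Nat.add 6110 k)) 47 = true := by decide +kernel
theorem ru130 : ∀ i, i < 6157 → fr i = true := below_step fr 6110 47 6157 ru129 rc130 rfl
theorem rc131 : allBelow (fun k => fr (Nat.add 6157 k)) 47 = true := by decide +kernel
theorem ru131 : ∀ i, i < 6204 → fr i = true := below_step fr 6157 47 6204 ru130 rc131 rfl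
theorem rc132 : allBelow (fun k => fr (Nat.add 6204 k)) 47 = true := by decide +kernel
theorem ru132 : ∀ i, i < 6251 → fr i = true := below_step fr 6204 47 6251 ru131 rc132 rfl
theorem rc133 : allBelow (fun k => fr (Nat.add 6251 k)) 47 = true := by decide +kernel
theorem ru133 : ∀ i, i < 6298 → fr i = true := below_step fr 6251 47 6298 ru132 rc133 rfl
theorem rc134 : allBelow (fun k => fr (Nat.add 6298 k)) 47 = true := by decide +kernel
theorem ru134 : ∀ i, i < 6345 → fr i = true := below_step fr 6298 47 6345 ru133 rc134 rfl
theorem rc135 : allBelow (fun k => fr (Nat.add 6345 k)) 47 = true := by decide +kernel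
theorem ru135 : ∀ i, i < 6392 → fr i = true := below_step fr 6345 47 6392 ru134 rc135 rfl
theorem rc136 : allBelow (fun k => fr (Nat.add 6392 k)) 47 = true := by decide +kernel
theorem ru136 : ∀ i, i < 6439 → fr i = true := below_step fr 6392 47 6439 ru135 rc136 rfl
theorem rc137 : allBelow (fun k => fr (Nat.add 6439 k)) 47 = true := by decide +kernel
theorem ru137 : ∀ i, i < 6486 → fr i = true := below_step fr 6439 47 6486 ru136 rc137 rfl
theorem rc138 : allBelow (fun k => fr (Nat.add 6486 k)) 47 = true := by decide +kernel
theorem ru138 : ∀ i, i < 6533 → fr i = true := below_step fr 6486 47 6533 ru137 rc138 rfl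
theorem rc139 : allBelow (fun k => fr (Nat.add 6533 k)) 47 = true := by decide +kernel
theorem ru139 : ∀ i, i < 6580 → fr i = true := below_step fr 6533 47 6580 ru138 rc139 rfl
theorem rc140 : allBelow (fun k => fr (Nat.add 6580 k)) 47 = true := by decide +kernel
theorem ru140 : ∀ i, i < 6627 → fr i = true := below_step fr 6580 47 6627 ru139 rc140 rfl
theorem rc141 : allBelow (fun k => fr (Nat.add 6627 k)) 47 = true := by decide +kernel
theorem ru141 : ∀ i, i < 6674 → fr i = true := below_step fr 6627 47 6674 ru140 rc141 rfl
theorem rc142 : allBelow (fun k => fr (Nat.add 6674 k)) 47 = true := by decide +kernel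
theorem ru142 : ∀ i, i < 6721 → fr i = true := below_step fr 6674 47 6721 ru141 rc142 rfl
theorem rc143 : allBelow (fun k => fr (Nat.add 6721 k)) 47 = true := by decide +kernel
theorem ru143 : ∀ i, i < 6768 → fr i = true := below_step fr 6721 47 6768 ru142 rc143 rfl
theorem rc144 : allBelow (fun k => fr (Nat.add 6768 k)) 47 = true := by decide +kernel
theorem ru144 : ∀ i, i < 6815 → fr i = true := below_step fr 6768 47 6815 ru143 rc144 rfl
theorem rc145 : allBelow (fun k => fr (Nat.add 6815 k)) 47 = true := by decide +kernel
theorem ru145 : ∀ i, i < 6862 → fr i = true := below_step fr 6815 47 6862 ru144 rc145 rfl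
theorem rc146 : allBelow (fun k => fr (Nat.add 6862 k)) 47 = true := by decide +kernel
theorem ru146 : ∀ i, i < 6909 → fr i = true := below_step fr 6862 47 6909 ru145 rc146 rfl
theorem rc147 : allBelow (fun k => fr (Nat.add 6909 k)) 47 = true := by decide +kernel
theorem ru147 : ∀ i, i < 6956 → fr i = true := below_step fr 6909 47 6956 ru146 rc147 rfl
theorem rc148 : allBelow (fun k => fr (Nat.add 6956 k)) 47 = true := by decide +kernel
theorem ru148 : ∀ i, i < 7003 → fr i = true := below_step fr 6956 47 7003 ru147 rc148 rfl
theorem rc149 : allBelow (fun k => fr (Nat.add 7003 k)) 47 = true := by decide +kernel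
theorem ru149 : ∀ i, i < 7050 → fr i = true := below_step fr 7003 47 7050 ru148 rc149 rfl
theorem rc150 : allBelow (fun k => fr (Nat.add 7050 k)) 47 = true := by decide +kernel
theorem ru150 : ∀ i, i < 7097 → fr i = true := below_step fr 7050 47 7097 ru149 rc150 rfl
theorem rc151 : allBelow (fun k => fr (Nat.add 7097 k)) 47 = true := by decide +kernel
theorem ru151 : ∀ i, i < 7144 → fr i = true := below_step fr 7097 47 7144 ru150 rc151 rfl
theorem rc152 : allBelow (fun k => fr (Nat.add 7144 k)) 47 = true := by decide +kernel
theorem ru152 : ∀ i, i < 7191 → fr i = true := below_step fr 7144 47 7191 ru151 rc152 rfl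
theorem rc153 : allBelow (fun k => fr (Nat.add 7191 k)) 47 = true := by decide +kernel
theorem ru153 : ∀ i, i < 7238 → fr i = true := below_step fr 7191 47 7238 ru152 rc153 rfl
theorem rc154 : allBelow (fun k => fr (Nat.add 7238 k)) 47 = true := by decide +kernel
theorem ru154 : ∀ i, i < 7285 → fr i = true := below_step fr 7238 47 7285 ru153 rc154 rfl
theorem rc155 : allBelow (fun k => fr (Nat.add 7285 k)) 47 = true := by decide +kernel
theorem ru155 : ∀ i, i < 7332 → fr i = true := below_step fr 7285 47 7332 ru154 rc155 rfl
theorem rc156 : allBelow (fun k => fr (Nat.add 7332 k)) 47 = true := by decide +kernel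
theorem ru156 : ∀ i, i < 7379 → fr i = true := below_step fr 7332 47 7379 ru155 rc156 rfl
theorem rc157 : allBelow (fun k => fr (Nat.add 7379 k)) 47 = true := by decide +kernel
theorem ru157 : ∀ i, i < 7426 → fr i = true := below_step fr 7379 47 7426 ru156 rc157 rfl
theorem rc158 : allBelow (fun k => fr (Nat.add 7426 k)) 47 = true := by decide +kernel
theorem ru158 : ∀ i, i < 7473 → fr i = true := below_step fr 7426 47 7473 ru157 rc158 rfl
theorem rc159 : allBelow (fun k => fr (Nat.add 7473 k)) 47 = true := by decide +kernel
theorem ru159 : ∀ i, i < 7520 → fr i = true := below_step fr 7473 47 7520 ru158 rc159 rfl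
theorem rc160 : allBelow (fun k => fr (Nat.add 7520 k)) 47 = true := by decide +kernel
theorem ru160 : ∀ i, i < 7567 → fr i = true := below_step fr 7520 47 7567 ru159 rc160 rfl
theorem rc161 : allBelow (fun k => fr (Nat.add 7567 k)) 47 = true := by decide +kernel
theorem ru161 : ∀ i, i < 7614 → fr i = true := below_step fr 7567 47 7614 ru160 rc161 rfl
theorem rc162 : allBelow (fun k => fr (Nat.add 7614 k)) 47 = true := by decide +kernel
theorem ru162 : ∀ i, i < 7661 → fr i = true := below_step fr 7614 47 7661 ru161 rc162 rfl
theorem rc163 : allBelow (fun k => fr (Nat.add 7661 k)) 47 = true := by decide +kernel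
theorem ru163 : ∀ i, i < 7708 → fr i = true := below_step fr 7661 47 7708 ru162 rc163 rfl
theorem rc164 : allBelow (fun k => fr (Nat.add 7708 k)) 47 = true := by decide +kernel
theorem ru164 : ∀ i, i < 7755 → fr i = true := below_step fr 7708 47 7755 ru163 rc164 rfl
theorem rc165 : allBelow (fun k => fr (Nat.add 7755 k)) 47 = true := by decide +kernel
theorem ru165 : ∀ i, i < 7802 → fr i = true := below_step fr 7755 47 7802 ru164 rc165 rfl
theorem rc166 : allBelow (fun k => fr (Nat.add 7802 k)) 47 = true := by decide +kernel
theorem ru166 : ∀ i, i < 7849 → fr i = true := below_step fr 7802 47 7849 ru165 rc166 rfl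
theorem rc167 : allBelow (fun k => fr (Nat.add 7849 k)) 47 = true := by decide +kernel
theorem ru167 : ∀ i, i < 7896 → fr i = true := below_step fr 7849 47 7896 ru166 rc167 rfl
theorem rc168 : allBelow (fun k => fr (Nat.add 7896 k)) 47 = true := by decide +kernel
theorem ru168 : ∀ i, i < 7943 → fr i = true := below_step fr 7896 47 7943 ru167 rc168 rfl
theorem rc169 : allBelow (fun k => fr (Nat.add 7943 k)) 47 = true := by decide +kernel
theorem ru169 : ∀ i, i < 7990 → fr i = true := below_step fr 7943 47 7990 ru168 rc169 rfl
theorem rc170 : allBelow (fun k => fr (Nat.add 7990 k)) 47 = true := by decide +kernel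
theorem ru170 : ∀ i, i < 8037 → fr i = true := below_step fr 7990 47 8037 ru169 rc170 rfl
theorem rc171 : allBelow (fun k => fr (Nat.add 8037 k)) 47 = true := by decide +kernel
theorem ru171 : ∀ i, i < 8084 → fr i = true := below_step fr 8037 47 8084 ru170 rc171 rfl
theorem rc172 : allBelow (fun k => fr (Nat.add 8084 k)) 47 = true := by decide +kernel
theorem ru172 : ∀ i, i < 8131 → fr i = true := below_step fr 8084 47 8131 ru171 rc172 rfl
theorem rc173 : allBelow (fun k => fr (Nat.add 8131 k)) 47 = true := by decide +kernel
theorem ru173 : ∀ i, i < 8178 → fr i = true := below_step fr 8131 47 8178 ru172 rc173 rfl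
theorem rc174 : allBelow (fun k => fr (Nat.add 8178 k)) 47 = true := by decide +kernel
theorem ru174 : ∀ i, i < 8225 → fr i = true := below_step fr 8178 47 8225 ru173 rc174 rfl
theorem rc175 : allBelow (fun k => fr (Nat.add 8225 k)) 47 = true := by decide +kernel
theorem ru175 : ∀ i, i < 8272 → fr i = true := below_step fr 8225 47 8272 ru174 rc175 rfl
theorem rc176 : allBelow (fun k => fr (Nat.add 8272 k)) 47 = true := by decide +kernel
theorem ru176 : ∀ i, i < 8319 → fr i = true := below_step fr 8272 47 8319 ru175 rc176 rfl
theorem rc177 : allBelow (fun k => fr (Nat.add 8319 k)) 47 = true := by decide +kernel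
theorem ru177 : ∀ i, i < 8366 → fr i = true := below_step fr 8319 47 8366 ru176 rc177 rfl
theorem rc178 : allBelow (fun k => fr (Nat.add 8366 k)) 47 = true := by decide +kernel
theorem ru178 : ∀ i, i < 8413 → fr i = true := below_step fr 8366 47 8413 ru177 rc178 rfl
theorem rc179 : allBelow (fun k => fr (Nat.add 8413 k)) 47 = true := by decide +kernel
theorem ru179 : ∀ i, i < 8460 → fr i = true := below_step fr 8413 47 8460 ru178 rc179 rfl
theorem rc180 : allBelow (fun k => fr (Nat.add 8460 k)) 47 = true := by decide +kernel
theorem ru180 : ∀ i, i < 8507 → fr i = true := below_step fr 8460 47 8507 ru179 rc180 rfl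
theorem rc181 : allBelow (fun k => fr (Nat.add 8507 k)) 47 = true := by decide +kernel
theorem ru181 : ∀ i, i < 8554 → fr i = true := below_step fr 8507 47 8554 ru180 rc181 rfl
theorem rc182 : allBelow (fun k => fr (Nat.add 8554 k)) 47 = true := by decide +kernel
theorem ru182 : ∀ i, i < 8601 → fr i = true := below_step fr 8554 47 8601 ru181 rc182 rfl
theorem rc183 : allBelow (fun k => fr (Nat.add 8601 k)) 47 = true := by decide +kernel
theorem ru183 : ∀ i, i < 8648 → fr i = true := below_step fr 8601 47 8648 ru182 rc183 rfl
theorem rc184 : allBelow (fun k => fr (Nat.add 8648 k)) 47 = true := by decide +kernel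
theorem ru184 : ∀ i, i < 8695 → fr i = true := below_step fr 8648 47 8695 ru183 rc184 rfl
theorem rc185 : allBelow (fun k => fr (Nat.add 8695 k)) 47 = true := by decide +kernel
theorem ru185 : ∀ i, i < 8742 → fr i = true := below_step fr 8695 47 8742 ru184 rc185 rfl
theorem rc186 : allBelow (fun k => fr (Nat.add 8742 k)) 47 = true := by decide +kernel
theorem ru186 : ∀ i, i < 8789 → fr i = true := below_step fr 8742 47 8789 ru185 rc186 rfl
theorem rc187 : allBelow (fun k => fr (Nat.add 8789 k)) 47 = true := by decide +kernel
theorem ru187 : ∀ i, i < 8836 → fr i = true := below_step fr 8789 47 8836 ru186 rc187 rfl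
theorem rc188 : allBelow (fun k => fr (Nat.add 8836 k)) 47 = true := by decide +kernel
theorem ru188 : ∀ i, i < 8883 → fr i = true := below_step fr 8836 47 8883 ru187 rc188 rfl
theorem rc189 : allBelow (fun k => fr (Nat.add 8883 k)) 47 = true := by decide +kernel
theorem ru189 : ∀ i, i < 8930 → fr i = true := below_step fr 8883 47 8930 ru188 rc189 rfl
theorem rc190 : allBelow (fun k => fr (Nat.add 8930 k)) 47 = true := by decide +kernel
theorem ru190 : ∀ i, i < 8977 → fr i = true := below_step fr 8930 47 8977 ru189 rc190 rfl
theorem rc191 : allBelow (fun k => fr (Nat.add 8977 k)) 47 = true := by decide +kernel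
theorem ru191 : ∀ i, i < 9024 → fr i = true := below_step fr 8977 47 9024 ru190 rc191 rfl
theorem rc192 : allBelow (fun k => fr (Nat.add 9024 k)) 47 = true := by decide +kernel
theorem ru192 : ∀ i, i < 9071 → fr i = true := below_step fr 9024 47 9071 ru191 rc192 rfl
theorem rc193 : allBelow (fun k => fr (Nat.add 9071 k)) 47 = true := by decide +kernel
theorem ru193 : ∀ i, i < 9118 → fr i = true := below_step fr 9071 47 9118 ru192 rc193 rfl
theorem rc194 : allBelow (fun k => fr (Nat.add 9118 k)) 47 = true := by decide +kernel
theorem ru194 : ∀ i, i < 9165 → fr i = true := below_step fr 9118 47 9165 ru193 rc194 rfl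
theorem rc195 : allBelow (fun k => fr (Nat.add 9165 k)) 47 = true := by decide +kernel
theorem ru195 : ∀ i, i < 9212 → fr i = true := below_step fr 9165 47 9212 ru194 rc195 rfl
theorem rc196 : allBelow (fun k => fr (Nat.add 9212 k)) 47 = true := by decide +kernel
theorem ru196 : ∀ i, i < 9259 → fr i = true := below_step fr 9212 47 9259 ru195 rc196 rfl
theorem rc197 : allBelow (fun k => fr (Nat.add 9259 k)) 47 = true := by decide +kernel
theorem ru197 : ∀ i, i < 9306 → fr i = true := below_step fr 9259 47 9306 ru196 rc197 rfl
theorem rc198 : allBelow (fun k => fr (Nat.add 9306 k)) 47 = true := by decide +kernel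
theorem ru198 : ∀ i, i < 9353 → fr i = true := below_step fr 9306 47 9353 ru197 rc198 rfl
theorem rc199 : allBelow (fun k => fr (Nat.add 9353 k)) 47 = true := by decide +kernel
theorem ru199 : ∀ i, i < 9400 → fr i = true := below_step fr 9353 47 9400 ru198 rc199 rfl
theorem rc200 : allBelow (fun k => fr (Nat.add 9400 k)) 47 = true := by decide +kernel
theorem ru200 : ∀ i, i < 9447 → fr i = true := below_step fr 9400 47 9447 ru199 rc200 rfl
theorem rc201 : allBelow (fun k => fr (Nat.add 9447 k)) 47 = true := by decide +kernel
theorem ru201 : ∀ i, i < 9494 → fr i = true := below_step fr 9447 47 9494 ru200 rc201 rfl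
theorem rc202 : allBelow (fun k => fr (Nat.add 9494 k)) 47 = true := by decide +kernel
theorem ru202 : ∀ i, i < 9541 → fr i = true := below_step fr 9494 47 9541 ru201 rc202 rfl
theorem rc203 : allBelow (fun k => fr (Nat.add 9541 k)) 47 = true := by decide +kernel
theorem ru203 : ∀ i, i < 9588 → fr i = true := below_step fr 9541 47 9588 ru202 rc203 rfl
theorem rc204 : allBelow (fun k => fr (Nat.add 9588 k)) 47 = true := by decide +kernel
theorem ru204 : ∀ i, i < 9635 → fr i = true := below_step fr 9588 47 9635 ru203 rc204 rfl
theorem rc205 : allBelow (fun k => fr (Nat.add 9635 k)) 47 = true := by decide +kernel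
theorem ru205 : ∀ i, i < 9682 → fr i = true := below_step fr 9635 47 9682 ru204 rc205 rfl
theorem rc206 : allBelow (fun k => fr (Nat.add 9682 k)) 47 = true := by decide +kernel
theorem ru206 : ∀ i, i < 9729 → fr i = true := below_step fr 9682 47 9729 ru205 rc206 rfl
theorem rc207 : allBelow (fun k => fr (Nat.add 9729 k)) 47 = true := by decide +kernel
theorem ru207 : ∀ i, i < 9776 → fr i = true := below_step fr 9729 47 9776 ru206 rc207 rfl
theorem rc208 : allBelow (fun k => fr (Nat.add 9776 k)) 47 = true := by decide +kernel
theorem ru208 : ∀ i, i < 9823 → fr i = true := below_step fr 9776 47 9823 ru207 rc208 rfl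
theorem rc209 : allBelow (fun k => fr (Nat.add 9823 k)) 47 = true := by decide +kernel
theorem ru209 : ∀ i, i < 9870 → fr i = true := below_step fr 9823 47 9870 ru208 rc209 rfl
theorem rc210 : allBelow (fun k => fr (Nat.add 9870 k)) 47 = true := by decide +kernel
theorem ru210 : ∀ i, i < 9917 → fr i = true := below_step fr 9870 47 9917 ru209 rc210 rfl
theorem rc211 : allBelow (fun k => fr (Nat.add 9917 k)) 47 = true := by decide +kernel
theorem ru211 : ∀ i, i < 9964 → fr i = true := below_step fr 9917 47 9964 ru210 rc211 rfl
theorem rc212 : allBelow (fun k => fr (Nat.add 9964 k)) 47 = true := by decide +kernel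
theorem ru212 : ∀ i, i < 10011 → fr i = true := below_step fr 9964 47 10011 ru211 rc212 rfl
theorem rc213 : allBelow (fun k => fr (Nat.add 10011 k)) 47 = true := by decide +kernel
theorem ru213 : ∀ i, i < 10058 → fr i = true := below_step fr 10011 47 10058 ru212 rc213 rfl
theorem rc214 : allBelow (fun k => fr (Nat.add 10058 k)) 47 = true := by decide +kernel
theorem ru214 : ∀ i, i < 10105 → fr i = true := below_step fr 10058 47 10105 ru213 rc214 rfl
theorem rc215 : allBelow (fun k => fr (Nat.add 10105 k)) 47 = true := by decide +kernel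
theorem ru215 : ∀ i, i < 10152 → fr i = true := below_step fr 10105 47 10152 ru214 rc215 rfl
theorem rc216 : allBelow (fun k => fr (Nat.add 10152 k)) 47 = true := by decide +kernel
theorem ru216 : ∀ i, i < 10199 → fr i = true := below_step fr 10152 47 10199 ru215 rc216 rfl
theorem rc217 : allBelow (fun k => fr (Nat.add 10199 k)) 47 = true := by decide +kernel
theorem ru217 : ∀ i, i < 10246 → fr i = true := below_step fr 10199 47 10246 ru216 rc217 rfl
theorem rc218 : allBelow (fun k => fr (Nat.add 10246 k)) 47 = true := by decide +kernel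
theorem ru218 : ∀ i, i < 10293 → fr i = true := below_step fr 10246 47 10293 ru217 rc218 rfl
theorem rc219 : allBelow (fun k => fr (Nat.add 10293 k)) 47 = true := by decide +kernel
theorem ru219 : ∀ i, i < 10340 → fr i = true := below_step fr 10293 47 10340 ru218 rc219 rfl
theorem rc220 : allBelow (fun k => fr (Nat.add 10340 k)) 47 = true := by decide +kernel
theorem ru220 : ∀ i, i < 10387 → fr i = true := below_step fr 10340 47 10387 ru219 rc220 rfl
theorem rc221 : allBelow (fun k => fr (Nat.add 10387 k)) 47 = true := by decide +kernel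
theorem ru221 : ∀ i, i < 10434 → fr i = true := below_step fr 10387 47 10434 ru220 rc221 rfl
theorem rc222 : allBelow (fun k => fr (Nat.add 10434 k)) 47 = true := by decide +kernel
theorem ru222 : ∀ i, i < 10481 → fr i = true := below_step fr 10434 47 10481 ru221 rc222 rfl
theorem rc223 : allBelow (fun k => fr (Nat.add 10481 k)) 47 = true := by decide +kernel
theorem ru223 : ∀ i, i < 10528 → fr i = true := below_step fr 10481 47 10528 ru222 rc223 rfl
theorem rc224 : allBelow (fun k => fr (Nat.add 10528 k)) 47 = true := by decide +kernel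
theorem ru224 : ∀ i, i < 10575 → fr i = true := below_step fr 10528 47 10575 ru223 rc224 rfl
theorem rc225 : allBelow (fun k => fr (Nat.add 10575 k)) 47 = true := by decide +kernel
theorem ru225 : ∀ i, i < 10622 → fr i = true := below_step fr 10575 47 10622 ru224 rc225 rfl
theorem rc226 : allBelow (fun k => fr (Nat.add 10622 k)) 47 = true := by decide +kernel
theorem ru226 : ∀ i, i < 10669 → fr i = true := below_step fr 10622 47 10669 ru225 rc226 rfl
theorem rc227 : allBelow (fun k => fr (Nat.add 10669 k)) 47 = true := by decide +kernel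
theorem ru227 : ∀ i, i < 10716 → fr i = true := below_step fr 10669 47 10716 ru226 rc227 rfl
theorem rc228 : allBelow (fun k => fr (Nat.add 10716 k)) 47 = true := by decide +kernel
theorem ru228 : ∀ i, i < 10763 → fr i = true := below_step fr 10716 47 10763 ru227 rc228 rfl
theorem rc229 : allBelow (fun k => fr (Nat.add 10763 k)) 47 = true := by decide +kernel
theorem ru229 : ∀ i, i < 10810 → fr i = true := below_step fr 10763 47 10810 ru228 rc229 rfl
theorem rc230 : allBelow (fun k => fr (Nat.add 10810 k)) 47 = true := by decide +kernel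
theorem ru230 : ∀ i, i < 10857 → fr i = true := below_step fr 10810 47 10857 ru229 rc230 rfl
theorem rc231 : allBelow (fun k => fr (Nat.add 10857 k)) 47 = true := by decide +kernel
theorem ru231 : ∀ i, i < 10904 → fr i = true := below_step fr 10857 47 10904 ru230 rc231 rfl
theorem rc232 : allBelow (fun k => fr (Nat.add 10904 k)) 47 = true := by decide +kernel
theorem ru232 : ∀ i, i < 10951 → fr i = true := below_step fr 10904 47 10951 ru231 rc232 rfl
theorem rc233 : allBelow (fun k => fr (Nat.add 10951 k)) 47 = true := by decide +kernel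
theorem ru233 : ∀ i, i < 10998 → fr i = true := below_step fr 10951 47 10998 ru232 rc233 rfl
theorem rc234 : allBelow (fun k => fr (Nat.add 10998 k)) 47 = true := by decide +kernel
theorem ru234 : ∀ i, i < 11045 → fr i = true := below_step fr 10998 47 11045 ru233 rc234 rfl
theorem rc235 : allBelow (fun k => fr (Nat.add 11045 k)) 47 = true := by decide +kernel
theorem ru235 : ∀ i, i < 11092 → fr i = true := below_step fr 11045 47 11092 ru234 rc235 rfl
theorem rc236 : allBelow (fun k => fr (Nat.add 11092 k)) 47 = true := by decide +kernel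
theorem ru236 : ∀ i, i < 11139 → fr i = true := below_step fr 11092 47 11139 ru235 rc236 rfl
theorem rc237 : allBelow (fun k => fr (Nat.add 11139 k)) 47 = true := by decide +kernel
theorem ru237 : ∀ i, i < 11186 → fr i = true := below_step fr 11139 47 11186 ru236 rc237 rfl
theorem rc238 : allBelow (fun k => fr (Nat.add 11186 k)) 47 = true := by decide +kernel
theorem ru238 : ∀ i, i < 11233 → fr i = true := below_step fr 11186 47 11233 ru237 rc238 rfl
theorem rc239 : allBelow (fun k => fr (Nat.add 11233 k)) 47 = true := by decide +kernel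
theorem ru239 : ∀ i, i < 11280 → fr i = true := below_step fr 11233 47 11280 ru238 rc239 rfl
theorem rc240 : allBelow (fun k => fr (Nat.add 11280 k)) 47 = true := by decide +kernel
theorem ru240 : ∀ i, i < 11327 → fr i = true := below_step fr 11280 47 11327 ru239 rc240 rfl
theorem rc241 : allBelow (fun k => fr (Nat.add 11327 k)) 47 = true := by decide +kernel
theorem ru241 : ∀ i, i < 11374 → fr i = true := below_step fr 11327 47 11374 ru240 rc241 rfl
theorem rc242 : allBelow (fun k => fr (Nat.add 11374 k)) 47 = true := by decide +kernel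
theorem ru242 : ∀ i, i < 11421 → fr i = true := below_step fr 11374 47 11421 ru241 rc242 rfl

end Cfsg.Agent.Lib.Helper35.Fi23a
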