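import Cfsg.Agent.Lib.Helper35.Fi23a.PChk0

set_option Elab.async false

namespace Cfsg.Agent.Lib.Helper35.Fi23a

open Cfsg.Agent.Lib.Helper35

theorem rc243 : allBelow (fun k => fr (Nat.add 11421 k)) 47 = true := by decide +kernel
theorem ru243 : ∀ i, i < 11468 → fr i = true := below_step fr 11421 47 11468 ru242 rc243 rfl
theorem rc244 : allBelow (fun k => fr (Nat.add 11468 k)) 47 = true := by decide +kernel
theorem ru244 : ∀ i, i < 11515 → fr i = true := below_step fr 11468 47 11515 ru243 rc244 rfl
theorem rc245 : allBelow (fun k => fr (Nat.add 11515 k)) 47 = true := by decide +kernel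
theorem ru245 : ∀ i, i < 11562 → fr i = true := below_step fr 11515 47 11562 ru244 rc245 rfl
theorem rc246 : allBelow (fun k => fr (Nat.add 11562 k)) 47 = true := by decide +kernel
theorem ru246 : ∀ i, i < 11609 → fr i = true := below_step fr 11562 47 11609 ru245 rc246 rfl
theorem rc247 : allBelow (fun k => fr (Nat.add 11609 k)) 47 = true := by decide +kernel
theorem ru247 : ∀ i, i < 11656 → fr i = true := below_step fr 11609 47 11656 ru246 rc247 rfl
theorem rc248 : allBelow (fun k => fr (Nat.add 11656 k)) 47 = true := by decide +kernel
theorem ru248 : ∀ i, i < 11703 → fr i = true := below_step fr 11656 47 11703 ru247 rc248 rfl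
theorem rc249 : allBelow (fun k => fr (Nat.add 11703 k)) 47 = true := by decide +kernel
theorem ru249 : ∀ i, i < 11750 → fr i = true := below_step fr 11703 47 11750 ru248 rc249 rfl
theorem rc250 : allBelow (fun k => fr (Nat.add 11750 k)) 47 = true := by decide +kernel
theorem ru250 : ∀ i, i < 11797 → fr i = true := below_step fr 11750 47 11797 ru249 rc250 rfl
theorem rc251 : allBelow (fun k => fr (Nat.add 11797 k)) 47 = true := by decide +kernel
theorem ru251 : ∀ i, i < 11844 → fr i = true := below_step fr 11797 47 11844 ru250 rc251 rfl
theorem rc252 : allBelow (fun k => fr (Nat.add 11844 k)) 47 = true := by decide +kernel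
theorem ru252 : ∀ i, i < 11891 → fr i = true := below_step fr 11844 47 11891 ru251 rc252 rfl
theorem rc253 : allBelow (fun k => fr (Nat.add 11891 k)) 47 = true := by decide +kernel
theorem ru253 : ∀ i, i < 11938 → fr i = true := below_step fr 11891 47 11938 ru252 rc253 rfl
theorem rc254 : allBelow (fun k => fr (Nat.add 11938 k)) 47 = true := by decide +kernel
theorem ru254 : ∀ i, i < 11985 → fr i = true := below_step fr 11938 47 11985 ru253 rc254 rfl
theorem rc255 : allBelow (fun k => fr (Nat.add 11985 k)) 47 = true := by decide +kernel
theorem ru255 : ∀ i, i < 12032 → fr i = true := below_step fr 11985 47 12032 ru254 rc255 rfl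
theorem rc256 : allBelow (fun k => fr (Nat.add 12032 k)) 47 = true := by decide +kernel
theorem ru256 : ∀ i, i < 12079 → fr i = true := below_step fr 12032 47 12079 ru255 rc256 rfl
theorem rc257 : allBelow (fun k => fr (Nat.add 12079 k)) 47 = true := by decide +kernel
theorem ru257 : ∀ i, i < 12126 → fr i = true := below_step fr 12079 47 12126 ru256 rc257 rfl
theorem rc258 : allBelow (fun k => fr (Nat.add 12126 k)) 47 = true := by decide +kernel
theorem ru258 : ∀ i, i < 12173 → fr i = true := below_step fr 12126 47 12173 ru257 rc258 rfl
theorem rc259 : allBelow (fun k => fr (Nat.add 12173 k)) 47 = true := by decide +kernel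
theorem ru259 : ∀ i, i < 12220 → fr i = true := below_step fr 12173 47 12220 ru258 rc259 rfl
theorem rc260 : allBelow (fun k => fr (Nat.add 12220 k)) 47 = true := by decide +kernel
theorem ru260 : ∀ i, i < 12267 → fr i = true := below_step fr 12220 47 12267 ru259 rc260 rfl
theorem rc261 : allBelow (fun k => fr (Nat.add 12267 k)) 47 = true := by decide +kernel
theorem ru261 : ∀ i, i < 12314 → fr i = true := below_step fr 12267 47 12314 ru260 rc261 rfl
theorem rc262 : allBelow (fun k => fr (Nat.add 12314 k)) 47 = true := by decide +kernel
theorem ru262 : ∀ i, i < 12361 → fr i = true := below_step fr 12314 47 12361 ru261 rc262 rfl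
theorem rc263 : allBelow (fun k => fr (Nat.add 12361 k)) 47 = true := by decide +kernel
theorem ru263 : ∀ i, i < 12408 → fr i = true := below_step fr 12361 47 12408 ru262 rc263 rfl
theorem rc264 : allBelow (fun k => fr (Nat.add 12408 k)) 47 = true := by decide +kernel
theorem ru264 : ∀ i, i < 12455 → fr i = true := below_step fr 12408 47 12455 ru263 rc264 rfl
theorem rc265 : allBelow (fun k => fr (Nat.add 12455 k)) 47 = true := by decide +kernel
theorem ru265 : ∀ i, i < 12502 → fr i = true := below_step fr 12455 47 12502 ru264 rc265 rfl
theorem rc266 : allBelow (fun k => fr (Nat.add 12502 k)) 47 = true := by decide +kernel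
theorem ru266 : ∀ i, i < 12549 → fr i = true := below_step fr 12502 47 12549 ru265 rc266 rfl
theorem rc267 : allBelow (fun k => fr (Nat.add 12549 k)) 47 = true := by decide +kernel
theorem ru267 : ∀ i, i < 12596 → fr i = true := below_step fr 12549 47 12596 ru266 rc267 rfl
theorem rc268 : allBelow (fun k => fr (Nat.add 12596 k)) 47 = true := by decide +kernel
theorem ru268 : ∀ i, i < 12643 → fr i = true := below_step fr 12596 47 12643 ru267 rc268 rfl
theorem rc269 : allBelow (fun k => fr (Nat.add 12643 k)) 47 = true := by decide +kernel
theorem ru269 : ∀ i, i < 12690 → fr i = true := below_step fr 12643 47 12690 ru268 rc269 rfl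
theorem rc270 : allBelow (fun k => fr (Nat.add 12690 k)) 47 = true := by decide +kernel
theorem ru270 : ∀ i, i < 12737 → fr i = true := below_step fr 12690 47 12737 ru269 rc270 rfl
theorem rc271 : allBelow (fun k => fr (Nat.add 12737 k)) 47 = true := by decide +kernel
theorem ru271 : ∀ i, i < 12784 → fr i = true := below_step fr 12737 47 12784 ru270 rc271 rfl
theorem rc272 : allBelow (fun k => fr (Nat.add 12784 k)) 47 = true := by decide +kernel
theorem ru272 : ∀ i, i < 12831 → fr i = true := below_step fr 12784 47 12831 ru271 rc272 rfl
theorem rc273 : allBelow (fun k => fr (Nat.add 12831 k)) 47 = true := by decide +kernel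
theorem ru273 : ∀ i, i < 12878 → fr i = true := below_step fr 12831 47 12878 ru272 rc273 rfl
theorem rc274 : allBelow (fun k => fr (Nat.add 12878 k)) 47 = true := by decide +kernel
theorem ru274 : ∀ i, i < 12925 → fr i = true := below_step fr 12878 47 12925 ru273 rc274 rfl
theorem rc275 : allBelow (fun k => fr (Nat.add 12925 k)) 47 = true := by decide +kernel
theorem ru275 : ∀ i, i < 12972 → fr i = true := below_step fr 12925 47 12972 ru274 rc275 rfl
theorem rc276 : allBelow (fun k => fr (Nat.add 12972 k)) 47 = true := by decide +kernel
theorem ru276 : ∀ i, i < 13019 → fr i = true := below_step fr 12972 47 13019 ru275 rc276 rfl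
theorem rc277 : allBelow (fun k => fr (Nat.add 13019 k)) 47 = true := by decide +kernel
theorem ru277 : ∀ i, i < 13066 → fr i = true := below_step fr 13019 47 13066 ru276 rc277 rfl
theorem rc278 : allBelow (fun k => fr (Nat.add 13066 k)) 47 = true := by decide +kernel
theorem ru278 : ∀ i, i < 13113 → fr i = true := below_step fr 13066 47 13113 ru277 rc278 rfl
theorem rc279 : allBelow (fun k => fr (Nat.add 13113 k)) 47 = true := by decide +kernel
theorem ru279 : ∀ i, i < 13160 → fr i = true := below_step fr 13113 47 13160 ru278 rc279 rfl
theorem rc280 : allBelow (fun k => fr (Nat.add 13160 k)) 47 = true := by decide +kernel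
theorem ru280 : ∀ i, i < 13207 → fr i = true := below_step fr 13160 47 13207 ru279 rc280 rfl
theorem rc281 : allBelow (fun k => fr (Nat.add 13207 k)) 47 = true := by decide +kernel
theorem ru281 : ∀ i, i < 13254 → fr i = true := below_step fr 13207 47 13254 ru280 rc281 rfl
theorem rc282 : allBelow (fun k => fr (Nat.add 13254 k)) 47 = true := by decide +kernel
theorem ru282 : ∀ i, i < 13301 → fr i = true := below_step fr 13254 47 13301 ru281 rc282 rfl
theorem rc283 : allBelow (fun k => fr (Nat.add 13301 k)) 47 = true := by decide +kernel
theorem ru283 : ∀ i, i < 13348 → fr i = true := below_step fr 13301 47 13348 ru282 rc283 rfl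
theorem rc284 : allBelow (fun k => fr (Nat.add 13348 k)) 47 = true := by decide +kernel
theorem ru284 : ∀ i, i < 13395 → fr i = true := below_step fr 13348 47 13395 ru283 rc284 rfl
theorem rc285 : allBelow (fun k => fr (Nat.add 13395 k)) 47 = true := by decide +kernel
theorem ru285 : ∀ i, i < 13442 → fr i = true := below_step fr 13395 47 13442 ru284 rc285 rfl
theorem rc286 : allBelow (fun k => fr (Nat.add 13442 k)) 47 = true := by decide +kernel
theorem ru286 : ∀ i, i < 13489 → fr i = true := below_step fr 13442 47 13489 ru285 rc286 rfl
theorem rc287 : allBelow (fun k => fr (Nat.add 13489 k)) 47 = true := by decide +kernel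
theorem ru287 : ∀ i, i < 13536 → fr i = true := below_step fr 13489 47 13536 ru286 rc287 rfl
theorem rc288 : allBelow (fun k => fr (Nat.add 13536 k)) 47 = true := by decide +kernel
theorem ru288 : ∀ i, i < 13583 → fr i = true := below_step fr 13536 47 13583 ru287 rc288 rfl
theorem rc289 : allBelow (fun k => fr (Nat.add 13583 k)) 47 = true := by decide +kernel
theorem ru289 : ∀ i, i < 13630 → fr i = true := below_step fr 13583 47 13630 ru288 rc289 rfl
theorem rc290 : allBelow (fun k => fr (Nat.add 13630 k)) 47 = true := by decide +kernel
theorem ru290 : ∀ i, i < 13677 → fr i = true := below_step fr 13630 47 13677 ru289 rc290 rfl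
theorem rc291 : allBelow (fun k => fr (Nat.add 13677 k)) 47 = true := by decide +kernel
theorem ru291 : ∀ i, i < 13724 → fr i = true := below_step fr 13677 47 13724 ru290 rc291 rfl
theorem rc292 : allBelow (fun k => fr (Nat.add 13724 k)) 47 = true := by decide +kernel
theorem ru292 : ∀ i, i < 13771 → fr i = true := below_step fr 13724 47 13771 ru291 rc292 rfl
theorem rc293 : allBelow (fun k => fr (Nat.add 13771 k)) 47 = true := by decide +kernel
theorem ru293 : ∀ i, i < 13818 → fr i = true := below_step fr 13771 47 13818 ru292 rc293 rfl
theorem rc294 : allBelow (fun k => fr (Nat.add 13818 k)) 47 = true := by decide +kernel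
theorem ru294 : ∀ i, i < 13865 → fr i = true := below_step fr 13818 47 13865 ru293 rc294 rfl
theorem rc295 : allBelow (fun k => fr (Nat.add 13865 k)) 47 = true := by decide +kernel
theorem ru295 : ∀ i, i < 13912 → fr i = true := below_step fr 13865 47 13912 ru294 rc295 rfl
theorem rc296 : allBelow (fun k => fr (Nat.add 13912 k)) 47 = true := by decide +kernel
theorem ru296 : ∀ i, i < 13959 → fr i = true := below_step fr 13912 47 13959 ru295 rc296 rfl
theorem rc297 : allBelow (fun k => fr (Nat.add 13959 k)) 47 = true := by decide +kernel
theorem ru297 : ∀ i, i < 14006 → fr i = true := below_step fr 13959 47 14006 ru296 rc297 rfl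
theorem rc298 : allBelow (fun k => fr (Nat.add 14006 k)) 47 = true := by decide +kernel
theorem ru298 : ∀ i, i < 14053 → fr i = true := below_step fr 14006 47 14053 ru297 rc298 rfl
theorem rc299 : allBelow (fun k => fr (Nat.add 14053 k)) 47 = true := by decide +kernel
theorem ru299 : ∀ i, i < 14100 → fr i = true := below_step fr 14053 47 14100 ru298 rc299 rfl
theorem rc300 : allBelow (fun k => fr (Nat.add 14100 k)) 47 = true := by decide +kernel
theorem ru300 : ∀ i, i < 14147 → fr i = true := below_step fr 14100 47 14147 ru299 rc300 rfl
theorem rc301 : allBelow (fun k => fr (Nat.add 14147 k)) 47 = true := by decide +kernel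
theorem ru301 : ∀ i, i < 14194 → fr i = true := below_step fr 14147 47 14194 ru300 rc301 rfl
theorem rc302 : allBelow (fun k => fr (Nat.add 14194 k)) 47 = true := by decide +kernel
theorem ru302 : ∀ i, i < 14241 → fr i = true := below_step fr 14194 47 14241 ru301 rc302 rfl
theorem rc303 : allBelow (fun k => fr (Nat.add 14241 k)) 47 = true := by decide +kernel
theorem ru303 : ∀ i, i < 14288 → fr i = true := below_step fr 14241 47 14288 ru302 rc303 rfl
theorem rc304 : allBelow (fun k => fr (Nat.add 14288 k)) 47 = true := by decide +kernel
theorem ru304 : ∀ i, i < 14335 → fr i = true := below_step fr 14288 47 14335 ru303 rc304 rfl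
theorem rc305 : allBelow (fun k => fr (Nat.add 14335 k)) 47 = true := by decide +kernel
theorem ru305 : ∀ i, i < 14382 → fr i = true := below_step fr 14335 47 14382 ru304 rc305 rfl
theorem rc306 : allBelow (fun k => fr (Nat.add 14382 k)) 47 = true := by decide +kernel
theorem ru306 : ∀ i, i < 14429 → fr i = true := below_step fr 14382 47 14429 ru305 rc306 rfl
theorem rc307 : allBelow (fun k => fr (Nat.add 14429 k)) 47 = true := by decide +kernel
theorem ru307 : ∀ i, i < 14476 → fr i = true := below_step fr 14429 47 14476 ru306 rc307 rfl
theorem rc308 : allBelow (fun k => fr (Nat.add 14476 k)) 47 = true := by decide +kernel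
theorem ru308 : ∀ i, i < 14523 → fr i = true := below_step fr 14476 47 14523 ru307 rc308 rfl
theorem rc309 : allBelow (fun k => fr (Nat.add 14523 k)) 47 = true := by decide +kernel
theorem ru309 : ∀ i, i < 14570 → fr i = true := below_step fr 14523 47 14570 ru308 rc309 rfl
theorem rc310 : allBelow (fun k => fr (Nat.add 14570 k)) 47 = true := by decide +kernel
theorem ru310 : ∀ i, i < 14617 → fr i = true := below_step fr 14570 47 14617 ru309 rc310 rfl
theorem rc311 : allBelow (fun k => fr (Nat.add 14617 k)) 47 = true := by decide +kernel
theorem ru311 : ∀ i, i < 14664 → fr i = true := below_step fr 14617 47 14664 ru310 rc311 rfl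
theorem rc312 : allBelow (fun k => fr (Nat.add 14664 k)) 47 = true := by decide +kernel
theorem ru312 : ∀ i, i < 14711 → fr i = true := below_step fr 14664 47 14711 ru311 rc312 rfl
theorem rc313 : allBelow (fun k => fr (Nat.add 14711 k)) 47 = true := by decide +kernel
theorem ru313 : ∀ i, i < 14758 → fr i = true := below_step fr 14711 47 14758 ru312 rc313 rfl
theorem rc314 : allBelow (fun k => fr (Nat.add 14758 k)) 47 = true := by decide +kernel
theorem ru314 : ∀ i, i < 14805 → fr i = true := below_step fr 14758 47 14805 ru313 rc314 rfl
theorem rc315 : allBelow (fun k => fr (Nat.add 14805 k)) 47 = true := by decide +kernel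
theorem ru315 : ∀ i, i < 14852 → fr i = true := below_step fr 14805 47 14852 ru314 rc315 rfl
theorem rc316 : allBelow (fun k => fr (Nat.add 14852 k)) 47 = true := by decide +kernel
theorem ru316 : ∀ i, i < 14899 → fr i = true := below_step fr 14852 47 14899 ru315 rc316 rfl
theorem rc317 : allBelow (fun k => fr (Nat.add 14899 k)) 47 = true := by decide +kernel
theorem ru317 : ∀ i, i < 14946 → fr i = true := below_step fr 14899 47 14946 ru316 rc317 rfl
theorem rc318 : allBelow (fun k => fr (Nat.add 14946 k)) 47 = true := by decide +kernel
theorem ru318 : ∀ i, i < 14993 → fr i = true := below_step fr 14946 47 14993 ru317 rc318 rfl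
theorem rc319 : allBelow (fun k => fr (Nat.add 14993 k)) 47 = true := by decide +kernel
theorem ru319 : ∀ i, i < 15040 → fr i = true := below_step fr 14993 47 15040 ru318 rc319 rfl
theorem rc320 : allBelow (fun k => fr (Nat.add 15040 k)) 47 = true := by decide +kernel
theorem ru320 : ∀ i, i < 15087 → fr i = true := below_step fr 15040 47 15087 ru319 rc320 rfl
theorem rc321 : allBelow (fun k => fr (Nat.add 15087 k)) 47 = true := by decide +kernel
theorem ru321 : ∀ i, i < 15134 → fr i = true := below_step fr 15087 47 15134 ru320 rc321 rfl
theorem rc322 : allBelow (fun k => fr (Nat.add 15134 k)) 47 = true := by decide +kernel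
theorem ru322 : ∀ i, i < 15181 → fr i = true := below_step fr 15134 47 15181 ru321 rc322 rfl
theorem rc323 : allBelow (fun k => fr (Nat.add 15181 k)) 47 = true := by decide +kernel
theorem ru323 : ∀ i, i < 15228 → fr i = true := below_step fr 15181 47 15228 ru322 rc323 rfl
theorem rc324 : allBelow (fun k => fr (Nat.add 15228 k)) 47 = true := by decide +kernel
theorem ru324 : ∀ i, i < 15275 → fr i = true := below_step fr 15228 47 15275 ru323 rc324 rfl
theorem rc325 : allBelow (fun k => fr (Nat.add 15275 k)) 47 = true := by decide +kernel
theorem ru325 : ∀ i, i < 15322 → fr i = true := below_step fr 15275 47 15322 ru324 rc325 rfl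
theorem rc326 : allBelow (fun k => fr (Nat.add 15322 k)) 47 = true := by decide +kernel
theorem ru326 : ∀ i, i < 15369 → fr i = true := below_step fr 15322 47 15369 ru325 rc326 rfl
theorem rc327 : allBelow (fun k => fr (Nat.add 15369 k)) 47 = true := by decide +kernel
theorem ru327 : ∀ i, i < 15416 → fr i = true := below_step fr 15369 47 15416 ru326 rc327 rfl
theorem rc328 : allBelow (fun k => fr (Nat.add 15416 k)) 47 = true := by decide +kernel
theorem ru328 : ∀ i, i < 15463 → fr i = true := below_step fr 15416 47 15463 ru327 rc328 rfl
theorem rc329 : allBelow (fun k => fr (Nat.add 15463 k)) 47 = true := by decide +kernel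
theorem ru329 : ∀ i, i < 15510 → fr i = true := below_step fr 15463 47 15510 ru328 rc329 rfl
theorem rc330 : allBelow (fun k => fr (Nat.add 15510 k)) 47 = true := by decide +kernel
theorem ru330 : ∀ i, i < 15557 → fr i = true := below_step fr 15510 47 15557 ru329 rc330 rfl
theorem rc331 : allBelow (fun k => fr (Nat.add 15557 k)) 47 = true := by decide +kernel
theorem ru331 : ∀ i, i < 15604 → fr i = true := below_step fr 15557 47 15604 ru330 rc331 rfl
theorem rc332 : allBelow (fun k => fr (Nat.add 15604 k)) 47 = true := by decide +kernel
theorem ru332 : ∀ i, i < 15651 → fr i = true := below_step fr 15604 47 15651 ru331 rc332 rfl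
theorem rc333 : allBelow (fun k => fr (Nat.add 15651 k)) 47 = true := by decide +kernel
theorem ru333 : ∀ i, i < 15698 → fr i = true := below_step fr 15651 47 15698 ru332 rc333 rfl
theorem rc334 : allBelow (fun k => fr (Nat.add 15698 k)) 47 = true := by decide +kernel
theorem ru334 : ∀ i, i < 15745 → fr i = true := below_step fr 15698 47 15745 ru333 rc334 rfl
theorem rc335 : allBelow (fun k => fr (Nat.add 15745 k)) 47 = true := by decide +kernel
theorem ru335 : ∀ i, i < 15792 → fr i = true := below_step fr 15745 47 15792 ru334 rc335 rfl
theorem rc336 : allBelow (fun k => fr (Nat.add 15792 k)) 47 = true := by decide +kernel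
theorem ru336 : ∀ i, i < 15839 → fr i = true := below_step fr 15792 47 15839 ru335 rc336 rfl
theorem rc337 : allBelow (fun k => fr (Nat.add 15839 k)) 47 = true := by decide +kernel
theorem ru337 : ∀ i, i < 15886 → fr i = true := below_step fr 15839 47 15886 ru336 rc337 rfl
theorem rc338 : allBelow (fun k => fr (Nat.add 15886 k)) 47 = true := by decide +kernel
theorem ru338 : ∀ i, i < 15933 → fr i = true := below_step fr 15886 47 15933 ru337 rc338 rfl
theorem rc339 : allBelow (fun k => fr (Nat.add 15933 k)) 47 = true := by decide +kernel
theorem ru339 : ∀ i, i < 15980 → fr i = true := below_step fr 15933 47 15980 ru338 rc339 rfl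
theorem rc340 : allBelow (fun k => fr (Nat.add 15980 k)) 47 = true := by decide +kernel
theorem ru340 : ∀ i, i < 16027 → fr i = true := below_step fr 15980 47 16027 ru339 rc340 rfl
theorem rc341 : allBelow (fun k => fr (Nat.add 16027 k)) 47 = true := by decide +kernel
theorem ru341 : ∀ i, i < 16074 → fr i = true := below_step fr 16027 47 16074 ru340 rc341 rfl
theorem rc342 : allBelow (fun k => fr (Nat.add 16074 k)) 47 = true := by decide +kernel
theorem ru342 : ∀ i, i < 16121 → fr i = true := below_step fr 16074 47 16121 ru341 rc342 rfl
theorem rc343 : allBelow (fun k => fr (Nat.add 16121 k)) 47 = true := by decide +kernel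
theorem ru343 : ∀ i, i < 16168 → fr i = true := below_step fr 16121 47 16168 ru342 rc343 rfl
theorem rc344 : allBelow (fun k => fr (Nat.add 16168 k)) 47 = true := by decide +kernel
theorem ru344 : ∀ i, i < 16215 → fr i = true := below_step fr 16168 47 16215 ru343 rc344 rfl
theorem rc345 : allBelow (fun k => fr (Nat.add 16215 k)) 47 = true := by decide +kernel
theorem ru345 : ∀ i, i < 16262 → fr i = true := below_step fr 16215 47 16262 ru344 rc345 rfl
theorem rc346 : allBelow (fun k => fr (Nat.add 16262 k)) 47 = true := by decide +kernel
theorem ru346 : ∀ i, i < 16309 → fr i = true := below_step fr 16262 47 16309 ru345 rc346 rfl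
theorem rc347 : allBelow (fun k => fr (Nat.add 16309 k)) 47 = true := by decide +kernel
theorem ru347 : ∀ i, i < 16356 → fr i = true := below_step fr 16309 47 16356 ru346 rc347 rfl
theorem rc348 : allBelow (fun k => fr (Nat.add 16356 k)) 47 = true := by decide +kernel
theorem ru348 : ∀ i, i < 16403 → fr i = true := below_step fr 16356 47 16403 ru347 rc348 rfl
theorem rc349 : allBelow (fun k => fr (Nat.add 16403 k)) 47 = true := by decide +kernel
theorem ru349 : ∀ i, i < 16450 → fr i = true := below_step fr 16403 47 16450 ru348 rc349 rfl
theorem rc350 : allBelow (fun k => fr (Nat.add 16450 k)) 47 = true := by decide +kernel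
theorem ru350 : ∀ i, i < 16497 → fr i = true := below_step fr 16450 47 16497 ru349 rc350 rfl
theorem rc351 : allBelow (fun k => fr (Nat.add 16497 k)) 47 = true := by decide +kernel
theorem ru351 : ∀ i, i < 16544 → fr i = true := below_step fr 16497 47 16544 ru350 rc351 rfl
theorem rc352 : allBelow (fun k => fr (Nat.add 16544 k)) 47 = true := by decide +kernel
theorem ru352 : ∀ i, i < 16591 → fr i = true := below_step fr 16544 47 16591 ru351 rc352 rfl
theorem rc353 : allBelow (fun k => fr (Nat.add 16591 k)) 47 = true := by decide +kernel
theorem ru353 : ∀ i, i < 16638 → fr i = true := below_step fr 16591 47 16638 ru352 rc353 rfl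
theorem rc354 : allBelow (fun k => fr (Nat.add 16638 k)) 47 = true := by decide +kernel
theorem ru354 : ∀ i, i < 16685 → fr i = true := below_step fr 16638 47 16685 ru353 rc354 rfl
theorem rc355 : allBelow (fun k => fr (Nat.add 16685 k)) 47 = true := by decide +kernel
theorem ru355 : ∀ i, i < 16732 → fr i = true := below_step fr 16685 47 16732 ru354 rc355 rfl
theorem rc356 : allBelow (fun k => fr (Nat.add 16732 k)) 47 = true := by decide +kernel
theorem ru356 : ∀ i, i < 16779 → fr i = true := below_step fr 16732 47 16779 ru355 rc356 rfl
theorem rc357 : allBelow (fun k => fr (Nat.add 16779 k)) 47 = true := by decide +kernel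
theorem ru357 : ∀ i, i < 16826 → fr i = true := below_step fr 16779 47 16826 ru356 rc357 rfl
theorem rc358 : allBelow (fun k => fr (Nat.add 16826 k)) 47 = true := by decide +kernel
theorem ru358 : ∀ i, i < 16873 → fr i = true := below_step fr 16826 47 16873 ru357 rc358 rfl
theorem rc359 : allBelow (fun k => fr (Nat.add 16873 k)) 47 = true := by decide +kernel
theorem ru359 : ∀ i, i < 16920 → fr i = true := below_step fr 16873 47 16920 ru358 rc359 rfl
theorem rc360 : allBelow (fun k => fr (Nat.add 16920 k)) 47 = true := by decide +kernel
theorem ru360 : ∀ i, i < 16967 → fr i = true := below_step fr 16920 47 16967 ru359 rc360 rfl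
theorem rc361 : allBelow (fun k => fr (Nat.add 16967 k)) 47 = true := by decide +kernel
theorem ru361 : ∀ i, i < 17014 → fr i = true := below_step fr 16967 47 17014 ru360 rc361 rfl
theorem rc362 : allBelow (fun k => fr (Nat.add 17014 k)) 47 = true := by decide +kernel
theorem ru362 : ∀ i, i < 17061 → fr i = true := below_step fr 17014 47 17061 ru361 rc362 rfl
theorem rc363 : allBelow (fun k => fr (Nat.add 17061 k)) 47 = true := by decide +kernel
theorem ru363 : ∀ i, i < 17108 → fr i = true := below_step fr 17061 47 17108 ru362 rc363 rfl
theorem rc364 : allBelow (fun k => fr (Nat.add 17108 k)) 47 = true := by decide +kernel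
theorem ru364 : ∀ i, i < 17155 → fr i = true := below_step fr 17108 47 17155 ru363 rc364 rfl
theorem rc365 : allBelow (fun k => fr (Nat.add 17155 k)) 47 = true := by decide +kernel
theorem ru365 : ∀ i, i < 17202 → fr i = true := below_step fr 17155 47 17202 ru364 rc365 rfl
theorem rc366 : allBelow (fun k => fr (Nat.add 17202 k)) 47 = true := by decide +kernel
theorem ru366 : ∀ i, i < 17249 → fr i = true := below_step fr 17202 47 17249 ru365 rc366 rfl
theorem rc367 : allBelow (fun k => fr (Nat.add 17249 k)) 47 = true := by decide +kernel
theorem ru367 : ∀ i, i < 17296 → fr i = true := below_step fr 17249 47 17296 ru366 rc367 rfl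
theorem rc368 : allBelow (fun k => fr (Nat.add 17296 k)) 47 = true := by decide +kernel
theorem ru368 : ∀ i, i < 17343 → fr i = true := below_step fr 17296 47 17343 ru367 rc368 rfl
theorem rc369 : allBelow (fun k => fr (Nat.add 17343 k)) 47 = true := by decide +kernel
theorem ru369 : ∀ i, i < 17390 → fr i = true := below_step fr 17343 47 17390 ru368 rc369 rfl
theorem rc370 : allBelow (fun k => fr (Nat.add 17390 k)) 47 = true := by decide +kernel
theorem ru370 : ∀ i, i < 17437 → fr i = true := below_step fr 17390 47 17437 ru369 rc370 rfl
theorem rc371 : allBelow (fun k => fr (Nat.add 17437 k)) 47 = true := by decide +kernel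
theorem ru371 : ∀ i, i < 17484 → fr i = true := below_step fr 17437 47 17484 ru370 rc371 rfl
theorem rc372 : allBelow (fun k => fr (Nat.add 17484 k)) 47 = true := by decide +kernel
theorem ru372 : ∀ i, i < 17531 → fr i = true := below_step fr 17484 47 17531 ru371 rc372 rfl
theorem rc373 : allBelow (fun k => fr (Nat.add 17531 k)) 47 = true := by decide +kernel
theorem ru373 : ∀ i, i < 17578 → fr i = true := below_step fr 17531 47 17578 ru372 rc373 rfl
theorem rc374 : allBelow (fun k => fr (Nat.add 17578 k)) 47 = true := by decide +kernel
theorem ru374 : ∀ i, i < 17625 → fr i = true := below_step fr 17578 47 17625 ru373 rc374 rfl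
theorem rc375 : allBelow (fun k => fr (Nat.add 17625 k)) 47 = true := by decide +kernel
theorem ru375 : ∀ i, i < 17672 → fr i = true := below_step fr 17625 47 17672 ru374 rc375 rfl
theorem rc376 : allBelow (fun k => fr (Nat.add 17672 k)) 47 = true := by decide +kernel
theorem ru376 : ∀ i, i < 17719 → fr i = true := below_step fr 17672 47 17719 ru375 rc376 rfl
theorem rc377 : allBelow (fun k => fr (Nat.add 17719 k)) 47 = true := by decide +kernel
theorem ru377 : ∀ i, i < 17766 → fr i = true := below_step fr 17719 47 17766 ru376 rc377 rfl
theorem rc378 : allBelow (fun k => fr (Nat.add 17766 k)) 47 = true := by decide +kernel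
theorem ru378 : ∀ i, i < 17813 → fr i = true := below_step fr 17766 47 17813 ru377 rc378 rfl
theorem rc379 : allBelow (fun k => fr (Nat.add 17813 k)) 47 = true := by decide +kernel
theorem ru379 : ∀ i, i < 17860 → fr i = true := below_step fr 17813 47 17860 ru378 rc379 rfl
theorem rc380 : allBelow (fun k => fr (Nat.add 17860 k)) 47 = true := by decide +kernel
theorem ru380 : ∀ i, i < 17907 → fr i = true := below_step fr 17860 47 17907 ru379 rc380 rfl
theorem rc381 : allBelow (fun k => fr (Nat.add 17907 k)) 47 = true := by decide +kernel
theorem ru381 : ∀ i, i < 17954 → fr i = true := below_step fr 17907 47 17954 ru380 rc381 rfl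
theorem rc382 : allBelow (fun k => fr (Nat.add 17954 k)) 47 = true := by decide +kernel
theorem ru382 : ∀ i, i < 18001 → fr i = true := below_step fr 17954 47 18001 ru381 rc382 rfl
theorem rc383 : allBelow (fun k => fr (Nat.add 18001 k)) 47 = true := by decide +kernel
theorem ru383 : ∀ i, i < 18048 → fr i = true := below_step fr 18001 47 18048 ru382 rc383 rfl
theorem rc384 : allBelow (fun k => fr (Nat.add 18048 k)) 47 = true := by decide +kernel
theorem ru384 : ∀ i, i < 18095 → fr i = true := below_step fr 18048 47 18095 ru383 rc384 rfl
theorem rc385 : allBelow (fun k => fr (Nat.add 18095 k)) 47 = true := by decide +kernel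
theorem ru385 : ∀ i, i < 18142 → fr i = true := below_step fr 18095 47 18142 ru384 rc385 rfl
theorem rc386 : allBelow (fun k => fr (Nat.add 18142 k)) 47 = true := by decide +kernel
theorem ru386 : ∀ i, i < 18189 → fr i = true := below_step fr 18142 47 18189 ru385 rc386 rfl
theorem rc387 : allBelow (fun k => fr (Nat.add 18189 k)) 47 = true := by decide +kernel
theorem ru387 : ∀ i, i < 18236 → fr i = true := below_step fr 18189 47 18236 ru386 rc387 rfl
theorem rc388 : allBelow (fun k => fr (Nat.add 18236 k)) 47 = true := by decide +kernel
theorem ru388 : ∀ i, i < 18283 → fr i = true := below_step fr 18236 47 18283 ru387 rc388 rfl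
theorem rc389 : allBelow (fun k => fr (Nat.add 18283 k)) 47 = true := by decide +kernel
theorem ru389 : ∀ i, i < 18330 → fr i = true := below_step fr 18283 47 18330 ru388 rc389 rfl
theorem rc390 : allBelow (fun k => fr (Nat.add 18330 k)) 47 = true := by decide +kernel
theorem ru390 : ∀ i, i < 18377 → fr i = true := below_step fr 18330 47 18377 ru389 rc390 rfl
theorem rc391 : allBelow (fun k => fr (Nat.add 18377 k)) 47 = true := by decide +kernel
theorem ru391 : ∀ i, i < 18424 → fr i = true := below_step fr 18377 47 18424 ru390 rc391 rfl
theorem rc392 : allBelow (fun k => fr (Nat.add 18424 k)) 47 = true := by decide +kernel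
theorem ru392 : ∀ i, i < 18471 → fr i = true := below_step fr 18424 47 18471 ru391 rc392 rfl
theorem rc393 : allBelow (fun k => fr (Nat.add 18471 k)) 47 = true := by decide +kernel
theorem ru393 : ∀ i, i < 18518 → fr i = true := below_step fr 18471 47 18518 ru392 rc393 rfl
theorem rc394 : allBelow (fun k => fr (Nat.add 18518 k)) 47 = true := by decide +kernel
theorem ru394 : ∀ i, i < 18565 → fr i = true := below_step fr 18518 47 18565 ru393 rc394 rfl
theorem rc395 : allBelow (fun k => fr (Nat.add 18565 k)) 47 = true := by decide +kernel
theorem ru395 : ∀ i, i < 18612 → fr i = true := below_step fr 18565 47 18612 ru394 rc395 rfl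
theorem rc396 : allBelow (fun k => fr (Nat.add 18612 k)) 47 = true := by decide +kernel
theorem ru396 : ∀ i, i < 18659 → fr i = true := below_step fr 18612 47 18659 ru395 rc396 rfl
theorem rc397 : allBelow (fun k => fr (Nat.add 18659 k)) 47 = true := by decide +kernel
theorem ru397 : ∀ i, i < 18706 → fr i = true := below_step fr 18659 47 18706 ru396 rc397 rfl
theorem rc398 : allBelow (fun k => fr (Nat.add 18706 k)) 47 = true := by decide +kernel
theorem ru398 : ∀ i, i < 18753 → fr i = true := below_step fr 18706 47 18753 ru397 rc398 rfl
theorem rc399 : allBelow (fun k => fr (Nat.add 18753 k)) 47 = true := by decide +kernel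
theorem ru399 : ∀ i, i < 18800 → fr i = true := below_step fr 18753 47 18800 ru398 rc399 rfl
theorem rc400 : allBelow (fun k => fr (Nat.add 18800 k)) 47 = true := by decide +kernel
theorem ru400 : ∀ i, i < 18847 → fr i = true := below_step fr 18800 47 18847 ru399 rc400 rfl
theorem rc401 : allBelow (fun k => fr (Nat.add 18847 k)) 47 = true := by decide +kernel
theorem ru401 : ∀ i, i < 18894 → fr i = true := below_step fr 18847 47 18894 ru400 rc401 rfl
theorem rc402 : allBelow (fun k => fr (Nat.add 18894 k)) 47 = true := by decide +kernel
theorem ru402 : ∀ i, i < 18941 → fr i = true := below_step fr 18894 47 18941 ru401 rc402 rfl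
theorem rc403 : allBelow (fun k => fr (Nat.add 18941 k)) 47 = true := by decide +kernel
theorem ru403 : ∀ i, i < 18988 → fr i = true := below_step fr 18941 47 18988 ru402 rc403 rfl
theorem rc404 : allBelow (fun k => fr (Nat.add 18988 k)) 47 = true := by decide +kernel
theorem ru404 : ∀ i, i < 19035 → fr i = true := below_step fr 18988 47 19035 ru403 rc404 rfl
theorem rc405 : allBelow (fun k => fr (Nat.add 19035 k)) 47 = true := by decide +kernel
theorem ru405 : ∀ i, i < 19082 → fr i = true := below_step fr 19035 47 19082 ru404 rc405 rfl
theorem rc406 : allBelow (fun k => fr (Nat.add 19082 k)) 47 = true := by decide +kernel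
theorem ru406 : ∀ i, i < 19129 → fr i = true := below_step fr 19082 47 19129 ru405 rc406 rfl
theorem rc407 : allBelow (fun k => fr (Nat.add 19129 k)) 47 = true := by decide +kernel
theorem ru407 : ∀ i, i < 19176 → fr i = true := below_step fr 19129 47 19176 ru406 rc407 rfl
theorem rc408 : allBelow (fun k => fr (Nat.add 19176 k)) 47 = true := by decide +kernel
theorem ru408 : ∀ i, i < 19223 → fr i = true := below_step fr 19176 47 19223 ru407 rc408 rfl
theorem rc409 : allBelow (fun k => fr (Nat.add 19223 k)) 47 = true := by decide +kernel
theorem ru409 : ∀ i, i < 19270 → fr i = true := below_step fr 19223 47 19270 ru408 rc409 rfl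
theorem rc410 : allBelow (fun k => fr (Nat.add 19270 k)) 47 = true := by decide +kernel
theorem ru410 : ∀ i, i < 19317 → fr i = true := below_step fr 19270 47 19317 ru409 rc410 rfl
theorem rc411 : allBelow (fun k => fr (Nat.add 19317 k)) 47 = true := by decide +kernel
theorem ru411 : ∀ i, i < 19364 → fr i = true := below_step fr 19317 47 19364 ru410 rc411 rfl
theorem rc412 : allBelow (fun k => fr (Nat.add 19364 k)) 47 = true := by decide +kernel
theorem ru412 : ∀ i, i < 19411 → fr i = true := below_step fr 19364 47 19411 ru411 rc412 rfl
theorem rc413 : allBelow (fun k => fr (Nat.add 19411 k)) 47 = true := by decide +kernel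
theorem ru413 : ∀ i, i < 19458 → fr i = true := below_step fr 19411 47 19458 ru412 rc413 rfl
theorem rc414 : allBelow (fun k => fr (Nat.add 19458 k)) 47 = true := by decide +kernel
theorem ru414 : ∀ i, i < 19505 → fr i = true := below_step fr 19458 47 19505 ru413 rc414 rfl
theorem rc415 : allBelow (fun k => fr (Nat.add 19505 k)) 47 = true := by decide +kernel
theorem ru415 : ∀ i, i < 19552 → fr i = true := below_step fr 19505 47 19552 ru414 rc415 rfl
theorem rc416 : allBelow (fun k => fr (Nat.add 19552 k)) 47 = true := by decide +kernel
theorem ru416 : ∀ i, i < 19599 → fr i = true := below_step fr 19552 47 19599 ru415 rc416 rfl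
theorem rc417 : allBelow (fun k => fr (Nat.add 19599 k)) 47 = true := by decide +kernel
theorem ru417 : ∀ i, i < 19646 → fr i = true := below_step fr 19599 47 19646 ru416 rc417 rfl
theorem rc418 : allBelow (fun k => fr (Nat.add 19646 k)) 47 = true := by decide +kernel
theorem ru418 : ∀ i, i < 19693 → fr i = true := below_step fr 19646 47 19693 ru417 rc418 rfl
theorem rc419 : allBelow (fun k => fr (Nat.add 19693 k)) 47 = true := by decide +kernel
theorem ru419 : ∀ i, i < 19740 → fr i = true := below_step fr 19693 47 19740 ru418 rc419 rfl
theorem rc420 : allBelow (fun k => fr (Nat.add 19740 k)) 47 = true := by decide +kernel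
theorem ru420 : ∀ i, i < 19787 → fr i = true := below_step fr 19740 47 19787 ru419 rc420 rfl
theorem rc421 : allBelow (fun k => fr (Nat.add 19787 k)) 47 = true := by decide +kernel
theorem ru421 : ∀ i, i < 19834 → fr i = true := below_step fr 19787 47 19834 ru420 rc421 rfl
theorem rc422 : allBelow (fun k => fr (Nat.add 19834 k)) 47 = true := by decide +kernel
theorem ru422 : ∀ i, i < 19881 → fr i = true := below_step fr 19834 47 19881 ru421 rc422 rfl
theorem rc423 : allBelow (fun k => fr (Nat.add 19881 k)) 47 = true := by decide +kernel
theorem ru423 : ∀ i, i < 19928 → fr i = true := below_step fr 19881 47 19928 ru422 rc423 rfl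
theorem rc424 : allBelow (fun k => fr (Nat.add 19928 k)) 47 = true := by decide +kernel
theorem ru424 : ∀ i, i < 19975 → fr i = true := below_step fr 19928 47 19975 ru423 rc424 rfl
theorem rc425 : allBelow (fun k => fr (Nat.add 19975 k)) 47 = true := by decide +kernel
theorem ru425 : ∀ i, i < 20022 → fr i = true := below_step fr 19975 47 20022 ru424 rc425 rfl
theorem rc426 : allBelow (fun k => fr (Nat.add 20022 k)) 47 = true := by decide +kernel
theorem ru426 : ∀ i, i < 20069 → fr i = true := below_step fr 20022 47 20069 ru425 rc426 rfl
theorem rc427 : allBelow (fun k => fr (Nat.add 20069 k)) 47 = true := by decide +kernel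
theorem ru427 : ∀ i, i < 20116 → fr i = true := below_step fr 20069 47 20116 ru426 rc427 rfl
theorem rc428 : allBelow (fun k => fr (Nat.add 20116 k)) 47 = true := by decide +kernel
theorem ru428 : ∀ i, i < 20163 → fr i = true := below_step fr 20116 47 20163 ru427 rc428 rfl
theorem rc429 : allBelow (fun k => fr (Nat.add 20163 k)) 47 = true := by decide +kernel
theorem ru429 : ∀ i, i < 20210 → fr i = true := below_step fr 20163 47 20210 ru428 rc429 rfl
theorem rc430 : allBelow (fun k => fr (Nat.add 20210 k)) 47 = true := by decide +kernel
theorem ru430 : ∀ i, i < 20257 → fr i = true := below_step fr 20210 47 20257 ru429 rc430 rfl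
theorem rc431 : allBelow (fun k => fr (Nat.add 20257 k)) 47 = true := by decide +kernel
theorem ru431 : ∀ i, i < 20304 → fr i = true := below_step fr 20257 47 20304 ru430 rc431 rfl
theorem rc432 : allBelow (fun k => fr (Nat.add 20304 k)) 47 = true := by decide +kernel
theorem ru432 : ∀ i, i < 20351 → fr i = true := below_step fr 20304 47 20351 ru431 rc432 rfl
theorem rc433 : allBelow (fun k => fr (Nat.add 20351 k)) 47 = true := by decide +kernel
theorem ru433 : ∀ i, i < 20398 → fr i = true := below_step fr 20351 47 20398 ru432 rc433 rfl
theorem rc434 : allBelow (fun k => fr (Nat.add 20398 k)) 47 = true := by decide +kernel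
theorem ru434 : ∀ i, i < 20445 → fr i = true := below_step fr 20398 47 20445 ru433 rc434 rfl
theorem rc435 : allBelow (fun k => fr (Nat.add 20445 k)) 47 = true := by decide +kernel
theorem ru435 : ∀ i, i < 20492 → fr i = true := below_step fr 20445 47 20492 ru434 rc435 rfl
theorem rc436 : allBelow (fun k => fr (Nat.add 20492 k)) 47 = true := by decide +kernel
theorem ru436 : ∀ i, i < 20539 → fr i = true := below_step fr 20492 47 20539 ru435 rc436 rfl
theorem rc437 : allBelow (fun k => fr (Nat.add 20539 k)) 47 = true := by decide +kernel
theorem ru437 : ∀ i, i < 20586 → fr i = true := below_step fr 20539 47 20586 ru436 rc437 rfl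
theorem rc438 : allBelow (fun k => fr (Nat.add 20586 k)) 47 = true := by decide +kernel
theorem ru438 : ∀ i, i < 20633 → fr i = true := below_step fr 20586 47 20633 ru437 rc438 rfl
theorem rc439 : allBelow (fun k => fr (Nat.add 20633 k)) 47 = true := by decide +kernel
theorem ru439 : ∀ i, i < 20680 → fr i = true := below_step fr 20633 47 20680 ru438 rc439 rfl
theorem rc440 : allBelow (fun k => fr (Nat.add 20680 k)) 47 = true := by decide +kernel
theorem ru440 : ∀ i, i < 20727 → fr i = true := below_step fr 20680 47 20727 ru439 rc440 rfl
theorem rc441 : allBelow (fun k => fr (Nat.add 20727 k)) 47 = true := by decide +kernel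
theorem ru441 : ∀ i, i < 20774 → fr i = true := below_step fr 20727 47 20774 ru440 rc441 rfl
theorem rc442 : allBelow (fun k => fr (Nat.add 20774 k)) 47 = true := by decide +kernel
theorem ru442 : ∀ i, i < 20821 → fr i = true := below_step fr 20774 47 20821 ru441 rc442 rfl
theorem rc443 : allBelow (fun k => fr (Nat.add 20821 k)) 47 = true := by decide +kernel
theorem ru443 : ∀ i, i < 20868 → fr i = true := below_step fr 20821 47 20868 ru442 rc443 rfl
theorem rc444 : allBelow (fun k => fr (Nat.add 20868 k)) 47 = true := by decide +kernel
theorem ru444 : ∀ i, i < 20915 → fr i = true := below_step fr 20868 47 20915 ru443 rc444 rfl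
theorem rc445 : allBelow (fun k => fr (Nat.add 20915 k)) 47 = true := by decide +kernel
theorem ru445 : ∀ i, i < 20962 → fr i = true := below_step fr 20915 47 20962 ru444 rc445 rfl
theorem rc446 : allBelow (fun k => fr (Nat.add 20962 k)) 47 = true := by decide +kernel
theorem ru446 : ∀ i, i < 21009 → fr i = true := below_step fr 20962 47 21009 ru445 rc446 rfl
theorem rc447 : allBelow (fun k => fr (Nat.add 21009 k)) 47 = true := by decide +kernel
theorem ru447 : ∀ i, i < 21056 → fr i = true := below_step fr 21009 47 21056 ru446 rc447 rfl
theorem rc448 : allBelow (fun k => fr (Nat.add 21056 k)) 47 = true := by decide +kernel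
theorem ru448 : ∀ i, i < 21103 → fr i = true := below_step fr 21056 47 21103 ru447 rc448 rfl
theorem rc449 : allBelow (fun k => fr (Nat.add 21103 k)) 47 = true := by decide +kernel
theorem ru449 : ∀ i, i < 21150 → fr i = true := below_step fr 21103 47 21150 ru448 rc449 rfl
theorem rc450 : allBelow (fun k => fr (Nat.add 21150 k)) 47 = true := by decide +kernel
theorem ru450 : ∀ i, i < 21197 → fr i = true := below_step fr 21150 47 21197 ru449 rc450 rfl
theorem rc451 : allBelow (fun k => fr (Nat.add 21197 k)) 47 = true := by decide +kernel
theorem ru451 : ∀ i, i < 21244 → fr i = true := below_step fr 21197 47 21244 ru450 rc451 rfl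
theorem rc452 : allBelow (fun k => fr (Nat.add 21244 k)) 47 = true := by decide +kernel
theorem ru452 : ∀ i, i < 21291 → fr i = true := below_step fr 21244 47 21291 ru451 rc452 rfl
theorem rc453 : allBelow (fun k => fr (Nat.add 21291 k)) 47 = true := by decide +kernel
theorem ru453 : ∀ i, i < 21338 → fr i = true := below_step fr 21291 47 21338 ru452 rc453 rfl
theorem rc454 : allBelow (fun k => fr (Nat.add 21338 k)) 47 = true := by decide +kernel
theorem ru454 : ∀ i, i < 21385 → fr i = true := below_step fr 21338 47 21385 ru453 rc454 rfl
theorem rc455 : allBelow (fun k => fr (Nat.add 21385 k)) 47 = true := by decide +kernel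
theorem ru455 : ∀ i, i < 21432 → fr i = true := below_step fr 21385 47 21432 ru454 rc455 rfl
theorem rc456 : allBelow (fun k => fr (Nat.add 21432 k)) 47 = true := by decide +kernel
theorem ru456 : ∀ i, i < 21479 → fr i = true := below_step fr 21432 47 21479 ru455 rc456 rfl
theorem rc457 : allBelow (fun k => fr (Nat.add 21479 k)) 47 = true := by decide +kernel
theorem ru457 : ∀ i, i < 21526 → fr i = true := below_step fr 21479 47 21526 ru456 rc457 rfl
theorem rc458 : allBelow (fun k => fr (Nat.add 21526 k)) 47 = true := by decide +kernel
theorem ru458 : ∀ i, i < 21573 → fr i = true := below_step fr 21526 47 21573 ru457 rc458 rfl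
theorem rc459 : allBelow (fun k => fr (Nat.add 21573 k)) 47 = true := by decide +kernel
theorem ru459 : ∀ i, i < 21620 → fr i = true := below_step fr 21573 47 21620 ru458 rc459 rfl
theorem rc460 : allBelow (fun k => fr (Nat.add 21620 k)) 47 = true := by decide +kernel
theorem ru460 : ∀ i, i < 21667 → fr i = true := below_step fr 21620 47 21667 ru459 rc460 rfl
theorem rc461 : allBelow (fun k => fr (Nat.add 21667 k)) 47 = true := by decide +kernel
theorem ru461 : ∀ i, i < 21714 → fr i = true := below_step fr 21667 47 21714 ru460 rc461 rfl
theorem rc462 : allBelow (fun k => fr (Nat.add 21714 k)) 47 = true := by decide +kernel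
theorem ru462 : ∀ i, i < 21761 → fr i = true := below_step fr 21714 47 21761 ru461 rc462 rfl
theorem rc463 : allBelow (fun k => fr (Nat.add 21761 k)) 47 = true := by decide +kernel
theorem ru463 : ∀ i, i < 21808 → fr i = true := below_step fr 21761 47 21808 ru462 rc463 rfl
theorem rc464 : allBelow (fun k => fr (Nat.add 21808 k)) 47 = true := by decide +kernel
theorem ru464 : ∀ i, i < 21855 → fr i = true := below_step fr 21808 47 21855 ru463 rc464 rfl
theorem rc465 : allBelow (fun k => fr (Nat.add 21855 k)) 47 = true := by decide +kernel
theorem ru465 : ∀ i, i < 21902 → fr i = true := below_step fr 21855 47 21902 ru464 rc465 rfl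
theorem rc466 : allBelow (fun k => fr (Nat.add 21902 k)) 47 = true := by decide +kernel
theorem ru466 : ∀ i, i < 21949 → fr i = true := below_step fr 21902 47 21949 ru465 rc466 rfl
theorem rc467 : allBelow (fun k => fr (Nat.add 21949 k)) 47 = true := by decide +kernel
theorem ru467 : ∀ i, i < 21996 → fr i = true := below_step fr 21949 47 21996 ru466 rc467 rfl
theorem rc468 : allBelow (fun k => fr (Nat.add 21996 k)) 47 = true := by decide +kernel
theorem ru468 : ∀ i, i < 22043 → fr i = true := below_step fr 21996 47 22043 ru467 rc468 rfl
theorem rc469 : allBelow (fun k => fr (Nat.add 22043 k)) 47 = true := by decide +kernel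
theorem ru469 : ∀ i, i < 22090 → fr i = true := below_step fr 22043 47 22090 ru468 rc469 rfl
theorem rc470 : allBelow (fun k => fr (Nat.add 22090 k)) 47 = true := by decide +kernel
theorem ru470 : ∀ i, i < 22137 → fr i = true := below_step fr 22090 47 22137 ru469 rc470 rfl
theorem rc471 : allBelow (fun k => fr (Nat.add 22137 k)) 47 = true := by decide +kernel
theorem ru471 : ∀ i, i < 22184 → fr i = true := below_step fr 22137 47 22184 ru470 rc471 rfl
theorem rc472 : allBelow (fun k => fr (Nat.add 22184 k)) 47 = true := by decide +kernel
theorem ru472 : ∀ i, i < 22231 → fr i = true := below_step fr 22184 47 22231 ru471 rc472 rfl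
theorem rc473 : allBelow (fun k => fr (Nat.add 22231 k)) 47 = true := by decide +kernel
theorem ru473 : ∀ i, i < 22278 → fr i = true := below_step fr 22231 47 22278 ru472 rc473 rfl
theorem rc474 : allBelow (fun k => fr (Nat.add 22278 k)) 47 = true := by decide +kernel
theorem ru474 : ∀ i, i < 22325 → fr i = true := below_step fr 22278 47 22325 ru473 rc474 rfl
theorem rc475 : allBelow (fun k => fr (Nat.add 22325 k)) 47 = true := by decide +kernel
theorem ru475 : ∀ i, i < 22372 → fr i = true := below_step fr 22325 47 22372 ru474 rc475 rfl
theorem rc476 : allBelow (fun k => fr (Nat.add 22372 k)) 47 = true := by decide +kernel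
theorem ru476 : ∀ i, i < 22419 → fr i = true := below_step fr 22372 47 22419 ru475 rc476 rfl
theorem rc477 : allBelow (fun k => fr (Nat.add 22419 k)) 47 = true := by decide +kernel
theorem ru477 : ∀ i, i < 22466 → fr i = true := below_step fr 22419 47 22466 ru476 rc477 rfl
theorem rc478 : allBelow (fun k => fr (Nat.add 22466 k)) 47 = true := by decide +kernel
theorem ru478 : ∀ i, i < 22513 → fr i = true := below_step fr 22466 47 22513 ru477 rc478 rfl
theorem rc479 : allBelow (fun k => fr (Nat.add 22513 k)) 47 = true := by decide +kernel
theorem ru479 : ∀ i, i < 22560 → fr i = true := below_step fr 22513 47 22560 ru478 rc479 rfl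
theorem rc480 : allBelow (fun k => fr (Nat.add 22560 k)) 47 = true := by decide +kernel
theorem ru480 : ∀ i, i < 22607 → fr i = true := below_step fr 22560 47 22607 ru479 rc480 rfl
theorem rc481 : allBelow (fun k => fr (Nat.add 22607 k)) 47 = true := by decide +kernel
theorem ru481 : ∀ i, i < 22654 → fr i = true := below_step fr 22607 47 22654 ru480 rc481 rfl
theorem rc482 : allBelow (fun k => fr (Nat.add 22654 k)) 47 = true := by decide +kernel
theorem ru482 : ∀ i, i < 22701 → fr i = true := below_step fr 22654 47 22701 ru481 rc482 rfl
theorem rc483 : allBelow (fun k => fr (Nat.add 22701 k)) 47 = true := by decide +kernel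
theorem ru483 : ∀ i, i < 22748 → fr i = true := below_step fr 22701 47 22748 ru482 rc483 rfl
theorem rc484 : allBelow (fun k => fr (Nat.add 22748 k)) 47 = true := by decide +kernel
theorem ru484 : ∀ i, i < 22795 → fr i = true := below_step fr 22748 47 22795 ru483 rc484 rfl
theorem rc485 : allBelow (fun k => fr (Nat.add 22795 k)) 47 = true := by decide +kernel
theorem ru485 : ∀ i, i < 22842 → fr i = true := below_step fr 22795 47 22842 ru484 rc485 rfl

end Cfsg.Agent.Lib.Helper35.Fi23a
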