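import Cfsg.Agent.Lib.Helper35.Fi23a.PChk1

set_option Elab.async false

namespace Cfsg.Agent.Lib.Helper35.Fi23a

open Cfsg.Agent.Lib.Helper35

theorem rc486 : allBelow (fun k => fr (Nat.add 22842 k)) 47 = true := by decide +kernel
theorem ru486 : ∀ i, i < 22889 → fr i = true := below_step fr 22842 47 22889 ru485 rc486 rfl
theorem rc487 : allBelow (fun k => fr (Nat.add 22889 k)) 47 = true := by decide +kernel
theorem ru487 : ∀ i, i < 22936 → fr i = true := below_step fr 22889 47 22936 ru486 rc487 rfl
theorem rc488 : allBelow (fun k => fr (Nat.add 22936 k)) 47 = true := by decide +kernel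
theorem ru488 : ∀ i, i < 22983 → fr i = true := below_step fr 22936 47 22983 ru487 rc488 rfl
theorem rc489 : allBelow (fun k => fr (Nat.add 22983 k)) 47 = true := by decide +kernel
theorem ru489 : ∀ i, i < 23030 → fr i = true := below_step fr 22983 47 23030 ru488 rc489 rfl
theorem rc490 : allBelow (fun k => fr (Nat.add 23030 k)) 47 = true := by decide +kernel
theorem ru490 : ∀ i, i < 23077 → fr i = true := below_step fr 23030 47 23077 ru489 rc490 rfl
theorem rc491 : allBelow (fun k => fr (Nat.add 23077 k)) 47 = true := by decide +kernel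
theorem ru491 : ∀ i, i < 23124 → fr i = true := below_step fr 23077 47 23124 ru490 rc491 rfl
theorem rc492 : allBelow (fun k => fr (Nat.add 23124 k)) 47 = true := by decide +kernel
theorem ru492 : ∀ i, i < 23171 → fr i = true := below_step fr 23124 47 23171 ru491 rc492 rfl
theorem rc493 : allBelow (fun k => fr (Nat.add 23171 k)) 47 = true := by decide +kernel
theorem ru493 : ∀ i, i < 23218 → fr i = true := below_step fr 23171 47 23218 ru492 rc493 rfl
theorem rc494 : allBelow (fun k => fr (Nat.add 23218 k)) 47 = true := by decide +kernel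
theorem ru494 : ∀ i, i < 23265 → fr i = true := below_step fr 23218 47 23265 ru493 rc494 rfl
theorem rc495 : allBelow (fun k => fr (Nat.add 23265 k)) 47 = true := by decide +kernel
theorem ru495 : ∀ i, i < 23312 → fr i = true := below_step fr 23265 47 23312 ru494 rc495 rfl
theorem rc496 : allBelow (fun k => fr (Nat.add 23312 k)) 47 = true := by decide +kernel
theorem ru496 : ∀ i, i < 23359 → fr i = true := below_step fr 23312 47 23359 ru495 rc496 rfl
theorem rc497 : allBelow (fun k => fr (Nat.add 23359 k)) 47 = true := by decide +kernel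
theorem ru497 : ∀ i, i < 23406 → fr i = true := below_step fr 23359 47 23406 ru496 rc497 rfl
theorem rc498 : allBelow (fun k => fr (Nat.add 23406 k)) 47 = true := by decide +kernel
theorem ru498 : ∀ i, i < 23453 → fr i = true := below_step fr 23406 47 23453 ru497 rc498 rfl
theorem rc499 : allBelow (fun k => fr (Nat.add 23453 k)) 47 = true := by decide +kernel
theorem ru499 : ∀ i, i < 23500 → fr i = true := below_step fr 23453 47 23500 ru498 rc499 rfl
theorem rc500 : allBelow (fun k => fr (Nat.add 23500 k)) 47 = true := by decide +kernel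
theorem ru500 : ∀ i, i < 23547 → fr i = true := below_step fr 23500 47 23547 ru499 rc500 rfl
theorem rc501 : allBelow (fun k => fr (Nat.add 23547 k)) 47 = true := by decide +kernel
theorem ru501 : ∀ i, i < 23594 → fr i = true := below_step fr 23547 47 23594 ru500 rc501 rfl
theorem rc502 : allBelow (fun k => fr (Nat.add 23594 k)) 47 = true := by decide +kernel
theorem ru502 : ∀ i, i < 23641 → fr i = true := below_step fr 23594 47 23641 ru501 rc502 rfl
theorem rc503 : allBelow (fun k => fr (Nat.add 23641 k)) 47 = true := by decide +kernel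
theorem ru503 : ∀ i, i < 23688 → fr i = true := below_step fr 23641 47 23688 ru502 rc503 rfl
theorem rc504 : allBelow (fun k => fr (Nat.add 23688 k)) 47 = true := by decide +kernel
theorem ru504 : ∀ i, i < 23735 → fr i = true := below_step fr 23688 47 23735 ru503 rc504 rfl
theorem rc505 : allBelow (fun k => fr (Nat.add 23735 k)) 47 = true := by decide +kernel
theorem ru505 : ∀ i, i < 23782 → fr i = true := below_step fr 23735 47 23782 ru504 rc505 rfl
theorem rc506 : allBelow (fun k => fr (Nat.add 23782 k)) 47 = true := by decide +kernel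
theorem ru506 : ∀ i, i < 23829 → fr i = true := below_step fr 23782 47 23829 ru505 rc506 rfl
theorem rc507 : allBelow (fun k => fr (Nat.add 23829 k)) 47 = true := by decide +kernel
theorem ru507 : ∀ i, i < 23876 → fr i = true := below_step fr 23829 47 23876 ru506 rc507 rfl
theorem rc508 : allBelow (fun k => fr (Nat.add 23876 k)) 47 = true := by decide +kernel
theorem ru508 : ∀ i, i < 23923 → fr i = true := below_step fr 23876 47 23923 ru507 rc508 rfl
theorem rc509 : allBelow (fun k => fr (Nat.add 23923 k)) 47 = true := by decide +kernel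
theorem ru509 : ∀ i, i < 23970 → fr i = true := below_step fr 23923 47 23970 ru508 rc509 rfl
theorem rc510 : allBelow (fun k => fr (Nat.add 23970 k)) 47 = true := by decide +kernel
theorem ru510 : ∀ i, i < 24017 → fr i = true := below_step fr 23970 47 24017 ru509 rc510 rfl
theorem rc511 : allBelow (fun k => fr (Nat.add 24017 k)) 47 = true := by decide +kernel
theorem ru511 : ∀ i, i < 24064 → fr i = true := below_step fr 24017 47 24064 ru510 rc511 rfl
theorem rc512 : allBelow (fun k => fr (Nat.add 24064 k)) 47 = true := by decide +kernel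
theorem ru512 : ∀ i, i < 24111 → fr i = true := below_step fr 24064 47 24111 ru511 rc512 rfl
theorem rc513 : allBelow (fun k => fr (Nat.add 24111 k)) 47 = true := by decide +kernel
theorem ru513 : ∀ i, i < 24158 → fr i = true := below_step fr 24111 47 24158 ru512 rc513 rfl
theorem rc514 : allBelow (fun k => fr (Nat.add 24158 k)) 47 = true := by decide +kernel
theorem ru514 : ∀ i, i < 24205 → fr i = true := below_step fr 24158 47 24205 ru513 rc514 rfl
theorem rc515 : allBelow (fun k => fr (Nat.add 24205 k)) 47 = true := by decide +kernel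
theorem ru515 : ∀ i, i < 24252 → fr i = true := below_step fr 24205 47 24252 ru514 rc515 rfl
theorem rc516 : allBelow (fun k => fr (Nat.add 24252 k)) 47 = true := by decide +kernel
theorem ru516 : ∀ i, i < 24299 → fr i = true := below_step fr 24252 47 24299 ru515 rc516 rfl
theorem rc517 : allBelow (fun k => fr (Nat.add 24299 k)) 47 = true := by decide +kernel
theorem ru517 : ∀ i, i < 24346 → fr i = true := below_step fr 24299 47 24346 ru516 rc517 rfl
theorem rc518 : allBelow (fun k => fr (Nat.add 24346 k)) 47 = true := by decide +kernel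
theorem ru518 : ∀ i, i < 24393 → fr i = true := below_step fr 24346 47 24393 ru517 rc518 rfl
theorem rc519 : allBelow (fun k => fr (Nat.add 24393 k)) 47 = true := by decide +kernel
theorem ru519 : ∀ i, i < 24440 → fr i = true := below_step fr 24393 47 24440 ru518 rc519 rfl
theorem rc520 : allBelow (fun k => fr (Nat.add 24440 k)) 47 = true := by decide +kernel
theorem ru520 : ∀ i, i < 24487 → fr i = true := below_step fr 24440 47 24487 ru519 rc520 rfl
theorem rc521 : allBelow (fun k => fr (Nat.add 24487 k)) 47 = true := by decide +kernel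
theorem ru521 : ∀ i, i < 24534 → fr i = true := below_step fr 24487 47 24534 ru520 rc521 rfl
theorem rc522 : allBelow (fun k => fr (Nat.add 24534 k)) 47 = true := by decide +kernel
theorem ru522 : ∀ i, i < 24581 → fr i = true := below_step fr 24534 47 24581 ru521 rc522 rfl
theorem rc523 : allBelow (fun k => fr (Nat.add 24581 k)) 47 = true := by decide +kernel
theorem ru523 : ∀ i, i < 24628 → fr i = true := below_step fr 24581 47 24628 ru522 rc523 rfl
theorem rc524 : allBelow (fun k => fr (Nat.add 24628 k)) 47 = true := by decide +kernel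
theorem ru524 : ∀ i, i < 24675 → fr i = true := below_step fr 24628 47 24675 ru523 rc524 rfl
theorem rc525 : allBelow (fun k => fr (Nat.add 24675 k)) 47 = true := by decide +kernel
theorem ru525 : ∀ i, i < 24722 → fr i = true := below_step fr 24675 47 24722 ru524 rc525 rfl
theorem rc526 : allBelow (fun k => fr (Nat.add 24722 k)) 47 = true := by decide +kernel
theorem ru526 : ∀ i, i < 24769 → fr i = true := below_step fr 24722 47 24769 ru525 rc526 rfl
theorem rc527 : allBelow (fun k => fr (Nat.add 24769 k)) 47 = true := by decide +kernel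
theorem ru527 : ∀ i, i < 24816 → fr i = true := below_step fr 24769 47 24816 ru526 rc527 rfl
theorem rc528 : allBelow (fun k => fr (Nat.add 24816 k)) 47 = true := by decide +kernel
theorem ru528 : ∀ i, i < 24863 → fr i = true := below_step fr 24816 47 24863 ru527 rc528 rfl
theorem rc529 : allBelow (fun k => fr (Nat.add 24863 k)) 47 = true := by decide +kernel
theorem ru529 : ∀ i, i < 24910 → fr i = true := below_step fr 24863 47 24910 ru528 rc529 rfl
theorem rc530 : allBelow (fun k => fr (Nat.add 24910 k)) 47 = true := by decide +kernel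
theorem ru530 : ∀ i, i < 24957 → fr i = true := below_step fr 24910 47 24957 ru529 rc530 rfl
theorem rc531 : allBelow (fun k => fr (Nat.add 24957 k)) 47 = true := by decide +kernel
theorem ru531 : ∀ i, i < 25004 → fr i = true := below_step fr 24957 47 25004 ru530 rc531 rfl
theorem rc532 : allBelow (fun k => fr (Nat.add 25004 k)) 47 = true := by decide +kernel
theorem ru532 : ∀ i, i < 25051 → fr i = true := below_step fr 25004 47 25051 ru531 rc532 rfl
theorem rc533 : allBelow (fun k => fr (Nat.add 25051 k)) 47 = true := by decide +kernel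
theorem ru533 : ∀ i, i < 25098 → fr i = true := below_step fr 25051 47 25098 ru532 rc533 rfl
theorem rc534 : allBelow (fun k => fr (Nat.add 25098 k)) 47 = true := by decide +kernel
theorem ru534 : ∀ i, i < 25145 → fr i = true := below_step fr 25098 47 25145 ru533 rc534 rfl
theorem rc535 : allBelow (fun k => fr (Nat.add 25145 k)) 47 = true := by decide +kernel
theorem ru535 : ∀ i, i < 25192 → fr i = true := below_step fr 25145 47 25192 ru534 rc535 rfl
theorem rc536 : allBelow (fun k => fr (Nat.add 25192 k)) 47 = true := by decide +kernel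
theorem ru536 : ∀ i, i < 25239 → fr i = true := below_step fr 25192 47 25239 ru535 rc536 rfl
theorem rc537 : allBelow (fun k => fr (Nat.add 25239 k)) 47 = true := by decide +kernel
theorem ru537 : ∀ i, i < 25286 → fr i = true := below_step fr 25239 47 25286 ru536 rc537 rfl
theorem rc538 : allBelow (fun k => fr (Nat.add 25286 k)) 47 = true := by decide +kernel
theorem ru538 : ∀ i, i < 25333 → fr i = true := below_step fr 25286 47 25333 ru537 rc538 rfl
theorem rc539 : allBelow (fun k => fr (Nat.add 25333 k)) 47 = true := by decide +kernel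
theorem ru539 : ∀ i, i < 25380 → fr i = true := below_step fr 25333 47 25380 ru538 rc539 rfl
theorem rc540 : allBelow (fun k => fr (Nat.add 25380 k)) 47 = true := by decide +kernel
theorem ru540 : ∀ i, i < 25427 → fr i = true := below_step fr 25380 47 25427 ru539 rc540 rfl
theorem rc541 : allBelow (fun k => fr (Nat.add 25427 k)) 47 = true := by decide +kernel
theorem ru541 : ∀ i, i < 25474 → fr i = true := below_step fr 25427 47 25474 ru540 rc541 rfl
theorem rc542 : allBelow (fun k => fr (Nat.add 25474 k)) 47 = true := by decide +kernel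
theorem ru542 : ∀ i, i < 25521 → fr i = true := below_step fr 25474 47 25521 ru541 rc542 rfl
theorem rc543 : allBelow (fun k => fr (Nat.add 25521 k)) 47 = true := by decide +kernel
theorem ru543 : ∀ i, i < 25568 → fr i = true := below_step fr 25521 47 25568 ru542 rc543 rfl
theorem rc544 : allBelow (fun k => fr (Nat.add 25568 k)) 47 = true := by decide +kernel
theorem ru544 : ∀ i, i < 25615 → fr i = true := below_step fr 25568 47 25615 ru543 rc544 rfl
theorem rc545 : allBelow (fun k => fr (Nat.add 25615 k)) 47 = true := by decide +kernel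
theorem ru545 : ∀ i, i < 25662 → fr i = true := below_step fr 25615 47 25662 ru544 rc545 rfl
theorem rc546 : allBelow (fun k => fr (Nat.add 25662 k)) 47 = true := by decide +kernel
theorem ru546 : ∀ i, i < 25709 → fr i = true := below_step fr 25662 47 25709 ru545 rc546 rfl
theorem rc547 : allBelow (fun k => fr (Nat.add 25709 k)) 47 = true := by decide +kernel
theorem ru547 : ∀ i, i < 25756 → fr i = true := below_step fr 25709 47 25756 ru546 rc547 rfl
theorem rc548 : allBelow (fun k => fr (Nat.add 25756 k)) 47 = true := by decide +kernel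
theorem ru548 : ∀ i, i < 25803 → fr i = true := below_step fr 25756 47 25803 ru547 rc548 rfl
theorem rc549 : allBelow (fun k => fr (Nat.add 25803 k)) 47 = true := by decide +kernel
theorem ru549 : ∀ i, i < 25850 → fr i = true := below_step fr 25803 47 25850 ru548 rc549 rfl
theorem rc550 : allBelow (fun k => fr (Nat.add 25850 k)) 47 = true := by decide +kernel
theorem ru550 : ∀ i, i < 25897 → fr i = true := below_step fr 25850 47 25897 ru549 rc550 rfl
theorem rc551 : allBelow (fun k => fr (Nat.add 25897 k)) 47 = true := by decide +kernel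
theorem ru551 : ∀ i, i < 25944 → fr i = true := below_step fr 25897 47 25944 ru550 rc551 rfl
theorem rc552 : allBelow (fun k => fr (Nat.add 25944 k)) 47 = true := by decide +kernel
theorem ru552 : ∀ i, i < 25991 → fr i = true := below_step fr 25944 47 25991 ru551 rc552 rfl
theorem rc553 : allBelow (fun k => fr (Nat.add 25991 k)) 47 = true := by decide +kernel
theorem ru553 : ∀ i, i < 26038 → fr i = true := below_step fr 25991 47 26038 ru552 rc553 rfl
theorem rc554 : allBelow (fun k => fr (Nat.add 26038 k)) 47 = true := by decide +kernel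
theorem ru554 : ∀ i, i < 26085 → fr i = true := below_step fr 26038 47 26085 ru553 rc554 rfl
theorem rc555 : allBelow (fun k => fr (Nat.add 26085 k)) 47 = true := by decide +kernel
theorem ru555 : ∀ i, i < 26132 → fr i = true := below_step fr 26085 47 26132 ru554 rc555 rfl
theorem rc556 : allBelow (fun k => fr (Nat.add 26132 k)) 47 = true := by decide +kernel
theorem ru556 : ∀ i, i < 26179 → fr i = true := below_step fr 26132 47 26179 ru555 rc556 rfl
theorem rc557 : allBelow (fun k => fr (Nat.add 26179 k)) 47 = true := by decide +kernel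
theorem ru557 : ∀ i, i < 26226 → fr i = true := below_step fr 26179 47 26226 ru556 rc557 rfl
theorem rc558 : allBelow (fun k => fr (Nat.add 26226 k)) 47 = true := by decide +kernel
theorem ru558 : ∀ i, i < 26273 → fr i = true := below_step fr 26226 47 26273 ru557 rc558 rfl
theorem rc559 : allBelow (fun k => fr (Nat.add 26273 k)) 47 = true := by decide +kernel
theorem ru559 : ∀ i, i < 26320 → fr i = true := below_step fr 26273 47 26320 ru558 rc559 rfl
theorem rc560 : allBelow (fun k => fr (Nat.add 26320 k)) 47 = true := by decide +kernel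
theorem ru560 : ∀ i, i < 26367 → fr i = true := below_step fr 26320 47 26367 ru559 rc560 rfl
theorem rc561 : allBelow (fun k => fr (Nat.add 26367 k)) 47 = true := by decide +kernel
theorem ru561 : ∀ i, i < 26414 → fr i = true := below_step fr 26367 47 26414 ru560 rc561 rfl
theorem rc562 : allBelow (fun k => fr (Nat.add 26414 k)) 47 = true := by decide +kernel
theorem ru562 : ∀ i, i < 26461 → fr i = true := below_step fr 26414 47 26461 ru561 rc562 rfl
theorem rc563 : allBelow (fun k => fr (Nat.add 26461 k)) 47 = true := by decide +kernel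
theorem ru563 : ∀ i, i < 26508 → fr i = true := below_step fr 26461 47 26508 ru562 rc563 rfl
theorem rc564 : allBelow (fun k => fr (Nat.add 26508 k)) 47 = true := by decide +kernel
theorem ru564 : ∀ i, i < 26555 → fr i = true := below_step fr 26508 47 26555 ru563 rc564 rfl
theorem rc565 : allBelow (fun k => fr (Nat.add 26555 k)) 47 = true := by decide +kernel
theorem ru565 : ∀ i, i < 26602 → fr i = true := below_step fr 26555 47 26602 ru564 rc565 rfl
theorem rc566 : allBelow (fun k => fr (Nat.add 26602 k)) 47 = true := by decide +kernel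
theorem ru566 : ∀ i, i < 26649 → fr i = true := below_step fr 26602 47 26649 ru565 rc566 rfl
theorem rc567 : allBelow (fun k => fr (Nat.add 26649 k)) 47 = true := by decide +kernel
theorem ru567 : ∀ i, i < 26696 → fr i = true := below_step fr 26649 47 26696 ru566 rc567 rfl
theorem rc568 : allBelow (fun k => fr (Nat.add 26696 k)) 47 = true := by decide +kernel
theorem ru568 : ∀ i, i < 26743 → fr i = true := below_step fr 26696 47 26743 ru567 rc568 rfl
theorem rc569 : allBelow (fun k => fr (Nat.add 26743 k)) 47 = true := by decide +kernel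
theorem ru569 : ∀ i, i < 26790 → fr i = true := below_step fr 26743 47 26790 ru568 rc569 rfl
theorem rc570 : allBelow (fun k => fr (Nat.add 26790 k)) 47 = true := by decide +kernel
theorem ru570 : ∀ i, i < 26837 → fr i = true := below_step fr 26790 47 26837 ru569 rc570 rfl
theorem rc571 : allBelow (fun k => fr (Nat.add 26837 k)) 47 = true := by decide +kernel
theorem ru571 : ∀ i, i < 26884 → fr i = true := below_step fr 26837 47 26884 ru570 rc571 rfl
theorem rc572 : allBelow (fun k => fr (Nat.add 26884 k)) 47 = true := by decide +kernel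
theorem ru572 : ∀ i, i < 26931 → fr i = true := below_step fr 26884 47 26931 ru571 rc572 rfl
theorem rc573 : allBelow (fun k => fr (Nat.add 26931 k)) 47 = true := by decide +kernel
theorem ru573 : ∀ i, i < 26978 → fr i = true := below_step fr 26931 47 26978 ru572 rc573 rfl
theorem rc574 : allBelow (fun k => fr (Nat.add 26978 k)) 47 = true := by decide +kernel
theorem ru574 : ∀ i, i < 27025 → fr i = true := below_step fr 26978 47 27025 ru573 rc574 rfl
theorem rc575 : allBelow (fun k => fr (Nat.add 27025 k)) 47 = true := by decide +kernel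
theorem ru575 : ∀ i, i < 27072 → fr i = true := below_step fr 27025 47 27072 ru574 rc575 rfl
theorem rc576 : allBelow (fun k => fr (Nat.add 27072 k)) 47 = true := by decide +kernel
theorem ru576 : ∀ i, i < 27119 → fr i = true := below_step fr 27072 47 27119 ru575 rc576 rfl
theorem rc577 : allBelow (fun k => fr (Nat.add 27119 k)) 47 = true := by decide +kernel
theorem ru577 : ∀ i, i < 27166 → fr i = true := below_step fr 27119 47 27166 ru576 rc577 rfl
theorem rc578 : allBelow (fun k => fr (Nat.add 27166 k)) 47 = true := by decide +kernel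
theorem ru578 : ∀ i, i < 27213 → fr i = true := below_step fr 27166 47 27213 ru577 rc578 rfl
theorem rc579 : allBelow (fun k => fr (Nat.add 27213 k)) 47 = true := by decide +kernel
theorem ru579 : ∀ i, i < 27260 → fr i = true := below_step fr 27213 47 27260 ru578 rc579 rfl
theorem rc580 : allBelow (fun k => fr (Nat.add 27260 k)) 47 = true := by decide +kernel
theorem ru580 : ∀ i, i < 27307 → fr i = true := below_step fr 27260 47 27307 ru579 rc580 rfl
theorem rc581 : allBelow (fun k => fr (Nat.add 27307 k)) 47 = true := by decide +kernel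
theorem ru581 : ∀ i, i < 27354 → fr i = true := below_step fr 27307 47 27354 ru580 rc581 rfl
theorem rc582 : allBelow (fun k => fr (Nat.add 27354 k)) 47 = true := by decide +kernel
theorem ru582 : ∀ i, i < 27401 → fr i = true := below_step fr 27354 47 27401 ru581 rc582 rfl
theorem rc583 : allBelow (fun k => fr (Nat.add 27401 k)) 47 = true := by decide +kernel
theorem ru583 : ∀ i, i < 27448 → fr i = true := below_step fr 27401 47 27448 ru582 rc583 rfl
theorem rc584 : allBelow (fun k => fr (Nat.add 27448 k)) 47 = true := by decide +kernel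
theorem ru584 : ∀ i, i < 27495 → fr i = true := below_step fr 27448 47 27495 ru583 rc584 rfl
theorem rc585 : allBelow (fun k => fr (Nat.add 27495 k)) 47 = true := by decide +kernel
theorem ru585 : ∀ i, i < 27542 → fr i = true := below_step fr 27495 47 27542 ru584 rc585 rfl
theorem rc586 : allBelow (fun k => fr (Nat.add 27542 k)) 47 = true := by decide +kernel
theorem ru586 : ∀ i, i < 27589 → fr i = true := below_step fr 27542 47 27589 ru585 rc586 rfl
theorem rc587 : allBelow (fun k => fr (Nat.add 27589 k)) 47 = true := by decide +kernel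
theorem ru587 : ∀ i, i < 27636 → fr i = true := below_step fr 27589 47 27636 ru586 rc587 rfl
theorem rc588 : allBelow (fun k => fr (Nat.add 27636 k)) 47 = true := by decide +kernel
theorem ru588 : ∀ i, i < 27683 → fr i = true := below_step fr 27636 47 27683 ru587 rc588 rfl
theorem rc589 : allBelow (fun k => fr (Nat.add 27683 k)) 47 = true := by decide +kernel
theorem ru589 : ∀ i, i < 27730 → fr i = true := below_step fr 27683 47 27730 ru588 rc589 rfl
theorem rc590 : allBelow (fun k => fr (Nat.add 27730 k)) 47 = true := by decide +kernel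
theorem ru590 : ∀ i, i < 27777 → fr i = true := below_step fr 27730 47 27777 ru589 rc590 rfl
theorem rc591 : allBelow (fun k => fr (Nat.add 27777 k)) 47 = true := by decide +kernel
theorem ru591 : ∀ i, i < 27824 → fr i = true := below_step fr 27777 47 27824 ru590 rc591 rfl
theorem rc592 : allBelow (fun k => fr (Nat.add 27824 k)) 47 = true := by decide +kernel
theorem ru592 : ∀ i, i < 27871 → fr i = true := below_step fr 27824 47 27871 ru591 rc592 rfl
theorem rc593 : allBelow (fun k => fr (Nat.add 27871 k)) 47 = true := by decide +kernel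
theorem ru593 : ∀ i, i < 27918 → fr i = true := below_step fr 27871 47 27918 ru592 rc593 rfl
theorem rc594 : allBelow (fun k => fr (Nat.add 27918 k)) 47 = true := by decide +kernel
theorem ru594 : ∀ i, i < 27965 → fr i = true := below_step fr 27918 47 27965 ru593 rc594 rfl
theorem rc595 : allBelow (fun k => fr (Nat.add 27965 k)) 47 = true := by decide +kernel
theorem ru595 : ∀ i, i < 28012 → fr i = true := below_step fr 27965 47 28012 ru594 rc595 rfl
theorem rc596 : allBelow (fun k => fr (Nat.add 28012 k)) 47 = true := by decide +kernel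
theorem ru596 : ∀ i, i < 28059 → fr i = true := below_step fr 28012 47 28059 ru595 rc596 rfl
theorem rc597 : allBelow (fun k => fr (Nat.add 28059 k)) 47 = true := by decide +kernel
theorem ru597 : ∀ i, i < 28106 → fr i = true := below_step fr 28059 47 28106 ru596 rc597 rfl
theorem rc598 : allBelow (fun k => fr (Nat.add 28106 k)) 47 = true := by decide +kernel
theorem ru598 : ∀ i, i < 28153 → fr i = true := below_step fr 28106 47 28153 ru597 rc598 rfl
theorem rc599 : allBelow (fun k => fr (Nat.add 28153 k)) 47 = true := by decide +kernel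
theorem ru599 : ∀ i, i < 28200 → fr i = true := below_step fr 28153 47 28200 ru598 rc599 rfl
theorem rc600 : allBelow (fun k => fr (Nat.add 28200 k)) 47 = true := by decide +kernel
theorem ru600 : ∀ i, i < 28247 → fr i = true := below_step fr 28200 47 28247 ru599 rc600 rfl
theorem rc601 : allBelow (fun k => fr (Nat.add 28247 k)) 47 = true := by decide +kernel
theorem ru601 : ∀ i, i < 28294 → fr i = true := below_step fr 28247 47 28294 ru600 rc601 rfl
theorem rc602 : allBelow (fun k => fr (Nat.add 28294 k)) 47 = true := by decide +kernel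
theorem ru602 : ∀ i, i < 28341 → fr i = true := below_step fr 28294 47 28341 ru601 rc602 rfl
theorem rc603 : allBelow (fun k => fr (Nat.add 28341 k)) 47 = true := by decide +kernel
theorem ru603 : ∀ i, i < 28388 → fr i = true := below_step fr 28341 47 28388 ru602 rc603 rfl
theorem rc604 : allBelow (fun k => fr (Nat.add 28388 k)) 47 = true := by decide +kernel
theorem ru604 : ∀ i, i < 28435 → fr i = true := below_step fr 28388 47 28435 ru603 rc604 rfl
theorem rc605 : allBelow (fun k => fr (Nat.add 28435 k)) 47 = true := by decide +kernel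
theorem ru605 : ∀ i, i < 28482 → fr i = true := below_step fr 28435 47 28482 ru604 rc605 rfl
theorem rc606 : allBelow (fun k => fr (Nat.add 28482 k)) 47 = true := by decide +kernel
theorem ru606 : ∀ i, i < 28529 → fr i = true := below_step fr 28482 47 28529 ru605 rc606 rfl
theorem rc607 : allBelow (fun k => fr (Nat.add 28529 k)) 47 = true := by decide +kernel
theorem ru607 : ∀ i, i < 28576 → fr i = true := below_step fr 28529 47 28576 ru606 rc607 rfl
theorem rc608 : allBelow (fun k => fr (Nat.add 28576 k)) 47 = true := by decide +kernel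
theorem ru608 : ∀ i, i < 28623 → fr i = true := below_step fr 28576 47 28623 ru607 rc608 rfl
theorem rc609 : allBelow (fun k => fr (Nat.add 28623 k)) 47 = true := by decide +kernel
theorem ru609 : ∀ i, i < 28670 → fr i = true := below_step fr 28623 47 28670 ru608 rc609 rfl
theorem rc610 : allBelow (fun k => fr (Nat.add 28670 k)) 47 = true := by decide +kernel
theorem ru610 : ∀ i, i < 28717 → fr i = true := below_step fr 28670 47 28717 ru609 rc610 rfl
theorem rc611 : allBelow (fun k => fr (Nat.add 28717 k)) 47 = true := by decide +kernel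
theorem ru611 : ∀ i, i < 28764 → fr i = true := below_step fr 28717 47 28764 ru610 rc611 rfl
theorem rc612 : allBelow (fun k => fr (Nat.add 28764 k)) 47 = true := by decide +kernel
theorem ru612 : ∀ i, i < 28811 → fr i = true := below_step fr 28764 47 28811 ru611 rc612 rfl
theorem rc613 : allBelow (fun k => fr (Nat.add 28811 k)) 47 = true := by decide +kernel
theorem ru613 : ∀ i, i < 28858 → fr i = true := below_step fr 28811 47 28858 ru612 rc613 rfl
theorem rc614 : allBelow (fun k => fr (Nat.add 28858 k)) 47 = true := by decide +kernel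
theorem ru614 : ∀ i, i < 28905 → fr i = true := below_step fr 28858 47 28905 ru613 rc614 rfl
theorem rc615 : allBelow (fun k => fr (Nat.add 28905 k)) 47 = true := by decide +kernel
theorem ru615 : ∀ i, i < 28952 → fr i = true := below_step fr 28905 47 28952 ru614 rc615 rfl
theorem rc616 : allBelow (fun k => fr (Nat.add 28952 k)) 47 = true := by decide +kernel
theorem ru616 : ∀ i, i < 28999 → fr i = true := below_step fr 28952 47 28999 ru615 rc616 rfl
theorem rc617 : allBelow (fun k => fr (Nat.add 28999 k)) 47 = true := by decide +kernel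
theorem ru617 : ∀ i, i < 29046 → fr i = true := below_step fr 28999 47 29046 ru616 rc617 rfl
theorem rc618 : allBelow (fun k => fr (Nat.add 29046 k)) 47 = true := by decide +kernel
theorem ru618 : ∀ i, i < 29093 → fr i = true := below_step fr 29046 47 29093 ru617 rc618 rfl
theorem rc619 : allBelow (fun k => fr (Nat.add 29093 k)) 47 = true := by decide +kernel
theorem ru619 : ∀ i, i < 29140 → fr i = true := below_step fr 29093 47 29140 ru618 rc619 rfl
theorem rc620 : allBelow (fun k => fr (Nat.add 29140 k)) 47 = true := by decide +kernel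
theorem ru620 : ∀ i, i < 29187 → fr i = true := below_step fr 29140 47 29187 ru619 rc620 rfl
theorem rc621 : allBelow (fun k => fr (Nat.add 29187 k)) 47 = true := by decide +kernel
theorem ru621 : ∀ i, i < 29234 → fr i = true := below_step fr 29187 47 29234 ru620 rc621 rfl
theorem rc622 : allBelow (fun k => fr (Nat.add 29234 k)) 47 = true := by decide +kernel
theorem ru622 : ∀ i, i < 29281 → fr i = true := below_step fr 29234 47 29281 ru621 rc622 rfl
theorem rc623 : allBelow (fun k => fr (Nat.add 29281 k)) 47 = true := by decide +kernel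
theorem ru623 : ∀ i, i < 29328 → fr i = true := below_step fr 29281 47 29328 ru622 rc623 rfl
theorem rc624 : allBelow (fun k => fr (Nat.add 29328 k)) 47 = true := by decide +kernel
theorem ru624 : ∀ i, i < 29375 → fr i = true := below_step fr 29328 47 29375 ru623 rc624 rfl
theorem rc625 : allBelow (fun k => fr (Nat.add 29375 k)) 47 = true := by decide +kernel
theorem ru625 : ∀ i, i < 29422 → fr i = true := below_step fr 29375 47 29422 ru624 rc625 rfl
theorem rc626 : allBelow (fun k => fr (Nat.add 29422 k)) 47 = true := by decide +kernel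
theorem ru626 : ∀ i, i < 29469 → fr i = true := below_step fr 29422 47 29469 ru625 rc626 rfl
theorem rc627 : allBelow (fun k => fr (Nat.add 29469 k)) 47 = true := by decide +kernel
theorem ru627 : ∀ i, i < 29516 → fr i = true := below_step fr 29469 47 29516 ru626 rc627 rfl
theorem rc628 : allBelow (fun k => fr (Nat.add 29516 k)) 47 = true := by decide +kernel
theorem ru628 : ∀ i, i < 29563 → fr i = true := below_step fr 29516 47 29563 ru627 rc628 rfl
theorem rc629 : allBelow (fun k => fr (Nat.add 29563 k)) 47 = true := by decide +kernel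
theorem ru629 : ∀ i, i < 29610 → fr i = true := below_step fr 29563 47 29610 ru628 rc629 rfl
theorem rc630 : allBelow (fun k => fr (Nat.add 29610 k)) 47 = true := by decide +kernel
theorem ru630 : ∀ i, i < 29657 → fr i = true := below_step fr 29610 47 29657 ru629 rc630 rfl
theorem rc631 : allBelow (fun k => fr (Nat.add 29657 k)) 47 = true := by decide +kernel
theorem ru631 : ∀ i, i < 29704 → fr i = true := below_step fr 29657 47 29704 ru630 rc631 rfl
theorem rc632 : allBelow (fun k => fr (Nat.add 29704 k)) 47 = true := by decide +kernel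
theorem ru632 : ∀ i, i < 29751 → fr i = true := below_step fr 29704 47 29751 ru631 rc632 rfl
theorem rc633 : allBelow (fun k => fr (Nat.add 29751 k)) 47 = true := by decide +kernel
theorem ru633 : ∀ i, i < 29798 → fr i = true := below_step fr 29751 47 29798 ru632 rc633 rfl
theorem rc634 : allBelow (fun k => fr (Nat.add 29798 k)) 47 = true := by decide +kernel
theorem ru634 : ∀ i, i < 29845 → fr i = true := below_step fr 29798 47 29845 ru633 rc634 rfl
theorem rc635 : allBelow (fun k => fr (Nat.add 29845 k)) 47 = true := by decide +kernel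
theorem ru635 : ∀ i, i < 29892 → fr i = true := below_step fr 29845 47 29892 ru634 rc635 rfl
theorem rc636 : allBelow (fun k => fr (Nat.add 29892 k)) 47 = true := by decide +kernel
theorem ru636 : ∀ i, i < 29939 → fr i = true := below_step fr 29892 47 29939 ru635 rc636 rfl
theorem rc637 : allBelow (fun k => fr (Nat.add 29939 k)) 47 = true := by decide +kernel
theorem ru637 : ∀ i, i < 29986 → fr i = true := below_step fr 29939 47 29986 ru636 rc637 rfl
theorem rc638 : allBelow (fun k => fr (Nat.add 29986 k)) 47 = true := by decide +kernel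
theorem ru638 : ∀ i, i < 30033 → fr i = true := below_step fr 29986 47 30033 ru637 rc638 rfl
theorem rc639 : allBelow (fun k => fr (Nat.add 30033 k)) 47 = true := by decide +kernel
theorem ru639 : ∀ i, i < 30080 → fr i = true := below_step fr 30033 47 30080 ru638 rc639 rfl
theorem rc640 : allBelow (fun k => fr (Nat.add 30080 k)) 47 = true := by decide +kernel
theorem ru640 : ∀ i, i < 30127 → fr i = true := below_step fr 30080 47 30127 ru639 rc640 rfl
theorem rc641 : allBelow (fun k => fr (Nat.add 30127 k)) 47 = true := by decide +kernel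
theorem ru641 : ∀ i, i < 30174 → fr i = true := below_step fr 30127 47 30174 ru640 rc641 rfl
theorem rc642 : allBelow (fun k => fr (Nat.add 30174 k)) 47 = true := by decide +kernel
theorem ru642 : ∀ i, i < 30221 → fr i = true := below_step fr 30174 47 30221 ru641 rc642 rfl
theorem rc643 : allBelow (fun k => fr (Nat.add 30221 k)) 47 = true := by decide +kernel
theorem ru643 : ∀ i, i < 30268 → fr i = true := below_step fr 30221 47 30268 ru642 rc643 rfl
theorem rc644 : allBelow (fun k => fr (Nat.add 30268 k)) 47 = true := by decide +kernel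
theorem ru644 : ∀ i, i < 30315 → fr i = true := below_step fr 30268 47 30315 ru643 rc644 rfl
theorem rc645 : allBelow (fun k => fr (Nat.add 30315 k)) 47 = true := by decide +kernel
theorem ru645 : ∀ i, i < 30362 → fr i = true := below_step fr 30315 47 30362 ru644 rc645 rfl
theorem rc646 : allBelow (fun k => fr (Nat.add 30362 k)) 47 = true := by decide +kernel
theorem ru646 : ∀ i, i < 30409 → fr i = true := below_step fr 30362 47 30409 ru645 rc646 rfl
theorem rc647 : allBelow (fun k => fr (Nat.add 30409 k)) 47 = true := by decide +kernel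
theorem ru647 : ∀ i, i < 30456 → fr i = true := below_step fr 30409 47 30456 ru646 rc647 rfl
theorem rc648 : allBelow (fun k => fr (Nat.add 30456 k)) 47 = true := by decide +kernel
theorem ru648 : ∀ i, i < 30503 → fr i = true := below_step fr 30456 47 30503 ru647 rc648 rfl
theorem rc649 : allBelow (fun k => fr (Nat.add 30503 k)) 47 = true := by decide +kernel
theorem ru649 : ∀ i, i < 30550 → fr i = true := below_step fr 30503 47 30550 ru648 rc649 rfl
theorem rc650 : allBelow (fun k => fr (Nat.add 30550 k)) 47 = true := by decide +kernel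
theorem ru650 : ∀ i, i < 30597 → fr i = true := below_step fr 30550 47 30597 ru649 rc650 rfl
theorem rc651 : allBelow (fun k => fr (Nat.add 30597 k)) 47 = true := by decide +kernel
theorem ru651 : ∀ i, i < 30644 → fr i = true := below_step fr 30597 47 30644 ru650 rc651 rfl
theorem rc652 : allBelow (fun k => fr (Nat.add 30644 k)) 47 = true := by decide +kernel
theorem ru652 : ∀ i, i < 30691 → fr i = true := below_step fr 30644 47 30691 ru651 rc652 rfl
theorem rc653 : allBelow (fun k => fr (Nat.add 30691 k)) 47 = true := by decide +kernel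
theorem ru653 : ∀ i, i < 30738 → fr i = true := below_step fr 30691 47 30738 ru652 rc653 rfl
theorem rc654 : allBelow (fun k => fr (Nat.add 30738 k)) 47 = true := by decide +kernel
theorem ru654 : ∀ i, i < 30785 → fr i = true := below_step fr 30738 47 30785 ru653 rc654 rfl
theorem rc655 : allBelow (fun k => fr (Nat.add 30785 k)) 47 = true := by decide +kernel
theorem ru655 : ∀ i, i < 30832 → fr i = true := below_step fr 30785 47 30832 ru654 rc655 rfl
theorem rc656 : allBelow (fun k => fr (Nat.add 30832 k)) 47 = true := by decide +kernel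
theorem ru656 : ∀ i, i < 30879 → fr i = true := below_step fr 30832 47 30879 ru655 rc656 rfl
theorem rc657 : allBelow (fun k => fr (Nat.add 30879 k)) 47 = true := by decide +kernel
theorem ru657 : ∀ i, i < 30926 → fr i = true := below_step fr 30879 47 30926 ru656 rc657 rfl
theorem rc658 : allBelow (fun k => fr (Nat.add 30926 k)) 47 = true := by decide +kernel
theorem ru658 : ∀ i, i < 30973 → fr i = true := below_step fr 30926 47 30973 ru657 rc658 rfl
theorem rc659 : allBelow (fun k => fr (Nat.add 30973 k)) 47 = true := by decide +kernel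
theorem ru659 : ∀ i, i < 31020 → fr i = true := below_step fr 30973 47 31020 ru658 rc659 rfl
theorem rc660 : allBelow (fun k => fr (Nat.add 31020 k)) 47 = true := by decide +kernel
theorem ru660 : ∀ i, i < 31067 → fr i = true := below_step fr 31020 47 31067 ru659 rc660 rfl
theorem rc661 : allBelow (fun k => fr (Nat.add 31067 k)) 47 = true := by decide +kernel
theorem ru661 : ∀ i, i < 31114 → fr i = true := below_step fr 31067 47 31114 ru660 rc661 rfl
theorem rc662 : allBelow (fun k => fr (Nat.add 31114 k)) 47 = true := by decide +kernel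
theorem ru662 : ∀ i, i < 31161 → fr i = true := below_step fr 31114 47 31161 ru661 rc662 rfl
theorem rc663 : allBelow (fun k => fr (Nat.add 31161 k)) 47 = true := by decide +kernel
theorem ru663 : ∀ i, i < 31208 → fr i = true := below_step fr 31161 47 31208 ru662 rc663 rfl
theorem rc664 : allBelow (fun k => fr (Nat.add 31208 k)) 47 = true := by decide +kernel
theorem ru664 : ∀ i, i < 31255 → fr i = true := below_step fr 31208 47 31255 ru663 rc664 rfl
theorem rc665 : allBelow (fun k => fr (Nat.add 31255 k)) 47 = true := by decide +kernel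
theorem ru665 : ∀ i, i < 31302 → fr i = true := below_step fr 31255 47 31302 ru664 rc665 rfl
theorem rc666 : allBelow (fun k => fr (Nat.add 31302 k)) 47 = true := by decide +kernel
theorem ru666 : ∀ i, i < 31349 → fr i = true := below_step fr 31302 47 31349 ru665 rc666 rfl
theorem rc667 : allBelow (fun k => fr (Nat.add 31349 k)) 47 = true := by decide +kernel
theorem ru667 : ∀ i, i < 31396 → fr i = true := below_step fr 31349 47 31396 ru666 rc667 rfl
theorem rc668 : allBelow (fun k => fr (Nat.add 31396 k)) 47 = true := by decide +kernel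
theorem ru668 : ∀ i, i < 31443 → fr i = true := below_step fr 31396 47 31443 ru667 rc668 rfl
theorem rc669 : allBelow (fun k => fr (Nat.add 31443 k)) 47 = true := by decide +kernel
theorem ru669 : ∀ i, i < 31490 → fr i = true := below_step fr 31443 47 31490 ru668 rc669 rfl
theorem rc670 : allBelow (fun k => fr (Nat.add 31490 k)) 47 = true := by decide +kernel
theorem ru670 : ∀ i, i < 31537 → fr i = true := below_step fr 31490 47 31537 ru669 rc670 rfl
theorem rc671 : allBelow (fun k => fr (Nat.add 31537 k)) 47 = true := by decide +kernel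
theorem ru671 : ∀ i, i < 31584 → fr i = true := below_step fr 31537 47 31584 ru670 rc671 rfl
theorem rc672 : allBelow (fun k => fr (Nat.add 31584 k)) 47 = true := by decide +kernel
theorem ru672 : ∀ i, i < 31631 → fr i = true := below_step fr 31584 47 31631 ru671 rc672 rfl
theorem rc673 : allBelow (fun k => fr (Nat.add 31631 k)) 40 = true := by decide +kernel
theorem ru673 : ∀ i, i < 31671 → fr i = true := below_step fr 31631 40 31671 ru672 rc673 rfl
theorem c0c0 : allBelow (fun k => fc0 (Nat.add 0 k)) 8335 = true := by decide +kernel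
theorem c0u0 : ∀ i, i < 8335 → fc0 i = true := below_step fc0 0 8335 8335 (below_zero fc0) c0c0 rfl
theorem c0c1 : allBelow (fun k => fc0 (Nat.add 8335 k)) 8335 = true := by decide +kernel
theorem c0u1 : ∀ i, i < 16670 → fc0 i = true := below_step fc0 8335 8335 16670 c0u0 c0c1 rfl
theorem c0c2 : allBelow (fun k => fc0 (Nat.add 16670 k)) 8335 = true := by decide +kernel
theorem c0u2 : ∀ i, i < 25005 → fc0 i = true := below_step fc0 16670 8335 25005 c0u1 c0c2 rfl
theorem c0c3 : allBelow (fun k => fc0 (Nat.add 25005 k)) 6666 = true := by decide +kernel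
theorem c0u3 : ∀ i, i < 31671 → fc0 i = true := below_step fc0 25005 6666 31671 c0u2 c0c3 rfl
theorem c1c0 : allBelow (fun k => fc1 (Nat.add 0 k)) 8335 = true := by decide +kernel
theorem c1u0 : ∀ i, i < 8335 → fc1 i = true := below_step fc1 0 8335 8335 (below_zero fc1) c1c0 rfl
theorem c1c1 : allBelow (fun k => fc1 (Nat.add 8335 k)) 8335 = true := by decide +kernel
theorem c1u1 : ∀ i, i < 16670 → fc1 i = true := below_step fc1 8335 8335 16670 c1u0 c1c1 rfl
theorem c1c2 : allBelow (fun k => fc1 (Nat.add 16670 k)) 8335 = true := by decide +kernel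
theorem c1u2 : ∀ i, i < 25005 → fc1 i = true := below_step fc1 16670 8335 25005 c1u1 c1c2 rfl
theorem c1c3 : allBelow (fun k => fc1 (Nat.add 25005 k)) 6666 = true := by decide +kernel
theorem c1u3 : ∀ i, i < 31671 → fc1 i = true := below_step fc1 25005 6666 31671 c1u2 c1c3 rfl
theorem c2c0 : allBelow (fun k => fc2 (Nat.add 0 k)) 8335 = true := by decide +kernel
theorem c2u0 : ∀ i, i < 8335 → fc2 i = true := below_step fc2 0 8335 8335 (below_zero fc2) c2c0 rfl
theorem c2c1 : allBelow (fun k => fc2 (Nat.add 8335 k)) 8335 = true := by decide +kernel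
theorem c2u1 : ∀ i, i < 16670 → fc2 i = true := below_step fc2 8335 8335 16670 c2u0 c2c1 rfl
theorem c2c2 : allBelow (fun k => fc2 (Nat.add 16670 k)) 8335 = true := by decide +kernel
theorem c2u2 : ∀ i, i < 25005 → fc2 i = true := below_step fc2 16670 8335 25005 c2u1 c2c2 rfl
theorem c2c3 : allBelow (fun k => fc2 (Nat.add 25005 k)) 6666 = true := by decide +kernel
theorem c2u3 : ∀ i, i < 31671 → fc2 i = true := below_step fc2 25005 6666 31671 c2u2 c2c3 rfl
theorem c3c0 : allBelow (fun k => fc3 (Nat.add 0 k)) 8335 = true := by decide +kernel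
theorem c3u0 : ∀ i, i < 8335 → fc3 i = true := below_step fc3 0 8335 8335 (below_zero fc3) c3c0 rfl
theorem c3c1 : allBelow (fun k => fc3 (Nat.add 8335 k)) 8335 = true := by decide +kernel
theorem c3u1 : ∀ i, i < 16670 → fc3 i = true := below_step fc3 8335 8335 16670 c3u0 c3c1 rfl
theorem c3c2 : allBelow (fun k => fc3 (Nat.add 16670 k)) 8335 = true := by decide +kernel
theorem c3u2 : ∀ i, i < 25005 → fc3 i = true := below_step fc3 16670 8335 25005 c3u1 c3c2 rfl
theorem c3c3 : allBelow (fun k => fc3 (Nat.add 25005 k)) 6666 = true := by decide +kernel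
theorem c3u3 : ∀ i, i < 31671 → fc3 i = true := below_step fc3 25005 6666 31671 c3u2 c3c3 rfl
theorem c4c0 : allBelow (fun k => fc4 (Nat.add 0 k)) 8335 = true := by decide +kernel
theorem c4u0 : ∀ i, i < 8335 → fc4 i = true := below_step fc4 0 8335 8335 (below_zero fc4) c4c0 rfl
theorem c4c1 : allBelow (fun k => fc4 (Nat.add 8335 k)) 8335 = true := by decide +kernel
theorem c4u1 : ∀ i, i < 16670 → fc4 i = true := below_step fc4 8335 8335 16670 c4u0 c4c1 rfl
theorem c4c2 : allBelow (fun k => fc4 (Nat.add 16670 k)) 8335 = true := by decide +kernel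
theorem c4u2 : ∀ i, i < 25005 → fc4 i = true := below_step fc4 16670 8335 25005 c4u1 c4c2 rfl
theorem c4c3 : allBelow (fun k => fc4 (Nat.add 25005 k)) 6666 = true := by decide +kernel
theorem c4u3 : ∀ i, i < 31671 → fc4 i = true := below_step fc4 25005 6666 31671 c4u2 c4c3 rfl
theorem c5c0 : allBelow (fun k => fc5 (Nat.add 0 k)) 8335 = true := by decide +kernel
theorem c5u0 : ∀ i, i < 8335 → fc5 i = true := below_step fc5 0 8335 8335 (below_zero fc5) c5c0 rfl
theorem c5c1 : allBelow (fun k => fc5 (Nat.add 8335 k)) 8335 = true := by decide +kernel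
theorem c5u1 : ∀ i, i < 16670 → fc5 i = true := below_step fc5 8335 8335 16670 c5u0 c5c1 rfl
theorem c5c2 : allBelow (fun k => fc5 (Nat.add 16670 k)) 8335 = true := by decide +kernel
theorem c5u2 : ∀ i, i < 25005 → fc5 i = true := below_step fc5 16670 8335 25005 c5u1 c5c2 rfl
theorem c5c3 : allBelow (fun k => fc5 (Nat.add 25005 k)) 6666 = true := by decide +kernel
theorem c5u3 : ∀ i, i < 31671 → fc5 i = true := below_step fc5 25005 6666 31671 c5u2 c5c3 rfl
theorem c6c0 : allBelow (fun k => fc6 (Nat.add 0 k)) 8335 = true := by decide +kernel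
theorem c6u0 : ∀ i, i < 8335 → fc6 i = true := below_step fc6 0 8335 8335 (below_zero fc6) c6c0 rfl
theorem c6c1 : allBelow (fun k => fc6 (Nat.add 8335 k)) 8335 = true := by decide +kernel
theorem c6u1 : ∀ i, i < 16670 → fc6 i = true := below_step fc6 8335 8335 16670 c6u0 c6c1 rfl
theorem c6c2 : allBelow (fun k => fc6 (Nat.add 16670 k)) 8335 = true := by decide +kernel
theorem c6u2 : ∀ i, i < 25005 → fc6 i = true := below_step fc6 16670 8335 25005 c6u1 c6c2 rfl
theorem c6c3 : allBelow (fun k => fc6 (Nat.add 25005 k)) 6666 = true := by decide +kernel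
theorem c6u3 : ∀ i, i < 31671 → fc6 i = true := below_step fc6 25005 6666 31671 c6u2 c6c3 rfl
theorem c7c0 : allBelow (fun k => fc7 (Nat.add 0 k)) 8335 = true := by decide +kernel
theorem c7u0 : ∀ i, i < 8335 → fc7 i = true := below_step fc7 0 8335 8335 (below_zero fc7) c7c0 rfl
theorem c7c1 : allBelow (fun k => fc7 (Nat.add 8335 k)) 8335 = true := by decide +kernel
theorem c7u1 : ∀ i, i < 16670 → fc7 i = true := below_step fc7 8335 8335 16670 c7u0 c7c1 rfl
theorem c7c2 : allBelow (fun k => fc7 (Nat.add 16670 k)) 8335 = true := by decide +kernel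
theorem c7u2 : ∀ i, i < 25005 → fc7 i = true := below_step fc7 16670 8335 25005 c7u1 c7c2 rfl
theorem c7c3 : allBelow (fun k => fc7 (Nat.add 25005 k)) 6666 = true := by decide +kernel
theorem c7u3 : ∀ i, i < 31671 → fc7 i = true := below_step fc7 25005 6666 31671 c7u2 c7c3 rfl
theorem c8c0 : allBelow (fun k => fc8 (Nat.add 0 k)) 8335 = true := by decide +kernel
theorem c8u0 : ∀ i, i < 8335 → fc8 i = true := below_step fc8 0 8335 8335 (below_zero fc8) c8c0 rfl
theorem c8c1 : allBelow (fun k => fc8 (Nat.add 8335 k)) 8335 = true := by decide +kernel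
theorem c8u1 : ∀ i, i < 16670 → fc8 i = true := below_step fc8 8335 8335 16670 c8u0 c8c1 rfl
theorem c8c2 : allBelow (fun k => fc8 (Nat.add 16670 k)) 8335 = true := by decide +kernel
theorem c8u2 : ∀ i, i < 25005 → fc8 i = true := below_step fc8 16670 8335 25005 c8u1 c8c2 rfl
theorem c8c3 : allBelow (fun k => fc8 (Nat.add 25005 k)) 6666 = true := by decide +kernel
theorem c8u3 : ∀ i, i < 31671 → fc8 i = true := below_step fc8 25005 6666 31671 c8u2 c8c3 rfl
theorem c9c0 : allBelow (fun k => fc9 (Nat.add 0 k)) 8335 = true := by decide +kernel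
theorem c9u0 : ∀ i, i < 8335 → fc9 i = true := below_step fc9 0 8335 8335 (below_zero fc9) c9c0 rfl
theorem c9c1 : allBelow (fun k => fc9 (Nat.add 8335 k)) 8335 = true := by decide +kernel
theorem c9u1 : ∀ i, i < 16670 → fc9 i = true := below_step fc9 8335 8335 16670 c9u0 c9c1 rfl
theorem c9c2 : allBelow (fun k => fc9 (Nat.add 16670 k)) 8335 = true := by decide +kernel
theorem c9u2 : ∀ i, i < 25005 → fc9 i = true := below_step fc9 16670 8335 25005 c9u1 c9c2 rfl
theorem c9c3 : allBelow (fun k => fc9 (Nat.add 25005 k)) 6666 = true := by decide +kernel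
theorem c9u3 : ∀ i, i < 31671 → fc9 i = true := below_step fc9 25005 6666 31671 c9u2 c9c3 rfl
theorem tc0 : allBelow (fun k => ft (Nat.add (Nat.succ 0) k)) 5557 = true := by decide +kernel
theorem tu0 : ∀ v, 1 ≤ v → v ≤ 5557 → ft v = true := slots_step ft 0 5557 5557 (slots_zero ft) tc0 rfl
theorem tc1 : allBelow (fun k => ft (Nat.add (Nat.succ 5557) k)) 5557 = true := by decide +kernel
theorem tu1 : ∀ v, 1 ≤ v → v ≤ 11114 → ft v = true := slots_step ft 5557 5557 11114 tu0 tc1 rfl
theorem tc2 : allBelow (fun k => ft (Nat.add (Nat.succ 11114) k)) 5557 = true := by decide +kernel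
theorem tu2 : ∀ v, 1 ≤ v → v ≤ 16671 → ft v = true := slots_step ft 11114 5557 16671 tu1 tc2 rfl
theorem tc3 : allBelow (fun k => ft (Nat.add (Nat.succ 16671) k)) 5557 = true := by decide +kernel
theorem tu3 : ∀ v, 1 ≤ v → v ≤ 22228 → ft v = true := slots_step ft 16671 5557 22228 tu2 tc3 rfl
theorem tc4 : allBelow (fun k => ft (Nat.add (Nat.succ 22228) k)) 5557 = true := by decide +kernel
theorem tu4 : ∀ v, 1 ≤ v → v ≤ 27785 → ft v = true := slots_step ft 22228 5557 27785 tu3 tc4 rfl
theorem tc5 : allBelow (fun k => ft (Nat.add (Nat.succ 27785) k)) 3885 = true := by decide +kernel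
theorem tu5 : ∀ v, 1 ≤ v → v ≤ 31670 → ft v = true := slots_step ft 27785 3885 31670 tu4 tc5 rfl
theorem oc0 : allBelow (fun k => fo (Nat.add 0 k)) 308 = true := by decide +kernel
theorem ou0 : ∀ i, i < 308 → fo i = true := below_step fo 0 308 308 (below_zero fo) oc0 rfl
theorem oc1 : allBelow (fun k => fo (Nat.add 308 k)) 308 = true := by decide +kernel
theorem ou1 : ∀ i, i < 616 → fo i = true := below_step fo 308 308 616 ou0 oc1 rfl
theorem oc2 : allBelow (fun k => fo (Nat.add 616 k)) 308 = true := by decide +kernel
theorem ou2 : ∀ i, i < 924 → fo i = true := below_step fo 616 308 924 ou1 oc2 rfl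
theorem oc3 : allBelow (fun k => fo (Nat.add 924 k)) 308 = true := by decide +kernel
theorem ou3 : ∀ i, i < 1232 → fo i = true := below_step fo 924 308 1232 ou2 oc3 rfl
theorem oc4 : allBelow (fun k => fo (Nat.add 1232 k)) 308 = true := by decide +kernel
theorem ou4 : ∀ i, i < 1540 → fo i = true := below_step fo 1232 308 1540 ou3 oc4 rfl
theorem oc5 : allBelow (fun k => fo (Nat.add 1540 k)) 308 = true := by decide +kernel
theorem ou5 : ∀ i, i < 1848 → fo i = true := below_step fo 1540 308 1848 ou4 oc5 rfl
theorem oc6 : allBelow (fun k => fo (Nat.add 1848 k)) 308 = true := by decide +kernel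
theorem ou6 : ∀ i, i < 2156 → fo i = true := below_step fo 1848 308 2156 ou5 oc6 rfl
theorem oc7 : allBelow (fun k => fo (Nat.add 2156 k)) 308 = true := by decide +kernel
theorem ou7 : ∀ i, i < 2464 → fo i = true := below_step fo 2156 308 2464 ou6 oc7 rfl
theorem oc8 : allBelow (fun k => fo (Nat.add 2464 k)) 308 = true := by decide +kernel
theorem ou8 : ∀ i, i < 2772 → fo i = true := below_step fo 2464 308 2772 ou7 oc8 rfl
theorem oc9 : allBelow (fun k => fo (Nat.add 2772 k)) 308 = true := by decide +kernel
theorem ou9 : ∀ i, i < 3080 → fo i = true := below_step fo 2772 308 3080 ou8 oc9 rfl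
theorem oc10 : allBelow (fun k => fo (Nat.add 3080 k)) 308 = true := by decide +kernel
theorem ou10 : ∀ i, i < 3388 → fo i = true := below_step fo 3080 308 3388 ou9 oc10 rfl

end Cfsg.Agent.Lib.Helper35.Fi23a
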