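import Cfsg.Agent.Lib.Helper35.Fi23a.PChk2

set_option Elab.async false

namespace Cfsg.Agent.Lib.Helper35.Fi23a

open Cfsg.Agent.Lib.Helper35

theorem oc11 : allBelow (fun k => fo (Nat.add 3388 k)) 308 = true := by decide +kernel
theorem ou11 : ∀ i, i < 3696 → fo i = true := below_step fo 3388 308 3696 ou10 oc11 rfl
theorem oc12 : allBelow (fun k => fo (Nat.add 3696 k)) 308 = true := by decide +kernel
theorem ou12 : ∀ i, i < 4004 → fo i = true := below_step fo 3696 308 4004 ou11 oc12 rfl
theorem oc13 : allBelow (fun k => fo (Nat.add 4004 k)) 308 = true := by decide +kernel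
theorem ou13 : ∀ i, i < 4312 → fo i = true := below_step fo 4004 308 4312 ou12 oc13 rfl
theorem oc14 : allBelow (fun k => fo (Nat.add 4312 k)) 308 = true := by decide +kernel
theorem ou14 : ∀ i, i < 4620 → fo i = true := below_step fo 4312 308 4620 ou13 oc14 rfl
theorem oc15 : allBelow (fun k => fo (Nat.add 4620 k)) 308 = true := by decide +kernel
theorem ou15 : ∀ i, i < 4928 → fo i = true := below_step fo 4620 308 4928 ou14 oc15 rfl
theorem oc16 : allBelow (fun k => fo (Nat.add 4928 k)) 308 = true := by decide +kernel
theorem ou16 : ∀ i, i < 5236 → fo i = true := below_step fo 4928 308 5236 ou15 oc16 rfl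
theorem oc17 : allBelow (fun k => fo (Nat.add 5236 k)) 308 = true := by decide +kernel
theorem ou17 : ∀ i, i < 5544 → fo i = true := below_step fo 5236 308 5544 ou16 oc17 rfl
theorem oc18 : allBelow (fun k => fo (Nat.add 5544 k)) 308 = true := by decide +kernel
theorem ou18 : ∀ i, i < 5852 → fo i = true := below_step fo 5544 308 5852 ou17 oc18 rfl
theorem oc19 : allBelow (fun k => fo (Nat.add 5852 k)) 308 = true := by decide +kernel
theorem ou19 : ∀ i, i < 6160 → fo i = true := below_step fo 5852 308 6160 ou18 oc19 rfl
theorem oc20 : allBelow (fun k => fo (Nat.add 6160 k)) 308 = true := by decide +kernel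
theorem ou20 : ∀ i, i < 6468 → fo i = true := below_step fo 6160 308 6468 ou19 oc20 rfl
theorem oc21 : allBelow (fun k => fo (Nat.add 6468 k)) 308 = true := by decide +kernel
theorem ou21 : ∀ i, i < 6776 → fo i = true := below_step fo 6468 308 6776 ou20 oc21 rfl
theorem oc22 : allBelow (fun k => fo (Nat.add 6776 k)) 308 = true := by decide +kernel
theorem ou22 : ∀ i, i < 7084 → fo i = true := below_step fo 6776 308 7084 ou21 oc22 rfl
theorem oc23 : allBelow (fun k => fo (Nat.add 7084 k)) 308 = true := by decide +kernel
theorem ou23 : ∀ i, i < 7392 → fo i = true := below_step fo 7084 308 7392 ou22 oc23 rfl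
theorem oc24 : allBelow (fun k => fo (Nat.add 7392 k)) 308 = true := by decide +kernel
theorem ou24 : ∀ i, i < 7700 → fo i = true := below_step fo 7392 308 7700 ou23 oc24 rfl
theorem oc25 : allBelow (fun k => fo (Nat.add 7700 k)) 308 = true := by decide +kernel
theorem ou25 : ∀ i, i < 8008 → fo i = true := below_step fo 7700 308 8008 ou24 oc25 rfl
theorem oc26 : allBelow (fun k => fo (Nat.add 8008 k)) 308 = true := by decide +kernel
theorem ou26 : ∀ i, i < 8316 → fo i = true := below_step fo 8008 308 8316 ou25 oc26 rfl
theorem oc27 : allBelow (fun k => fo (Nat.add 8316 k)) 308 = true := by decide +kernel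
theorem ou27 : ∀ i, i < 8624 → fo i = true := below_step fo 8316 308 8624 ou26 oc27 rfl
theorem oc28 : allBelow (fun k => fo (Nat.add 8624 k)) 308 = true := by decide +kernel
theorem ou28 : ∀ i, i < 8932 → fo i = true := below_step fo 8624 308 8932 ou27 oc28 rfl
theorem oc29 : allBelow (fun k => fo (Nat.add 8932 k)) 308 = true := by decide +kernel
theorem ou29 : ∀ i, i < 9240 → fo i = true := below_step fo 8932 308 9240 ou28 oc29 rfl
theorem oc30 : allBelow (fun k => fo (Nat.add 9240 k)) 308 = true := by decide +kernel
theorem ou30 : ∀ i, i < 9548 → fo i = true := below_step fo 9240 308 9548 ou29 oc30 rfl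
theorem oc31 : allBelow (fun k => fo (Nat.add 9548 k)) 308 = true := by decide +kernel
theorem ou31 : ∀ i, i < 9856 → fo i = true := below_step fo 9548 308 9856 ou30 oc31 rfl
theorem oc32 : allBelow (fun k => fo (Nat.add 9856 k)) 308 = true := by decide +kernel
theorem ou32 : ∀ i, i < 10164 → fo i = true := below_step fo 9856 308 10164 ou31 oc32 rfl
theorem oc33 : allBelow (fun k => fo (Nat.add 10164 k)) 308 = true := by decide +kernel
theorem ou33 : ∀ i, i < 10472 → fo i = true := below_step fo 10164 308 10472 ou32 oc33 rfl
theorem oc34 : allBelow (fun k => fo (Nat.add 10472 k)) 308 = true := by decide +kernel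
theorem ou34 : ∀ i, i < 10780 → fo i = true := below_step fo 10472 308 10780 ou33 oc34 rfl
theorem oc35 : allBelow (fun k => fo (Nat.add 10780 k)) 308 = true := by decide +kernel
theorem ou35 : ∀ i, i < 11088 → fo i = true := below_step fo 10780 308 11088 ou34 oc35 rfl
theorem oc36 : allBelow (fun k => fo (Nat.add 11088 k)) 308 = true := by decide +kernel
theorem ou36 : ∀ i, i < 11396 → fo i = true := below_step fo 11088 308 11396 ou35 oc36 rfl
theorem oc37 : allBelow (fun k => fo (Nat.add 11396 k)) 308 = true := by decide +kernel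
theorem ou37 : ∀ i, i < 11704 → fo i = true := below_step fo 11396 308 11704 ou36 oc37 rfl
theorem oc38 : allBelow (fun k => fo (Nat.add 11704 k)) 308 = true := by decide +kernel
theorem ou38 : ∀ i, i < 12012 → fo i = true := below_step fo 11704 308 12012 ou37 oc38 rfl
theorem oc39 : allBelow (fun k => fo (Nat.add 12012 k)) 308 = true := by decide +kernel
theorem ou39 : ∀ i, i < 12320 → fo i = true := below_step fo 12012 308 12320 ou38 oc39 rfl
theorem oc40 : allBelow (fun k => fo (Nat.add 12320 k)) 308 = true := by decide +kernel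
theorem ou40 : ∀ i, i < 12628 → fo i = true := below_step fo 12320 308 12628 ou39 oc40 rfl
theorem oc41 : allBelow (fun k => fo (Nat.add 12628 k)) 308 = true := by decide +kernel
theorem ou41 : ∀ i, i < 12936 → fo i = true := below_step fo 12628 308 12936 ou40 oc41 rfl
theorem oc42 : allBelow (fun k => fo (Nat.add 12936 k)) 308 = true := by decide +kernel
theorem ou42 : ∀ i, i < 13244 → fo i = true := below_step fo 12936 308 13244 ou41 oc42 rfl
theorem oc43 : allBelow (fun k => fo (Nat.add 13244 k)) 308 = true := by decide +kernel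
theorem ou43 : ∀ i, i < 13552 → fo i = true := below_step fo 13244 308 13552 ou42 oc43 rfl
theorem oc44 : allBelow (fun k => fo (Nat.add 13552 k)) 308 = true := by decide +kernel
theorem ou44 : ∀ i, i < 13860 → fo i = true := below_step fo 13552 308 13860 ou43 oc44 rfl
theorem oc45 : allBelow (fun k => fo (Nat.add 13860 k)) 308 = true := by decide +kernel
theorem ou45 : ∀ i, i < 14168 → fo i = true := below_step fo 13860 308 14168 ou44 oc45 rfl
theorem oc46 : allBelow (fun k => fo (Nat.add 14168 k)) 308 = true := by decide +kernel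
theorem ou46 : ∀ i, i < 14476 → fo i = true := below_step fo 14168 308 14476 ou45 oc46 rfl
theorem oc47 : allBelow (fun k => fo (Nat.add 14476 k)) 308 = true := by decide +kernel
theorem ou47 : ∀ i, i < 14784 → fo i = true := below_step fo 14476 308 14784 ou46 oc47 rfl
theorem oc48 : allBelow (fun k => fo (Nat.add 14784 k)) 308 = true := by decide +kernel
theorem ou48 : ∀ i, i < 15092 → fo i = true := below_step fo 14784 308 15092 ou47 oc48 rfl
theorem oc49 : allBelow (fun k => fo (Nat.add 15092 k)) 308 = true := by decide +kernel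
theorem ou49 : ∀ i, i < 15400 → fo i = true := below_step fo 15092 308 15400 ou48 oc49 rfl
theorem oc50 : allBelow (fun k => fo (Nat.add 15400 k)) 308 = true := by decide +kernel
theorem ou50 : ∀ i, i < 15708 → fo i = true := below_step fo 15400 308 15708 ou49 oc50 rfl
theorem oc51 : allBelow (fun k => fo (Nat.add 15708 k)) 308 = true := by decide +kernel
theorem ou51 : ∀ i, i < 16016 → fo i = true := below_step fo 15708 308 16016 ou50 oc51 rfl
theorem oc52 : allBelow (fun k => fo (Nat.add 16016 k)) 308 = true := by decide +kernel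
theorem ou52 : ∀ i, i < 16324 → fo i = true := below_step fo 16016 308 16324 ou51 oc52 rfl
theorem oc53 : allBelow (fun k => fo (Nat.add 16324 k)) 308 = true := by decide +kernel
theorem ou53 : ∀ i, i < 16632 → fo i = true := below_step fo 16324 308 16632 ou52 oc53 rfl
theorem oc54 : allBelow (fun k => fo (Nat.add 16632 k)) 308 = true := by decide +kernel
theorem ou54 : ∀ i, i < 16940 → fo i = true := below_step fo 16632 308 16940 ou53 oc54 rfl
theorem oc55 : allBelow (fun k => fo (Nat.add 16940 k)) 308 = true := by decide +kernel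
theorem ou55 : ∀ i, i < 17248 → fo i = true := below_step fo 16940 308 17248 ou54 oc55 rfl
theorem oc56 : allBelow (fun k => fo (Nat.add 17248 k)) 308 = true := by decide +kernel
theorem ou56 : ∀ i, i < 17556 → fo i = true := below_step fo 17248 308 17556 ou55 oc56 rfl
theorem oc57 : allBelow (fun k => fo (Nat.add 17556 k)) 308 = true := by decide +kernel
theorem ou57 : ∀ i, i < 17864 → fo i = true := below_step fo 17556 308 17864 ou56 oc57 rfl
theorem oc58 : allBelow (fun k => fo (Nat.add 17864 k)) 308 = true := by decide +kernel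
theorem ou58 : ∀ i, i < 18172 → fo i = true := below_step fo 17864 308 18172 ou57 oc58 rfl
theorem oc59 : allBelow (fun k => fo (Nat.add 18172 k)) 308 = true := by decide +kernel
theorem ou59 : ∀ i, i < 18480 → fo i = true := below_step fo 18172 308 18480 ou58 oc59 rfl
theorem oc60 : allBelow (fun k => fo (Nat.add 18480 k)) 308 = true := by decide +kernel
theorem ou60 : ∀ i, i < 18788 → fo i = true := below_step fo 18480 308 18788 ou59 oc60 rfl
theorem oc61 : allBelow (fun k => fo (Nat.add 18788 k)) 308 = true := by decide +kernel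
theorem ou61 : ∀ i, i < 19096 → fo i = true := below_step fo 18788 308 19096 ou60 oc61 rfl
theorem oc62 : allBelow (fun k => fo (Nat.add 19096 k)) 308 = true := by decide +kernel
theorem ou62 : ∀ i, i < 19404 → fo i = true := below_step fo 19096 308 19404 ou61 oc62 rfl
theorem oc63 : allBelow (fun k => fo (Nat.add 19404 k)) 308 = true := by decide +kernel
theorem ou63 : ∀ i, i < 19712 → fo i = true := below_step fo 19404 308 19712 ou62 oc63 rfl
theorem oc64 : allBelow (fun k => fo (Nat.add 19712 k)) 308 = true := by decide +kernel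
theorem ou64 : ∀ i, i < 20020 → fo i = true := below_step fo 19712 308 20020 ou63 oc64 rfl
theorem oc65 : allBelow (fun k => fo (Nat.add 20020 k)) 308 = true := by decide +kernel
theorem ou65 : ∀ i, i < 20328 → fo i = true := below_step fo 20020 308 20328 ou64 oc65 rfl
theorem oc66 : allBelow (fun k => fo (Nat.add 20328 k)) 308 = true := by decide +kernel
theorem ou66 : ∀ i, i < 20636 → fo i = true := below_step fo 20328 308 20636 ou65 oc66 rfl
theorem oc67 : allBelow (fun k => fo (Nat.add 20636 k)) 308 = true := by decide +kernel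
theorem ou67 : ∀ i, i < 20944 → fo i = true := below_step fo 20636 308 20944 ou66 oc67 rfl
theorem oc68 : allBelow (fun k => fo (Nat.add 20944 k)) 308 = true := by decide +kernel
theorem ou68 : ∀ i, i < 21252 → fo i = true := below_step fo 20944 308 21252 ou67 oc68 rfl
theorem oc69 : allBelow (fun k => fo (Nat.add 21252 k)) 308 = true := by decide +kernel
theorem ou69 : ∀ i, i < 21560 → fo i = true := below_step fo 21252 308 21560 ou68 oc69 rfl
theorem oc70 : allBelow (fun k => fo (Nat.add 21560 k)) 308 = true := by decide +kernel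
theorem ou70 : ∀ i, i < 21868 → fo i = true := below_step fo 21560 308 21868 ou69 oc70 rfl
theorem oc71 : allBelow (fun k => fo (Nat.add 21868 k)) 308 = true := by decide +kernel
theorem ou71 : ∀ i, i < 22176 → fo i = true := below_step fo 21868 308 22176 ou70 oc71 rfl
theorem oc72 : allBelow (fun k => fo (Nat.add 22176 k)) 308 = true := by decide +kernel
theorem ou72 : ∀ i, i < 22484 → fo i = true := below_step fo 22176 308 22484 ou71 oc72 rfl
theorem oc73 : allBelow (fun k => fo (Nat.add 22484 k)) 308 = true := by decide +kernel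
theorem ou73 : ∀ i, i < 22792 → fo i = true := below_step fo 22484 308 22792 ou72 oc73 rfl
theorem oc74 : allBelow (fun k => fo (Nat.add 22792 k)) 308 = true := by decide +kernel
theorem ou74 : ∀ i, i < 23100 → fo i = true := below_step fo 22792 308 23100 ou73 oc74 rfl
theorem oc75 : allBelow (fun k => fo (Nat.add 23100 k)) 308 = true := by decide +kernel
theorem ou75 : ∀ i, i < 23408 → fo i = true := below_step fo 23100 308 23408 ou74 oc75 rfl
theorem oc76 : allBelow (fun k => fo (Nat.add 23408 k)) 308 = true := by decide +kernel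
theorem ou76 : ∀ i, i < 23716 → fo i = true := below_step fo 23408 308 23716 ou75 oc76 rfl
theorem oc77 : allBelow (fun k => fo (Nat.add 23716 k)) 308 = true := by decide +kernel
theorem ou77 : ∀ i, i < 24024 → fo i = true := below_step fo 23716 308 24024 ou76 oc77 rfl
theorem oc78 : allBelow (fun k => fo (Nat.add 24024 k)) 308 = true := by decide +kernel
theorem ou78 : ∀ i, i < 24332 → fo i = true := below_step fo 24024 308 24332 ou77 oc78 rfl
theorem oc79 : allBelow (fun k => fo (Nat.add 24332 k)) 308 = true := by decide +kernel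
theorem ou79 : ∀ i, i < 24640 → fo i = true := below_step fo 24332 308 24640 ou78 oc79 rfl
theorem oc80 : allBelow (fun k => fo (Nat.add 24640 k)) 308 = true := by decide +kernel
theorem ou80 : ∀ i, i < 24948 → fo i = true := below_step fo 24640 308 24948 ou79 oc80 rfl
theorem oc81 : allBelow (fun k => fo (Nat.add 24948 k)) 308 = true := by decide +kernel
theorem ou81 : ∀ i, i < 25256 → fo i = true := below_step fo 24948 308 25256 ou80 oc81 rfl
theorem oc82 : allBelow (fun k => fo (Nat.add 25256 k)) 308 = true := by decide +kernel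
theorem ou82 : ∀ i, i < 25564 → fo i = true := below_step fo 25256 308 25564 ou81 oc82 rfl
theorem oc83 : allBelow (fun k => fo (Nat.add 25564 k)) 308 = true := by decide +kernel
theorem ou83 : ∀ i, i < 25872 → fo i = true := below_step fo 25564 308 25872 ou82 oc83 rfl
theorem oc84 : allBelow (fun k => fo (Nat.add 25872 k)) 308 = true := by decide +kernel
theorem ou84 : ∀ i, i < 26180 → fo i = true := below_step fo 25872 308 26180 ou83 oc84 rfl
theorem oc85 : allBelow (fun k => fo (Nat.add 26180 k)) 308 = true := by decide +kernel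
theorem ou85 : ∀ i, i < 26488 → fo i = true := below_step fo 26180 308 26488 ou84 oc85 rfl
theorem oc86 : allBelow (fun k => fo (Nat.add 26488 k)) 308 = true := by decide +kernel
theorem ou86 : ∀ i, i < 26796 → fo i = true := below_step fo 26488 308 26796 ou85 oc86 rfl
theorem oc87 : allBelow (fun k => fo (Nat.add 26796 k)) 308 = true := by decide +kernel
theorem ou87 : ∀ i, i < 27104 → fo i = true := below_step fo 26796 308 27104 ou86 oc87 rfl
theorem oc88 : allBelow (fun k => fo (Nat.add 27104 k)) 308 = true := by decide +kernel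
theorem ou88 : ∀ i, i < 27412 → fo i = true := below_step fo 27104 308 27412 ou87 oc88 rfl
theorem oc89 : allBelow (fun k => fo (Nat.add 27412 k)) 308 = true := by decide +kernel
theorem ou89 : ∀ i, i < 27720 → fo i = true := below_step fo 27412 308 27720 ou88 oc89 rfl
theorem oc90 : allBelow (fun k => fo (Nat.add 27720 k)) 308 = true := by decide +kernel
theorem ou90 : ∀ i, i < 28028 → fo i = true := below_step fo 27720 308 28028 ou89 oc90 rfl
theorem oc91 : allBelow (fun k => fo (Nat.add 28028 k)) 308 = true := by decide +kernel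
theorem ou91 : ∀ i, i < 28336 → fo i = true := below_step fo 28028 308 28336 ou90 oc91 rfl
theorem oc92 : allBelow (fun k => fo (Nat.add 28336 k)) 308 = true := by decide +kernel
theorem ou92 : ∀ i, i < 28644 → fo i = true := below_step fo 28336 308 28644 ou91 oc92 rfl
theorem oc93 : allBelow (fun k => fo (Nat.add 28644 k)) 308 = true := by decide +kernel
theorem ou93 : ∀ i, i < 28952 → fo i = true := below_step fo 28644 308 28952 ou92 oc93 rfl
theorem oc94 : allBelow (fun k => fo (Nat.add 28952 k)) 308 = true := by decide +kernel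
theorem ou94 : ∀ i, i < 29260 → fo i = true := below_step fo 28952 308 29260 ou93 oc94 rfl
theorem oc95 : allBelow (fun k => fo (Nat.add 29260 k)) 308 = true := by decide +kernel
theorem ou95 : ∀ i, i < 29568 → fo i = true := below_step fo 29260 308 29568 ou94 oc95 rfl
theorem oc96 : allBelow (fun k => fo (Nat.add 29568 k)) 308 = true := by decide +kernel
theorem ou96 : ∀ i, i < 29876 → fo i = true := below_step fo 29568 308 29876 ou95 oc96 rfl
theorem oc97 : allBelow (fun k => fo (Nat.add 29876 k)) 308 = true := by decide +kernel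
theorem ou97 : ∀ i, i < 30184 → fo i = true := below_step fo 29876 308 30184 ou96 oc97 rfl
theorem oc98 : allBelow (fun k => fo (Nat.add 30184 k)) 308 = true := by decide +kernel
theorem ou98 : ∀ i, i < 30492 → fo i = true := below_step fo 30184 308 30492 ou97 oc98 rfl
theorem oc99 : allBelow (fun k => fo (Nat.add 30492 k)) 308 = true := by decide +kernel
theorem ou99 : ∀ i, i < 30800 → fo i = true := below_step fo 30492 308 30800 ou98 oc99 rfl
theorem oc100 : allBelow (fun k => fo (Nat.add 30800 k)) 308 = true := by decide +kernel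
theorem ou100 : ∀ i, i < 31108 → fo i = true := below_step fo 30800 308 31108 ou99 oc100 rfl
theorem oc101 : allBelow (fun k => fo (Nat.add 31108 k)) 308 = true := by decide +kernel
theorem ou101 : ∀ i, i < 31416 → fo i = true := below_step fo 31108 308 31416 ou100 oc101 rfl
theorem oc102 : allBelow (fun k => fo (Nat.add 31416 k)) 255 = true := by decide +kernel
theorem ou102 : ∀ i, i < 31671 → fo i = true := below_step fo 31416 255 31671 ou101 oc102 rfl
theorem l0z : countBelow fl0 0 = 0 := rfl
theorem l0k0 : countBelow (fun k => fl0 (Nat.add 0 k)) 16671 = 1 := by decide +kernel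
theorem l0n0 : countBelow fl0 16671 = 1 := countBelow_step fl0 0 16671 16671 0 1 1 l0z l0k0 rfl rfl
theorem l0k1 : countBelow (fun k => fl0 (Nat.add 16671 k)) 15000 = 0 := by decide +kernel
theorem l0n1 : countBelow fl0 31671 = 1 := countBelow_step fl0 16671 15000 31671 1 0 1 l0n0 l0k1 rfl rfl
theorem l1z : countBelow fl1 0 = 0 := rfl
theorem l1k0 : countBelow (fun k => fl1 (Nat.add 0 k)) 16671 = 13579 := by decide +kernel
theorem l1n0 : countBelow fl1 16671 = 13579 := countBelow_step fl1 0 16671 16671 0 13579 13579 l1z l1k0 rfl rfl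
theorem l1k1 : countBelow (fun k => fl1 (Nat.add 16671 k)) 15000 = 14581 := by decide +kernel
theorem l1n1 : countBelow fl1 31671 = 28160 := countBelow_step fl1 16671 15000 31671 13579 14581 28160 l1n0 l1k1 rfl rfl
theorem l2z : countBelow fl2 0 = 0 := rfl
theorem l2k0 : countBelow (fun k => fl2 (Nat.add 0 k)) 16671 = 3091 := by decide +kernel
theorem l2n0 : countBelow fl2 16671 = 3091 := countBelow_step fl2 0 16671 16671 0 3091 3091 l2z l2k0 rfl rfl
theorem l2k1 : countBelow (fun k => fl2 (Nat.add 16671 k)) 15000 = 419 := by decide +kernel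
theorem l2n1 : countBelow fl2 31671 = 3510 := countBelow_step fl2 16671 15000 31671 3091 419 3510 l2n0 l2k1 rfl rfl

end Cfsg.Agent.Lib.Helper35.Fi23a
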